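import Cfsg.Agent.Lib.Qd.Section
import Cfsg.Agent.Lib.Coprime.Action
import Cfsg.Agent.Lib.Coprime.PGroupFrattini
import Cfsg.Agent.Lib.Coprime.Core
import Cfsg.Agent.Lib.Invol.BaerSuzuki
import Cfsg.Agent.Lib.PGroup.FpfSections
import Cfsg.Agent.Lib.Fusion.ThompsonComplement

/-!
# Failure of stability gives sections `SL₂(p)` and `Qd(p)`
-/

set_option autoImplicit false
set_option linter.style.haveILetI false

open scoped commutatorElement

namespace CfsgLib.Qd

universe u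

variable {G : Type u} [Group G] [Finite G] {p : ℕ} [Fact p.Prime]

omit [Finite G] in
theorem quadratic_map {H : Type u} [Group H] (f : G →* H) {V : Subgroup G} {a : G}
    (h : ⁅⁅V, Subgroup.zpowers a⁆, Subgroup.zpowers a⁆ = ⊥) :
    ⁅⁅V.map f, Subgroup.zpowers (f a)⁆, Subgroup.zpowers (f a)⁆ = ⊥ := by
  rw [← MonoidHom.map_zpowers, ← Subgroup.map_commutator, ← Subgroup.map_commutator, h,
    Subgroup.map_bot]

omit [Finite G] in
theorem quadratic_conj {V : Subgroup G} {a x : G} (hx : x ∈ Subgroup.normalizer (V : Set G))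
    (h : ⁅⁅V, Subgroup.zpowers a⁆, Subgroup.zpowers a⁆ = ⊥) :
    ⁅⁅V, Subgroup.zpowers (x * a * x⁻¹)⁆, Subgroup.zpowers (x * a * x⁻¹)⁆ = ⊥ := by
  have hV : V.map (MulAut.conj x).toMonoidHom = V := by
    ext y
    constructor
    · rintro ⟨v, hv, rfl⟩
      exact (Subgroup.mem_normalizer_iff.1 hx v).1 hv
    · intro hy
      refine ⟨x⁻¹ * y * x, (Subgroup.mem_normalizer_iff''.1 hx y).1 hy, ?_⟩
      simp [mul_assoc]
  have := quadratic_map (MulAut.conj x).toMonoidHom h
  rwa [hV] at this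

/-- An element outside `O_p` makes more than a `p`-group with some conjugate. -/
theorem exists_pair_of_not_mem {A Q : Type u} [Group A] [Group Q] [Finite Q] (f : A →* Q)
    (hf : Function.Surjective f) {a : A} (h : f a ∉ Cfsg.pCore p Q) :
    ∃ x y : A, y ∈ Subgroup.closure {a, x * a * x⁻¹} ∧ ∀ e : ℕ, f (y ^ p ^ e) ≠ 1 := by
  by_contra hno
  push Not at hno
  refine h ?_
  obtain ⟨N, hN, hNp, hmem⟩ := CfsgLib.Invol.exists_normal_pGroup_mem (x := f a) (p := p) fun q => by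
    obtain ⟨x, rfl⟩ := hf q
    rintro ⟨z, hz⟩
    rw [← map_inv, ← map_mul, ← map_mul, ← Set.image_pair, ← MonoidHom.map_closure] at hz
    obtain ⟨y, hy, rfl⟩ := hz
    obtain ⟨e, he⟩ := hno x y hy
    exact ⟨e, Subtype.ext (by rw [SubgroupClass.coe_pow, ← map_pow, he]; rfl)⟩
  haveI := hN
  exact CfsgLib.Coprime.le_pCore hNp hmem

/-- Sections from a surjection of a subgroup. -/
theorem exists_section_of_surjective {Q : Type*} [Group Q] {Y : Subgroup G} (K : Subgroup G)
    (hK : K ≤ Y) (φ : K →* Q) (hφ : Function.Surjective φ) :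
    ∃ (K L : Subgroup G) (_ : (L.subgroupOf K).Normal), K ≤ Y ∧
      Nonempty ((K ⧸ L.subgroupOf K) ≃* Q) := by
  have hker : (φ.ker.map K.subtype).subgroupOf K = φ.ker :=
    Subgroup.comap_map_eq_self_of_injective K.subtype_injective _
  haveI hn : ((φ.ker.map K.subtype).subgroupOf K).Normal := hker.symm ▸ inferInstance
  exact ⟨K, _, hn, hK, ⟨(QuotientGroup.quotientMulEquivOfEq hker).trans
    (QuotientGroup.quotientKerEquivOfSurjective φ hφ)⟩⟩

/-- Two quadratic elements on a `p`-subgroup generating more than a `p`-group of operators give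
sections `Qd(p)` and `SL₂(p)`. -/
theorem sections_of_pair (hp : p ≠ 2) (P : Subgroup G) (hP : IsPGroup p P) {a b : G}
    (ha : a ∈ Subgroup.normalizer (P : Set G)) (hb : b ∈ Subgroup.normalizer (P : Set G))
    (hqa : ⁅⁅P, Subgroup.zpowers a⁆, Subgroup.zpowers a⁆ = ⊥)
    (hqb : ⁅⁅P, Subgroup.zpowers b⁆, Subgroup.zpowers b⁆ = ⊥)
    (hy : ∃ y ∈ Subgroup.closure {a, b}, ∀ e : ℕ, y ^ p ^ e ∉ Subgroup.centralizer (P : Set G)) :
    Cfsg.Involves ↥(Cfsg.qd p) G ∧
      ∃ (K L : Subgroup G) (_ : (L.subgroupOf K).Normal), K ≤ Subgroup.closure {a, b} ∧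
        Nonempty ((K ⧸ L.subgroupOf K) ≃* Matrix.SpecialLinearGroup (Fin 2) (ZMod p)) := by
  classical
  set Φ := (frattini P).map P.subtype with hΦdef
  set N := Subgroup.normalizer (Φ : Set G) with hN
  have hNP : Subgroup.normalizer (P : Set G) ≤ N := CfsgLib.PGroup.normalizer_le_normalizer_frattini P
  have hPN : P ≤ N := Subgroup.le_normalizer.trans hNP
  haveI : (Φ.subgroupOf N).Normal := Subgroup.normal_in_normalizer
  set π := QuotientGroup.mk' (Φ.subgroupOf N) with hπ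
  set V := (P.subgroupOf N).map π with hV
  have hone : ∀ z : N, (z : G) ∈ Φ → π z = 1 := fun z hz =>
    (QuotientGroup.eq_one_iff z).2 hz
  have hVea : Cfsg.IsElementaryAbelian p V := by
    refine ⟨⟨⟨fun u v => Subtype.ext ?_⟩⟩, ?_⟩
    · obtain ⟨x, hx, hxu⟩ := u.2
      obtain ⟨y, hy, hyv⟩ := v.2
      show (u : N ⧸ Φ.subgroupOf N) * v = v * u
      rw [← hxu, ← hyv, ← commutatorElement_eq_one_iff_mul_comm, ← map_commutatorElement]
      exact hone _ ⟨⁅(⟨x, hx⟩ : P), ⟨y, hy⟩⁆, CfsgLib.Coprime.commutator_le_frattini hP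
        (Subgroup.commutator_mem_commutator (Subgroup.mem_top _) (Subgroup.mem_top _)), rfl⟩
    · rintro _ ⟨x, hx, rfl⟩
      rw [← map_pow]
      exact hone _ ⟨(⟨x, hx⟩ : P) ^ p, CfsgLib.Coprime.pow_mem_frattini hP _, rfl⟩
  set a' : N := ⟨a, hNP ha⟩ with ha'
  set b' : N := ⟨b, hNP hb⟩ with hb'
  have hnorm : ∀ z : N, (z : G) ∈ Subgroup.normalizer (P : Set G) →
      π z ∈ Subgroup.normalizer (V : Set (N ⧸ Φ.subgroupOf N)) := fun z hz => by
    have hz' : z ∈ Subgroup.normalizer ((P.subgroupOf N : Subgroup N) : Set N) :=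
      Subgroup.mem_normalizer_iff.2 fun w => Subgroup.mem_normalizer_iff.1 hz (w : G)
    exact Subgroup.le_normalizer_map π (Subgroup.mem_map_of_mem π hz')
  have hq : ∀ z : N, ⁅⁅P, Subgroup.zpowers (z : G)⁆, Subgroup.zpowers (z : G)⁆ = ⊥ →
      ⁅⁅V, Subgroup.zpowers (π z)⁆, Subgroup.zpowers (π z)⁆ = ⊥ := fun z hz => by
    refine quadratic_map π (Subgroup.map_injective N.subtype_injective ?_)
    rw [Subgroup.map_commutator, Subgroup.map_commutator, MonoidHom.map_zpowers,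
      Subgroup.map_subgroupOf_eq_of_le hPN, Subgroup.map_bot]
    exact hz
  have hmap : (Subgroup.closure {a', b'}).map N.subtype = Subgroup.closure {a, b} := by
    rw [MonoidHom.map_closure, Set.image_pair]; rfl
  obtain ⟨y, hy, hye⟩ := hy
  have hyN : y ∈ Subgroup.normalizer (P : Set G) :=
    ((Subgroup.closure_le _).2 (by rintro x (rfl | rfl) <;> assumption) : _ ≤ _) hy
  rw [← hmap] at hy
  obtain ⟨y', hy', rfl⟩ := hy
  have hyV : ∀ e : ℕ, π y' ^ p ^ e ∉ Subgroup.centralizer (V : Set (N ⧸ Φ.subgroupOf N)) := by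
    intro f hf
    obtain ⟨k, l, hl, hkl⟩ :=
      Nat.exists_eq_pow_mul_and_not_dvd (orderOf_pos (y' : G)).ne' p (Fact.out : p.Prime).ne_one
    set y₀ := (y' : G) ^ p ^ (k + f) with hy₀
    have hcop : (orderOf y₀).Coprime p := by
      refine Nat.Coprime.coprime_dvd_left (orderOf_dvd_of_pow_eq_one (n := l) ?_)
        ((Fact.out : p.Prime).coprime_iff_not_dvd.2 hl).symm
      rw [hy₀, ← pow_mul, pow_add, mul_right_comm, ← hkl, pow_mul, pow_orderOf_eq_one, one_pow]
    obtain ⟨m, hm⟩ := IsPGroup.iff_card.1 (hP.to_subgroup (frattini P))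
    have hc := CfsgLib.Coprime.le_centralizer_of_trivial_on_frattini_quotient
      (A := Subgroup.zpowers y₀) (K := P) (Subgroup.zpowers_le.2 (pow_mem hyN _))
      (by rw [Nat.card_zpowers, hm]; exact hcop.pow_right m) fun w hw v hv => ?_
    · exact hye (k + f) (hc (Subgroup.mem_zpowers y₀))
    · obtain ⟨i, rfl⟩ := Subgroup.mem_zpowers_iff.1 hw
      have hmem : π ((y' ^ p ^ (k + f)) ^ i) ∈
          Subgroup.centralizer (V : Set (N ⧸ Φ.subgroupOf N)) := by
        rw [map_zpow, map_pow, pow_add, mul_comm, pow_mul]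
        exact zpow_mem (pow_mem hf _) i
      set z := (y' ^ p ^ (k + f)) ^ i with hz
      have h1 : π (z * ⟨v, hPN hv⟩ * z⁻¹ * ⟨v, hPN hv⟩⁻¹) = 1 := by
        rw [map_mul, map_mul, map_mul, map_inv, map_inv,
          ← Subgroup.mem_centralizer_iff.1 hmem (π ⟨v, hPN hv⟩) ⟨_, hv, rfl⟩,
          mul_inv_cancel_right, mul_inv_cancel]
      exact (QuotientGroup.eq_one_iff (G := N) _).1 h1
  obtain ⟨d⟩ := exists_naturalPair hp V hVea (hnorm a' ha) (hnorm b' hb) (hq a' hqa) (hq b' hqb)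
    ⟨π y', by rw [← Set.image_pair, ← MonoidHom.map_closure]; exact ⟨y', hy', rfl⟩, hyV⟩
  refine ⟨CfsgLib.Fusion.involves_of_injective N.subtype N.subtype_injective
    (CfsgLib.Fusion.involves_of_surjective π (QuotientGroup.mk'_surjective _) d.involves_qd), ?_⟩
  set K₀ := Subgroup.closure {a', b'} ⊓ d.K.comap π with hK₀
  let χ : K₀ →* d.K := (π.comp K₀.subtype).codRestrict d.K fun x => x.2.2
  have hχ : Function.Surjective χ := by
    rintro ⟨k, hk⟩
    have hk' := d.K_le hk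
    rw [← Set.image_pair, ← MonoidHom.map_closure] at hk'
    obtain ⟨z, hz, rfl⟩ := hk'
    exact ⟨⟨z, hz, hk⟩, rfl⟩
  let eK := K₀.equivMapOfInjective N.subtype N.subtype_injective
  exact exists_section_of_surjective (K₀.map N.subtype) ((Subgroup.map_mono inf_le_left).trans hmap.le)
    ((d.ψ.comp χ).comp eK.symm.toMonoidHom) ((d.ψ_surj.comp hχ).comp eK.symm.surjective)

/-- An element acting quadratically and outside `O_p` gives sections `Qd(p)` and `SL₂(p)`. -/
theorem sections_of_not_mem (hp : p ≠ 2) (P : Subgroup G) (hP : IsPGroup p P) {a : G}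
    (ha : a ∈ Subgroup.normalizer (P : Set G))
    (hq : ⁅⁅P, Subgroup.zpowers a⁆, Subgroup.zpowers a⁆ = ⊥)
    (h : (QuotientGroup.mk' ((Subgroup.centralizer (P : Set G)).subgroupOf
        (Subgroup.normalizer (P : Set G)))) ⟨a, ha⟩ ∉ Cfsg.pCore p _) :
    Cfsg.Involves ↥(Cfsg.qd p) G ∧
      ∃ (K L : Subgroup G) (_ : (L.subgroupOf K).Normal), K ≤ Subgroup.normalizer (P : Set G) ∧
        Nonempty ((K ⧸ L.subgroupOf K) ≃* Matrix.SpecialLinearGroup (Fin 2) (ZMod p)) := by
  obtain ⟨x, y, hy, hye⟩ := exists_pair_of_not_mem _ (QuotientGroup.mk'_surjective _) h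
  have hy' : (y : G) ∈ Subgroup.closure {a, (x : G) * a * (x : G)⁻¹} := by
    have := Subgroup.mem_map_of_mem (Subgroup.normalizer (P : Set G)).subtype hy
    rwa [MonoidHom.map_closure, Set.image_pair] at this
  have hb := mul_mem (mul_mem x.2 ha) (inv_mem x.2)
  obtain ⟨h1, K, L, hn, hK, he⟩ := sections_of_pair hp P hP ha hb hq (quadratic_conj x.2 hq)
    ⟨_, hy', fun e he => hye e ((QuotientGroup.eq_one_iff _).2 he)⟩
  exact ⟨h1, K, L, hn,
    hK.trans ((Subgroup.closure_le _).2 (by rintro z (rfl | rfl) <;> assumption)), he⟩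

/-- A normal `p`-subgroup with unstable action gives sections `Qd(p)` and `SL₂(p)`. -/
theorem sections_of_not_isPStableOn (hp : p ≠ 2) (P : Subgroup G) [P.Normal] (hP : IsPGroup p P)
    (h : ¬ Cfsg.IsPStableOn p P) :
    Cfsg.Involves ↥(Cfsg.qd p) G ∧
      ∃ (K L : Subgroup G) (_ : (L.subgroupOf K).Normal), K ≤ ⊤ ∧
        Nonempty ((K ⧸ L.subgroupOf K) ≃* Matrix.SpecialLinearGroup (Fin 2) (ZMod p)) := by
  simp only [Cfsg.IsPStableOn, not_forall] at h
  obtain ⟨a, hq, ha⟩ := h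
  obtain ⟨x, y, hy, hye⟩ :=
    exists_pair_of_not_mem (QuotientGroup.mk' _) (QuotientGroup.mk'_surjective _) ha
  have hN : ∀ z : G, z ∈ Subgroup.normalizer (P : Set G) := fun z =>
    P.normalizer_eq_top.symm ▸ Subgroup.mem_top z
  obtain ⟨h1, K, L, hn, -, he⟩ := sections_of_pair hp P hP (hN a) (hN _) hq
    (quadratic_conj (hN x) hq) ⟨y, hy, fun e he => hye e ((QuotientGroup.eq_one_iff _).2 he)⟩
  exact ⟨h1, K, L, hn, le_top, he⟩

end CfsgLib.Qd
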