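import Cfsg.Agent.Lib.Qd.QdGroup
import Cfsg.Agent.Lib.Fusion.System.QdFree

/-!
# A section `Qd(p)` gives a section `SL₂(p)`
-/

set_option autoImplicit false
set_option linter.style.haveILetI false

open Subgroup

namespace CfsgLib.Qd

universe u

variable {p : ℕ} [Fact p.Prime]

/-- Involvement is transitive. -/
theorem involves_trans {X Y G : Type*} [Group X] [Group Y] [Group G] (h : Cfsg.Involves X Y)
    (h' : Cfsg.Involves Y G) : Cfsg.Involves X G := by
  obtain ⟨K, R, hR, ⟨e⟩⟩ := h'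
  haveI := hR
  exact CfsgLib.Fusion.involves_of_injective K.subtype K.subtype_injective
    (CfsgLib.Fusion.involves_of_surjective (QuotientGroup.mk' (R.subgroupOf K))
      (QuotientGroup.mk'_surjective _)
      (CfsgLib.Fusion.involves_of_injective e.symm.toMonoidHom e.symm.injective h))

/-- `Qd(p)` maps onto `SL₂(p)`. -/
theorem involves_slTwo_qd :
    Cfsg.Involves (Matrix.SpecialLinearGroup (Fin 2) (ZMod p)) ↥(Cfsg.qd p) := by
  choose lin w hlin using fun M : Cfsg.qd p => (mem_qd_iff M.1).1 M.2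
  let l : ↥(Cfsg.qd p) →* Matrix.SpecialLinearGroup (Fin 2) (ZMod p) := MonoidHom.mk' lin fun a b =>
    (affine_inj (by rw [← hlin, Subgroup.coe_mul, hlin a, hlin b, affine_mul])).1
  have hl : Function.Surjective l := fun A => by
    refine ⟨⟨affine A 0, (mem_qd_iff _).2 ⟨A, 0, rfl⟩⟩, ?_⟩
    exact (affine_inj (hlin ⟨affine A 0, (mem_qd_iff _).2 ⟨A, 0, rfl⟩⟩)).1.symm
  refine CfsgLib.Fusion.involves_of_surjective l hl ⟨⊤, ⊥, inferInstance, ⟨?_⟩⟩
  exact ((QuotientGroup.quotientMulEquivOfEq (Subgroup.bot_subgroupOf _)).trans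
    QuotientGroup.quotientBot).trans Subgroup.topEquiv

/-- Without sections `SL₂(p)` there is no section `Qd(p)`. -/
theorem not_involves_qd_of_slTwo {G : Type*} [Group G]
    (h : ¬ Cfsg.Involves (Matrix.SpecialLinearGroup (Fin 2) (ZMod p)) G) :
    ¬ Cfsg.Involves ↥(Cfsg.qd p) G :=
  fun hq => h (involves_trans involves_slTwo_qd hq)

/-- A section of a subgroup is a section inside it. -/
theorem exists_section_le {X G : Type*} [Group X] [Group G] (N : Subgroup G)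
    (h : Cfsg.Involves X ↥N) :
    ∃ (K R : Subgroup G) (_ : (R.subgroupOf K).Normal), K ≤ N ∧
      Nonempty (K ⧸ R.subgroupOf K ≃* X) := by
  obtain ⟨K, R, hn, ⟨e⟩⟩ := h
  set R₀ := (R ⊓ K).map N.subtype with hR₀
  let f' : K ≃* K.map N.subtype := K.equivMapOfInjective N.subtype N.subtype_injective
  have hmap : (R.subgroupOf K).map f'.toMonoidHom = R₀.subgroupOf (K.map N.subtype) := by
    ext ⟨y, hy⟩
    constructor
    · rintro ⟨⟨x, hx⟩, hxR, hxy⟩
      exact ⟨x, ⟨hxR, hx⟩, congrArg Subtype.val hxy⟩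
    · rintro ⟨x, ⟨hxR, hx⟩, hxy⟩
      exact ⟨⟨x, hx⟩, hxR, Subtype.ext hxy⟩
  haveI hn' : (R₀.subgroupOf (K.map N.subtype)).Normal := hmap ▸ hn.map _ f'.surjective
  exact ⟨K.map N.subtype, R₀, hn', Subgroup.map_subtype_le K,
    ⟨(QuotientGroup.congr _ _ f' hmap).symm.trans e⟩⟩

open CfsgLib.Fusion in
/-- Normalizers of centric subgroups free of `Qd(p)` suffice. -/
theorem noQd_group_of_centric {G : Type u} [Group G] [Finite G] (S : Sylow p G)
    (h : ∀ V : Subgroup G, (Cfsg.groupFusionSystem (S : Subgroup G)).IsCentric V →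
      ¬ Cfsg.Involves ↥(Cfsg.qd p) ↥(Subgroup.normalizer (V : Set G))) :
    NoQd p (Cfsg.groupFusionSystem (S : Subgroup G)) := by
  intro Q₀ U₀ a₀ b₀ d₀
  obtain ⟨Q, U, V, a, b, d, hVc⟩ := exists_centric_data S.2 (isSaturated_group S) d₀
  obtain ⟨-, g, hg⟩ := isMap_group_iff.1 d.mapA
  obtain ⟨-, k, hk⟩ := isMap_group_iff.1 d.mapB
  have hn : ∀ (c : G → G) (g : G), (∀ x ∈ V, c x = g * x * g⁻¹) →
      IsMap (Cfsg.groupFusionSystem (S : Subgroup G)) V c → ∀ W : Subgroup G, W ≤ V → img W c = W →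
      g ∈ Subgroup.normalizer (W : Set G) := by
    intro c g hc hcm W hW hWc
    refine conjBy_eq_iff.1 (conjBy_eq_of_le (conjBy_le_iff.2 fun x hx => ?_))
    rw [← hc x (hW hx)]
    exact mem_of_img_eq hcm hW hWc hx
  have hga : ∀ x ∈ V, a x = g * x * g⁻¹ := fun x hx => (hg x hx).2
  have hkb : ∀ x ∈ V, b x = k * x * k⁻¹ := fun x hx => (hk x hx).2
  set H := Subgroup.normalizer (V : Set G) with hH
  have hgH : g ∈ H := hn a g hga d.mapA V le_rfl d.imgAV
  have hkH : k ∈ H := hn b k hkb d.mapB V le_rfl d.imgBV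
  have hVH : V ≤ H := Subgroup.le_normalizer
  have hmem : ∀ (W : Subgroup G) (z : G) (hz : z ∈ H), z ∈ Subgroup.normalizer (W : Set G) →
      (⟨z, hz⟩ : H) ∈ Subgroup.normalizer (W.subgroupOf H : Set H) := fun W z hz hzW =>
    Subgroup.mem_normalizer_iff.2 fun y => (Subgroup.mem_normalizer_iff.1 hzW (y : G))
  have hQV : Q ≤ V := d.leU.trans d.leV
  refine h V hVc (CfsgLib.Qd.involves_of_cond (Q.subgroupOf H) (U.subgroupOf H)
    (⟨g, hgH⟩ : H) ⟨k, hkH⟩ (Subgroup.comap_mono d.leU)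
    (hmem Q g hgH (hn a g hga d.mapA Q hQV d.imgAQ))
    (hmem U g hgH (hn a g hga d.mapA U d.leV d.imgAU))
    (hmem Q k hkH (hn b k hkb d.mapB Q hQV d.imgBQ))
    (hmem U k hkH (hn b k hkb d.mapB U d.leV d.imgBU)) ?_)
  refine (cond_iff (fun y : H => (y : G)) (fun y => ⟨fun hy => ?_, ?_⟩) (fun x _ => Iff.rfl)
    (fun x _ y _ => rfl) (fun x hx => ?_) (fun x hx => ?_)
    (fun x hx => ?_) (fun x hx => ?_)).2 d.cond
  · exact ⟨⟨y, hVH (d.leV hy)⟩, hy, rfl⟩
  · rintro ⟨x, hx, rfl⟩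
    exact hx
  · exact (Subgroup.mem_normalizer_iff.1 (hn a g hga d.mapA U d.leV d.imgAU) (x : G)).1 hx
  · exact (Subgroup.mem_normalizer_iff.1 (hn b k hkb d.mapB U d.leV d.imgBU) (x : G)).1 hx
  · exact hga (x : G) (d.leV hx)
  · exact hkb (x : G) (d.leV hx)

end CfsgLib.Qd
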