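import Cfsg.Agent.Lib.Qd.Unstable
import Cfsg.Agent.Lib.Fusion.System.AutStable

/-!
# Quadratic pairs modulo a centralized subgroup give quadratic pairs

Two elements acting quadratically modulo a centralized subgroup and generating more than a
`p`-group of operators yield such a pair acting quadratically on some subgroup.
-/

set_option autoImplicit false
set_option linter.style.haveILetI false
set_option linter.unusedSectionVars false

open scoped commutatorElement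

namespace CfsgLib.Qd

universe u

variable {G : Type u} [Group G] [Finite G] {p : ℕ} [Fact p.Prime]

/-- `a` acts on `P` quadratically modulo `K`, in the elementwise sense. -/
def QuadMod (K P : Subgroup G) (a : G) : Prop :=
  ∀ x ∈ P, (x⁻¹ * (a * x * a⁻¹))⁻¹ * (a * (x⁻¹ * (a * x * a⁻¹)) * a⁻¹) ∈ K

/-- A `p`-element commutes with `u` when it commutes with `u * u`, `p` odd. -/
theorem commute_of_commute_sq (hp : p ≠ 2) {u n : G} (hu : ∃ k : ℕ, u ^ p ^ k = 1)
    (h : Commute (u * u) n) : Commute u n := by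
  obtain ⟨k, hk⟩ := hu
  obtain ⟨m, hm⟩ := ((Fact.out : p.Prime).odd_of_ne_two hp).pow (n := k)
  have he : (u * u) ^ (m + 1) = u := by
    rw [← pow_two, ← pow_mul, show 2 * (m + 1) = p ^ k + 1 by omega, pow_succ, hk, one_mul]
  exact he ▸ h.pow_left _

/-- An element of order prime to `p` centralizing `N` and acting trivially on `P` modulo `N`
centralizes `P`. -/
theorem commute_of_chain {N P : Subgroup G} (hP : IsPGroup p P) (hNP : N ≤ P) {y : G}
    (hy : (orderOf y).Coprime p) (hN : ∀ n ∈ N, y * n * y⁻¹ = n) {x : G}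
    (hxy : x⁻¹ * (y * x * y⁻¹) ∈ N) : y * x * y⁻¹ = x := by
  set c := x⁻¹ * (y * x * y⁻¹) with hc
  have key : ∀ i : ℕ, y ^ i * x * (y ^ i)⁻¹ = x * c ^ i := by
    intro i
    induction i with
    | zero => simp
    | succ i hi =>
      calc y ^ (i + 1) * x * (y ^ (i + 1))⁻¹ = y * (y ^ i * x * (y ^ i)⁻¹) * y⁻¹ := by
            rw [pow_succ']; group
        _ = y * x * y⁻¹ * (y * c ^ i * y⁻¹) := by rw [hi]; group
        _ = x * c * c ^ i := by rw [hN _ (pow_mem hxy i), hc, mul_inv_cancel_left]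
        _ = x * c ^ (i + 1) := by rw [mul_assoc, ← pow_succ']
  have h1 := key (orderOf y)
  rw [pow_orderOf_eq_one, one_mul, inv_one, mul_one, left_eq_mul] at h1
  obtain ⟨k, hk⟩ := hP ⟨c, hNP hxy⟩
  have hk' : c ^ p ^ k = 1 := by simpa using congrArg Subtype.val hk
  have h2 : c = 1 := orderOf_eq_one_iff.1 <| Nat.dvd_one.1 <| by
    have := Nat.dvd_gcd (orderOf_dvd_of_pow_eq_one h1) (orderOf_dvd_of_pow_eq_one hk')
    rwa [(hy.pow_right k)] at this
  exact (inv_mul_eq_one.1 h2).symm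

/-- An element acting as a transvection on a group of class two is quadratic. -/
theorem quadMod_transvection {e f a h : G} (hc1 : Commute e ⁅e, f⁆) (hc2 : Commute f ⁅e, f⁆)
    (hh : h ∈ Subgroup.zpowers e) (hae : a * e * a⁻¹ = e) (haf : a * f * a⁻¹ = h * f * h) :
    QuadMod ⊥ (Subgroup.closure {e, f}) a ∧
      a ∈ Subgroup.normalizer (Subgroup.closure {e, f} : Set G) := by
  set P := Subgroup.closure ({e, f} : Set G) with hP
  set c := ⁅e, f⁆ with hc
  set M := Subgroup.closure ({e, c} : Set G) with hM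
  have heP : e ∈ P := Subgroup.subset_closure (Or.inl rfl)
  have hfP : f ∈ P := Subgroup.subset_closure (Or.inr rfl)
  have hMP : M ≤ P := (Subgroup.closure_le _).2 (by
    rintro z (rfl | rfl)
    · exact heP
    · show ⁅e, f⁆ ∈ P
      rw [commutatorElement_def]
      exact mul_mem (mul_mem (mul_mem heP hfP) (inv_mem heP)) (inv_mem hfP))
  have hhM : h ∈ M := Subgroup.zpowers_le.2 (show e ∈ M from Subgroup.subset_closure (Or.inl rfl)) hh
  have hhc : Commute h c := by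
    obtain ⟨i, rfl⟩ := Subgroup.mem_zpowers_iff.1 hh
    exact hc1.zpow_left i
  have hhe : Commute h e := by
    obtain ⟨i, rfl⟩ := Subgroup.mem_zpowers_iff.1 hh
    exact (Commute.refl e).zpow_left i
  have hac : a * c * a⁻¹ = c := by
    calc a * c * a⁻¹ = (a * e * a⁻¹) * (a * f * a⁻¹) * (a * e * a⁻¹)⁻¹ * (a * f * a⁻¹)⁻¹ := by
          rw [hc, commutatorElement_def]; group
      _ = (e * h) * f * (e⁻¹ * h * h⁻¹) * f⁻¹ * h⁻¹ := by
          rw [hae, haf]
          have hhe' : e⁻¹ * h = h * e⁻¹ := (hhe.inv_right).eq.symm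
          rw [hhe']
          group
      _ = h * c * h⁻¹ := by rw [hhe.eq.symm, hc, commutatorElement_def]; group
      _ = c := by rw [hhc.eq, mul_inv_cancel_right]
  have hfix : ∀ m ∈ M, a * m * a⁻¹ = m := by
    intro m hm
    induction hm using Subgroup.closure_induction with
    | mem z hz =>
      rcases hz with rfl | rfl
      · exact hae
      · exact hac
    | one => group
    | mul x y _ _ hx hy => rw [show a * (x * y) * a⁻¹ = (a * x * a⁻¹) * (a * y * a⁻¹) by group, hx, hy]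
    | inv x _ hx => rw [show a * x⁻¹ * a⁻¹ = (a * x * a⁻¹)⁻¹ by group, hx]
  have hgen : ∀ g ∈ ({e, f} : Set G), ∀ m ∈ M, g * m * g⁻¹ ∈ M := by
    intro g hg m hm
    induction hm using Subgroup.closure_induction with
    | mem z hz =>
      have he : e ∈ M := Subgroup.subset_closure (Or.inl rfl)
      have hcM : c ∈ M := Subgroup.subset_closure (Or.inr rfl)
      rcases hg with hg | hg <;> rcases hz with hz | hz <;>
        rw [show g = _ from hg, show z = _ from hz]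
      · simpa using he
      · rw [hc1.eq, mul_inv_cancel_right]; exact hcM
      · rw [show f * e * f⁻¹ = c⁻¹ * e by rw [hc, commutatorElement_def]; group]
        exact mul_mem (inv_mem hcM) he
      · rw [hc2.eq, mul_inv_cancel_right]; exact hcM
    | one => simp
    | mul x y _ _ hx hy =>
      rw [show g * (x * y) * g⁻¹ = (g * x * g⁻¹) * (g * y * g⁻¹) by group]
      exact mul_mem hx hy
    | inv x _ hx =>
      rw [show g * x⁻¹ * g⁻¹ = (g * x * g⁻¹)⁻¹ by group]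
      exact inv_mem hx
  have hnorm : P ≤ Subgroup.normalizer (M : Set G) := (Subgroup.closure_le _).2 fun g hg =>
    CfsgLib.Fusion.conjBy_eq_iff.1 (CfsgLib.Fusion.conjBy_eq_of_le
      (CfsgLib.Fusion.conjBy_le_iff.2 (hgen g hg)))
  have hdiff : ∀ x ∈ P, x⁻¹ * (a * x * a⁻¹) ∈ M := by
    intro x hx
    induction hx using Subgroup.closure_induction with
    | mem z hz =>
      rcases hz with rfl | rfl
      · rw [hae, inv_mul_cancel]; exact one_mem _
      · rw [haf, show z⁻¹ * (h * z * h) = (z⁻¹ * h * z) * h by group]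
        exact mul_mem ((Subgroup.mem_normalizer_iff''.1 (hnorm hfP) h).1 hhM) hhM
    | one => simp
    | mul x y _ hy hx' hy' =>
      rw [show (x * y)⁻¹ * (a * (x * y) * a⁻¹) =
        (y⁻¹ * (x⁻¹ * (a * x * a⁻¹)) * y) * (y⁻¹ * (a * y * a⁻¹)) by group]
      exact mul_mem ((Subgroup.mem_normalizer_iff''.1 (hnorm hy) _).1 hx') hy'
    | inv x hx hx' =>
      rw [show x⁻¹⁻¹ * (a * x⁻¹ * a⁻¹) = x * (x⁻¹ * (a * x * a⁻¹))⁻¹ * x⁻¹ by group]
      exact (Subgroup.mem_normalizer_iff.1 (hnorm hx) _).1 (inv_mem hx')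
  refine ⟨fun x hx => ?_, CfsgLib.Fusion.conjBy_eq_iff.1 (CfsgLib.Fusion.conjBy_eq_of_le
    (CfsgLib.Fusion.conjBy_le_iff.2 fun x hx => ?_))⟩
  · rw [Subgroup.mem_bot, inv_mul_eq_one]
    exact (hfix _ (hdiff x hx)).symm
  · have := mul_mem hx (hMP (hdiff x hx))
    rwa [mul_inv_cancel_left] at this

/-- The elements inverted by `t`. -/
def Inverted (t u : G) : Prop := t * u * t⁻¹ = u⁻¹

theorem Inverted.pow {t u : G} (h : Inverted t u) (i : ℕ) : Inverted t (u ^ i) := by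
  show t * u ^ i * t⁻¹ = (u ^ i)⁻¹
  rw [← conj_pow, h, inv_pow]

theorem Inverted.sandwich {t h f : G} (hh : Inverted t h) (hf : Inverted t f) :
    Inverted t (h * f * h) := by
  show t * (h * f * h) * t⁻¹ = (h * f * h)⁻¹
  rw [show t * (h * f * h) * t⁻¹ = (t * h * t⁻¹) * (t * f * t⁻¹) * (t * h * t⁻¹) by group, hh, hf]
  group

/-- From a natural module: a pair of quadratic elements on the subgroup of inverted lifts. -/
theorem exists_quadratic_pair_of_lift (hp : p ≠ 2) {N P : Subgroup G} (hP : IsPGroup p P)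
    (hNP : N ≤ P) (hPN : ∀ x ∈ P, ∀ n ∈ N, x * n * x⁻¹ ∈ N) {K₀ : Subgroup G}
    (hK₀ : ∀ k ∈ K₀, ∀ x ∈ P, k * x * k⁻¹ ∈ P)
    (Ψ : K₀ →* Matrix.SpecialLinearGroup (Fin 2) (ZMod p)) (hΨ : Function.Surjective Ψ)
    (hfix : ∀ k ∈ K₀, (orderOf k).Coprime p → ∀ n ∈ N, k * n * k⁻¹ = n)
    (R : (Fin 2 → ZMod p) → G → Prop)
    (hRP : ∀ w x, R w x → x ∈ P) (hRe : ∀ w, ∃ x, R w x) (hR0 : R 0 1)
    (hRN : ∀ w x y, R w x → R w y → x⁻¹ * y ∈ N)
    (hRd : ∀ w w' x, R w x → R w' x → w = w')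
    (hRm : ∀ w w' x y, R w x → R w' y → R (w + w') (x * y))
    (hRc : ∀ (k : K₀) w x, R w x → R ((Ψ k).1.mulVec w) ((k : G) * x * (k : G)⁻¹)) :
    ∃ (P₀ : Subgroup G) (a b : G), P₀ ≤ P ∧ a ∈ K₀ ∧ b ∈ K₀ ∧
      a ∈ Subgroup.normalizer (P₀ : Set G) ∧ b ∈ Subgroup.normalizer (P₀ : Set G) ∧
      QuadMod ⊥ P₀ a ∧ QuadMod ⊥ P₀ b ∧
      ∃ y ∈ Subgroup.closure {a, b}, ∀ e : ℕ, ∃ x ∈ P₀, y ^ p ^ e * x * (y ^ p ^ e)⁻¹ ≠ x := by
  classical
  have h20 : (2 : ZMod p) ≠ 0 := by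
    rw [show (2 : ZMod p) = ((2 : ℕ) : ZMod p) by norm_num, Ne, ZMod.natCast_eq_zero_iff]
    exact fun h => hp ((Nat.prime_dvd_prime_iff_eq Fact.out Nat.prime_two).1 h)
  haveI : Fact (Nat.Prime 2) := ⟨Nat.prime_two⟩
  set Z := Subgroup.zpowers (-1 : Matrix.SpecialLinearGroup (Fin 2) (ZMod p)) with hZdef
  haveI : Z.Normal := ⟨fun x hx A => by
    obtain ⟨n, rfl⟩ := Subgroup.mem_zpowers_iff.1 hx
    rw [← conj_zpow, show A * -1 * A⁻¹ = (-1 : Matrix.SpecialLinearGroup (Fin 2) (ZMod p)) by simp]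
    exact zpow_mem (Subgroup.mem_zpowers _) n⟩
  set S := Z.comap Ψ with hS
  obtain ⟨t₀, ht₀⟩ := hΨ (-1)
  obtain ⟨k, l, hl, hkl⟩ :=
    Nat.exists_eq_pow_mul_and_not_dvd (orderOf_pos t₀).ne' 2 (by norm_num)
  set t := t₀ ^ l with htd
  have htψ : Ψ t = -1 := by
    rw [htd, map_pow, ht₀]
    exact (Nat.odd_iff.2 (Nat.two_dvd_ne_zero.1 hl)).neg_one_pow
  set tS : S := ⟨t, by rw [hS, Subgroup.mem_comap, htψ]; exact Subgroup.mem_zpowers _⟩ with htS
  have htp : IsPGroup 2 (Subgroup.zpowers tS) := by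
    refine IsPGroup.iff_card.2 ?_
    rw [Nat.card_zpowers]
    obtain ⟨i, -, hi⟩ := (Nat.dvd_prime_pow Nat.prime_two).1
      (orderOf_dvd_of_pow_eq_one (x := tS) (n := 2 ^ k)
        (Subtype.ext (by rw [SubgroupClass.coe_pow]; show (t₀ ^ l) ^ 2 ^ k = 1
                         rw [← pow_mul, mul_comm, ← hkl, pow_orderOf_eq_one])))
    exact ⟨i, hi⟩
  obtain ⟨T, hT⟩ := htp.exists_le_sylow
  set T' := (T : Subgroup S).map S.subtype with hT'
  set M := Subgroup.normalizer (T' : Set K₀) with hM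
  have hfr : M ⊔ S = ⊤ := Sylow.normalizer_sup_eq_top T
  have htT : t ∈ T' := ⟨tS, hT (Subgroup.mem_zpowers tS), rfl⟩
  have hsurj : ∀ A, ∃ x ∈ M, Ψ x = A := by
    intro A
    obtain ⟨x, rfl⟩ := hΨ A
    have hx : Ψ x ∈ M.map Ψ ⊔ Z := by
      have h := Subgroup.mem_map_of_mem Ψ (hfr ▸ Subgroup.mem_top x : x ∈ M ⊔ S)
      rw [Subgroup.map_sup] at h
      exact sup_le_sup_left (Subgroup.map_comap_le Ψ Z) _ h
    rw [sup_of_le_left (Subgroup.zpowers_le.2 (Subgroup.mem_map.2 ⟨t, Subgroup.le_normalizer htT, htψ⟩))] at hx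
    exact hx
  have hT2 : ∀ x ∈ T', (orderOf (x : G)).Coprime p := by
    rintro _ ⟨x, hx, rfl⟩
    obtain ⟨i, hi⟩ := T.2 ⟨x, hx⟩
    refine Nat.Coprime.coprime_dvd_left (orderOf_dvd_of_pow_eq_one (n := 2 ^ i) ?_)
      (((Nat.coprime_primes Nat.prime_two Fact.out).2 (Ne.symm hp)).pow_left i)
    exact congrArg (fun z : (T : Subgroup S) => (((z : S) : K₀) : G)) hi
  -- elements over the identity with order prime to `p`
  have htriv : ∀ x : K₀, Ψ x = 1 → (orderOf (x : G)).Coprime p → ∀ w z, R w z →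
      (x : G) * z * (x : G)⁻¹ = z := by
    intro x hx ho w z hz
    refine commute_of_chain hP hNP ho (fun n hn => hfix _ x.2 ho n hn) ?_
    have h := hRc x w z hz
    rw [hx, Matrix.SpecialLinearGroup.coe_one, Matrix.one_mulVec] at h
    exact hRN w _ _ hz h
  have hsame : ∀ s ∈ T', Ψ s = -1 → ∀ w z, R w z →
      (s : G) * z * (s : G)⁻¹ = (t : G) * z * (t : G)⁻¹ := by
    intro s hs hsψ w z hz
    have h1 : (t⁻¹ * s : K₀) ∈ T' := mul_mem (inv_mem htT) hs
    have h2 := htriv _ (by rw [map_mul, map_inv, htψ, hsψ, inv_mul_cancel]) (hT2 _ h1) w z hz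
    rw [Subgroup.coe_mul, Subgroup.coe_inv] at h2
    calc (s : G) * z * (s : G)⁻¹
        = (t : G) * ((t : G)⁻¹ * (s : G) * z * ((t : G)⁻¹ * (s : G))⁻¹) * (t : G)⁻¹ := by group
      _ = (t : G) * z * (t : G)⁻¹ := by rw [h2]
  have htt : ∀ w z, R w z → (t : G) * ((t : G) * z * (t : G)⁻¹) * (t : G)⁻¹ = z := by
    intro w z hz
    have h := htriv (t * t) (by rw [map_mul, htψ, neg_mul_neg, one_mul]) (hT2 _ (mul_mem htT htT))
      w z hz
    rw [Subgroup.coe_mul] at h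
    calc _ = (t : G) * (t : G) * z * ((t : G) * (t : G))⁻¹ := by group
      _ = z := h
  have htRc : ∀ w z, R w z → R (-w) ((t : G) * z * (t : G)⁻¹) := fun w z hz => by
    have h := hRc t w z hz
    rwa [htψ, Matrix.SpecialLinearGroup.coe_neg, Matrix.SpecialLinearGroup.coe_one,
      Matrix.neg_mulVec, Matrix.one_mulVec] at h
  have hRinv : ∀ w z, R w z → R (-w) z⁻¹ := by
    intro w z hz
    have key : ∀ i : ℕ, R ((i : ZMod p) • w) (z ^ i) := by
      intro i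
      induction i with
      | zero => simpa using hR0
      | succ i hi =>
        rw [pow_succ, Nat.cast_succ, add_smul, one_smul]
        exact hRm _ _ _ _ hi hz
    have h := key (orderOf z - 1)
    have hz1 : z ^ (orderOf z - 1) = z⁻¹ := by
      refine eq_inv_of_mul_eq_one_left ?_
      rw [← pow_succ, Nat.sub_add_cancel (orderOf_pos z), pow_orderOf_eq_one]
    rw [hz1] at h
    have h0 : ((orderOf z - 1 : ℕ) : ZMod p) • w + w = 0 := by
      refine hRd _ _ _ ?_ hR0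
      have := hRm _ _ _ _ h hz
      rwa [inv_mul_cancel] at this
    rwa [eq_neg_of_add_eq_zero_left h0] at h
  -- inverted lifts
  have hcomm : ∀ w u, R w u → Inverted (t : G) u → ∀ n ∈ N, Commute u n := by
    intro w u hu hui n hn
    refine commute_of_commute_sq hp ?_ ?_
    · obtain ⟨i, hi⟩ := hP ⟨u, hRP w u hu⟩
      exact ⟨i, by simpa using congrArg Subtype.val hi⟩
    have h1 := hfix _ t.2 (hT2 t htT) n hn
    have h2 := hfix _ t.2 (hT2 t htT) _ (hPN u (hRP w u hu) n hn)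
    have h3 : (t : G) * (u * n * u⁻¹) * (t : G)⁻¹ = u⁻¹ * n * u := by
      rw [show (t : G) * (u * n * u⁻¹) * (t : G)⁻¹ = ((t : G) * u * (t : G)⁻¹) *
        ((t : G) * n * (t : G)⁻¹) * ((t : G) * u * (t : G)⁻¹)⁻¹ by group, hui, h1, inv_inv]
    rw [h2] at h3
    show u * u * n = n * (u * u)
    calc u * u * n = u * (u * n * u⁻¹) * u := by group
      _ = u * (u⁻¹ * n * u) * u := by rw [h3]
      _ = n * (u * u) := by group
  have huniq : ∀ w u v, R w u → R w v → Inverted (t : G) u → Inverted (t : G) v → u = v := by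
    intro w u v hu hv hui hvi
    set n := u⁻¹ * v with hn
    have hnN : n ∈ N := hRN w u v hu hv
    have hc := hcomm w u hu hui n hnN
    have hv' : v = u * n := by rw [hn, mul_inv_cancel_left]
    have h1 := hfix _ t.2 (hT2 t htT) n hnN
    have h2 : u⁻¹ * n = u⁻¹ * n⁻¹ := by
      calc u⁻¹ * n = ((t : G) * u * (t : G)⁻¹) * ((t : G) * n * (t : G)⁻¹) := by rw [hui, h1]
        _ = (t : G) * v * (t : G)⁻¹ := by rw [hv']; group
        _ = (u * n)⁻¹ := by rw [hvi, hv']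
        _ = u⁻¹ * n⁻¹ := by rw [mul_inv_rev, (hc.inv_inv).eq]
    have h3 : n * n = 1 := by
      nth_rw 1 [mul_left_cancel h2]
      rw [inv_mul_cancel]
    have h4 : Commute (n * n) u := by rw [h3]; exact Commute.one_left u
    obtain ⟨i, hi⟩ := hP ⟨n, hNP hnN⟩
    have hi' : n ^ p ^ i = 1 := by simpa using congrArg Subtype.val hi
    obtain ⟨m, hm⟩ := ((Fact.out : p.Prime).odd_of_ne_two hp).pow (n := i)
    rw [hm, pow_succ, pow_mul, pow_two, h3, one_pow, one_mul] at hi'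
    rw [hv', hi', mul_one]
  have hlift : ∀ w, ∃ u, R w u ∧ Inverted (t : G) u := by
    intro w
    obtain ⟨x, hx⟩ := hRe ((-(2 : ZMod p)⁻¹) • w)
    refine ⟨x⁻¹ * ((t : G) * x * (t : G)⁻¹), ?_, ?_⟩
    · have h := hRm _ _ _ _ (hRinv _ _ hx) (htRc _ _ hx)
      have he : -((-(2 : ZMod p)⁻¹) • w) + -((-(2 : ZMod p)⁻¹) • w) = w := by
        rw [neg_smul, neg_neg, ← add_smul, ← two_mul, mul_inv_cancel₀ h20, one_smul]
      rwa [he] at h
    · show (t : G) * _ * (t : G)⁻¹ = _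
      rw [show (t : G) * (x⁻¹ * ((t : G) * x * (t : G)⁻¹)) * (t : G)⁻¹ =
        ((t : G) * x * (t : G)⁻¹)⁻¹ * ((t : G) * ((t : G) * x * (t : G)⁻¹) * (t : G)⁻¹) by group,
        htt _ _ hx]
      group
  choose u hu hui using hlift
  -- conjugation by `M`
  have hMconj : ∀ k ∈ M, ∀ w, (k : G) * u w * (k : G)⁻¹ = u ((Ψ k).1.mulVec w) := by
    intro k hk w
    refine huniq _ _ _ (hRc k _ _ (hu w)) (hu _) ?_ (hui _)
    have hs : k⁻¹ * t * k ∈ T' := (Subgroup.mem_normalizer_iff''.1 hk t).1 htT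
    have hsψ : Ψ (k⁻¹ * t * k) = -1 := by rw [map_mul, map_mul, map_inv, htψ]; simp
    have h := hsame _ hs hsψ _ _ (hu w)
    rw [hui w, Subgroup.coe_mul, Subgroup.coe_mul, Subgroup.coe_inv] at h
    show (t : G) * _ * (t : G)⁻¹ = _
    calc (t : G) * ((k : G) * u w * (k : G)⁻¹) * (t : G)⁻¹
        = (k : G) * ((k : G)⁻¹ * (t : G) * (k : G) * u w * ((k : G)⁻¹ * (t : G) * (k : G))⁻¹) *
            (k : G)⁻¹ := by group
      _ = ((k : G) * u w * (k : G)⁻¹)⁻¹ := by rw [h]; group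
  set e₁ := u ![1, 0] with he₁
  set e₂ := u ![0, 1] with he₂
  set P₀ := Subgroup.closure ({e₁, e₂} : Set G) with hP₀
  have hPe : P₀ ≤ P := (Subgroup.closure_le _).2 (by
    rintro z (rfl | rfl) <;> exact hRP _ _ (hu _))
  have hcN : ∀ v w, ⁅u v, u w⁆ ∈ N := by
    intro v w
    have h1 := hRm _ _ _ _ (hu v) (hu w)
    have h2 := hRm _ _ _ _ (hu w) (hu v)
    rw [add_comm] at h2
    have h3 := hPN _ (hRP _ _ h1) _ (hRN _ _ _ h2 h1)
    rw [commutatorElement_def]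
    refine (congrArg (· ∈ N) ?_).mp (hPN _ (hRP _ _ h2) _ (hRN _ _ _ h2 h1))
    group
  -- half of a lift
  have hhalf : ∀ v, ∃ h ∈ Subgroup.zpowers (u v), R ((2 : ZMod p)⁻¹ • v) h ∧ Inverted (t : G) h := by
    intro v
    have key : ∀ i : ℕ, R ((i : ZMod p) • v) (u v ^ i) := by
      intro i
      induction i with
      | zero => simpa using hR0
      | succ i hi =>
        rw [pow_succ, Nat.cast_succ, add_smul, one_smul]
        exact hRm _ _ _ _ hi (hu v)
    refine ⟨u v ^ ((2 : ZMod p)⁻¹).val, pow_mem (Subgroup.mem_zpowers _) _, ?_, (hui v).pow _⟩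
    have h := key ((2 : ZMod p)⁻¹).val
    rwa [ZMod.natCast_zmod_val] at h
  have hquad : ∀ v w (A : Matrix.SpecialLinearGroup (Fin 2) (ZMod p)),
      A.1.mulVec v = v → A.1.mulVec w = v + w → Subgroup.closure {u v, u w} = P₀ →
      ∃ a : G, a ∈ K₀ ∧ a ∈ Subgroup.normalizer (P₀ : Set G) ∧ QuadMod ⊥ P₀ a ∧
        ∃ k ∈ M, (k : G) = a ∧ Ψ k = A := by
    intro v w A hAv hAw hcl
    obtain ⟨k, hk, hkA⟩ := hsurj A
    obtain ⟨h, hh, hhR, hhi⟩ := hhalf v
    have hae : (k : G) * u v * (k : G)⁻¹ = u v := by rw [hMconj k hk, hkA, hAv]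
    have haf : (k : G) * u w * (k : G)⁻¹ = h * u w * h := by
      rw [hMconj k hk, hkA, hAw]
      refine huniq _ _ _ (hu _) ?_ (hui _) (Inverted.sandwich hhi (hui w))
      have h2 := hRm _ _ _ _ (hRm _ _ _ _ hhR (hu w)) hhR
      have he : (2 : ZMod p)⁻¹ • v + w + (2 : ZMod p)⁻¹ • v = v + w := by
        rw [add_right_comm, ← add_smul, ← two_mul, mul_inv_cancel₀ h20, one_smul]
      rwa [he] at h2
    obtain ⟨h1, h2⟩ := quadMod_transvection (hcomm _ _ (hu v) (hui v) _ (hcN v w))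
      (hcomm _ _ (hu w) (hui w) _ (hcN v w)) hh hae haf
    rw [hcl] at h1 h2
    exact ⟨_, k.2, h2, h1, k, hk, rfl, hkA⟩
  set A : Matrix.SpecialLinearGroup (Fin 2) (ZMod p) :=
    ⟨!![1, 1; 0, 1], by simp [Matrix.det_fin_two]⟩ with hA
  set B : Matrix.SpecialLinearGroup (Fin 2) (ZMod p) :=
    ⟨!![1, 0; 1, 1], by simp [Matrix.det_fin_two]⟩ with hB
  obtain ⟨a, haK, haN, haq, ka, -, hka, hkaA⟩ := hquad ![1, 0] ![0, 1] A
    (by ext i; fin_cases i <;> simp [hA]) (by ext i; fin_cases i <;> simp [hA]) rfl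
  obtain ⟨b, hbK, hbN, hbq, kb, -, hkb, hkbB⟩ := hquad ![0, 1] ![1, 0] B
    (by ext i; fin_cases i <;> simp [hB]) (by ext i; fin_cases i <;> simp [hB])
    (by rw [Set.pair_comm])
  refine ⟨P₀, a, b, hPe, haK, hbK, haN, hbN, haq, hbq, (a * b⁻¹ * a) ^ 2, ?_, fun e => ?_⟩
  · have ha' : a ∈ Subgroup.closure ({a, b} : Set G) := Subgroup.subset_closure (Or.inl rfl)
    have hb' : b ∈ Subgroup.closure ({a, b} : Set G) := Subgroup.subset_closure (Or.inr rfl)
    exact pow_mem (mul_mem (mul_mem ha' (inv_mem hb')) ha') 2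
  refine ⟨e₁, Subgroup.subset_closure (Or.inl rfl), fun he => ?_⟩
  set k := ((ka * kb⁻¹ * ka) ^ 2) ^ p ^ e with hkd
  have hkG : (k : G) = ((a * b⁻¹ * a) ^ 2) ^ p ^ e := by
    rw [hkd]; simp [hka, hkb]
  have hAB : (A * B⁻¹ * A) ^ 2 = (-1 : Matrix.SpecialLinearGroup (Fin 2) (ZMod p)) := by
    have hBi : B⁻¹ = ⟨!![1, 0; -1, 1], by simp [Matrix.det_fin_two]⟩ := by
      refine inv_eq_of_mul_eq_one_right (Subtype.ext ?_)
      show (!![1, 0; 1, 1] * !![1, 0; -1, 1] : Matrix (Fin 2) (Fin 2) (ZMod p)) = 1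
      simp [Matrix.one_fin_two]
    rw [hBi, pow_two]
    refine Subtype.ext ?_
    show (!![1, 1; 0, 1] * !![1, 0; -1, 1] * !![1, 1; 0, 1] *
      (!![1, 1; 0, 1] * !![1, 0; -1, 1] * !![1, 1; 0, 1]) : Matrix (Fin 2) (Fin 2) (ZMod p)) =
      -(1 : Matrix (Fin 2) (Fin 2) (ZMod p))
    simp [Matrix.one_fin_two]
  have hkψ : Ψ k = -1 := by
    rw [hkd, map_pow, map_pow, map_mul, map_mul, map_inv, hkaA, hkbB, hAB]
    exact (((Fact.out : p.Prime).odd_of_ne_two hp).pow).neg_one_pow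
  have h1 := hRc k _ _ (hu ![1, 0])
  rw [hkG, he, hkψ, Matrix.SpecialLinearGroup.coe_neg, Matrix.SpecialLinearGroup.coe_one,
    Matrix.neg_mulVec, Matrix.one_mulVec] at h1
  have h2 := congrFun (hRd _ _ _ h1 (hu ![1, 0])) 0
  simp at h2
  exact h20 (by linear_combination -h2)

/-- A pair quadratic modulo a centralized subgroup gives a quadratic pair. -/
theorem exists_quadratic_pair (hp : p ≠ 2) {R K : Subgroup G} (hR : IsPGroup p R) (hKR : K ≤ R)
    (hK : R ≤ Subgroup.normalizer (K : Set G)) {a b : G}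
    (ha : a ∈ Subgroup.normalizer (R : Set G)) (hb : b ∈ Subgroup.normalizer (R : Set G))
    (haK : ∀ x ∈ K, a * x * a⁻¹ = x) (hbK : ∀ x ∈ K, b * x * b⁻¹ = x)
    (hqa : QuadMod K R a) (hqb : QuadMod K R b)
    (hy : ∃ y ∈ Subgroup.closure {a, b}, ∀ e : ℕ, ∃ x ∈ R, y ^ p ^ e * x * (y ^ p ^ e)⁻¹ ≠ x) :
    ∃ (P₀ : Subgroup G) (a₀ b₀ : G), P₀ ≤ R ∧ a₀ ∈ Subgroup.closure {a, b} ∧
      b₀ ∈ Subgroup.closure {a, b} ∧ a₀ ∈ Subgroup.normalizer (P₀ : Set G) ∧
      b₀ ∈ Subgroup.normalizer (P₀ : Set G) ∧ QuadMod ⊥ P₀ a₀ ∧ QuadMod ⊥ P₀ b₀ ∧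
      ∃ y ∈ Subgroup.closure {a₀, b₀}, ∀ e : ℕ, ∃ x ∈ P₀, y ^ p ^ e * x * (y ^ p ^ e)⁻¹ ≠ x := by
  classical
  set Y := Subgroup.closure ({a, b} : Set G) with hY
  have hYK : ∀ y ∈ Y, ∀ x ∈ K, y * x * y⁻¹ = x := by
    have h : Y ≤ Subgroup.centralizer (K : Set G) := (Subgroup.closure_le _).2 (by
      rintro z (rfl | rfl)
      · exact Subgroup.mem_centralizer_iff.2 fun x hx => (mul_inv_eq_iff_eq_mul.1 (haK x hx)).symm
      · exact Subgroup.mem_centralizer_iff.2 fun x hx => (mul_inv_eq_iff_eq_mul.1 (hbK x hx)).symm)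
    intro y hy x hx
    rw [← Subgroup.mem_centralizer_iff.1 (h hy) x hx, mul_inv_cancel_right]
  -- a minimal invariant subgroup with more than a `p`-group of operators
  let Good : Subgroup G → Prop := fun P => K ≤ P ∧ P ≤ R ∧ Y ≤ Subgroup.normalizer (P : Set G) ∧
    ∃ y ∈ Y, ∀ e : ℕ, ∃ x ∈ P, y ^ p ^ e * x * (y ^ p ^ e)⁻¹ ≠ x
  have hYR : Y ≤ Subgroup.normalizer (R : Set G) :=
    (Subgroup.closure_le _).2 (by rintro z (rfl | rfl) <;> assumption)
  have hex : ∃ n, ∃ P : Subgroup G, Nat.card P = n ∧ Good P := ⟨_, R, rfl, hKR, le_rfl, hYR, hy⟩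
  obtain ⟨P, hPc, hKP, hPR, hYP, y, hyY, hy'⟩ := Nat.find_spec hex
  have hPp : IsPGroup p P := hR.to_le hPR
  have hmin : ∀ Q : Subgroup G, Q < P → K ≤ Q → Y ≤ Subgroup.normalizer (Q : Set G) →
      ∀ z ∈ Y, (orderOf z).Coprime p → ∀ x ∈ Q, z * x * z⁻¹ = x := by
    intro Q hQ hKQ hYQ z hz ho x hx
    have hlt : Nat.card Q < Nat.find hex :=
      hPc ▸ lt_of_le_of_ne (Subgroup.card_le_of_le hQ.le)
        fun h => hQ.ne (Subgroup.eq_of_le_of_card_ge hQ.le h.ge)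
    obtain ⟨e, he⟩ : ∃ e : ℕ, ∀ x ∈ Q, z ^ p ^ e * x * (z ^ p ^ e)⁻¹ = x := by
      by_contra hno
      push Not at hno
      exact Nat.find_min hex hlt ⟨Q, rfl, hKQ, hQ.le.trans hPR, hYQ, z, hz, hno⟩
    obtain ⟨m, hm⟩ := exists_pow_eq_self_of_coprime (x := z) (n := p ^ e) (ho.symm.pow_left e)
    have h1 : Commute (z ^ p ^ e) x := mul_inv_eq_iff_eq_mul.1 (he x hx)
    have h2 := h1.pow_left m
    rw [hm] at h2
    rw [h2.eq, mul_inv_cancel_right]
  -- the kernel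
  set Φ := (frattini P).map P.subtype with hΦdef
  set N := K ⊔ Φ with hNdef
  have hΦP : Φ ≤ P := Subgroup.map_subtype_le _
  have hNP : N ≤ P := sup_le hKP hΦP
  have hNlt : N < P := by
    refine lt_of_le_of_ne hNP fun h => ?_
    have h1 : K.subgroupOf P ⊔ frattini P = ⊤ := by
      apply Subgroup.map_injective P.subtype_injective
      rw [Subgroup.map_sup, Subgroup.map_subgroupOf_eq_of_le hKP, ← MonoidHom.range_eq_map,
        Subgroup.range_subtype]
      exact h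
    have h2 : P ≤ K := Subgroup.subgroupOf_eq_top.1 (frattini_nongenerating h1)
    obtain ⟨x, hx, hne⟩ := hy' 0
    exact hne (hYK _ (pow_mem hyY _) x (h2 hx))
  have hΦn : Subgroup.normalizer (P : Set G) ≤ Subgroup.normalizer (Φ : Set G) :=
    CfsgLib.PGroup.normalizer_le_normalizer_frattini P
  have hYN : Y ≤ Subgroup.normalizer (N : Set G) := fun z hz => by
    refine Subgroup.normalizer_inf_normalizer_le_normalizer_sup _ _ ⟨?_, hΦn (hYP hz)⟩
    refine Subgroup.mem_normalizer_iff.2 fun x => ⟨fun hx => ?_, fun hx => ?_⟩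
    · rwa [hYK z hz x hx]
    · have := hYK z⁻¹ (inv_mem hz) _ hx
      rw [inv_inv, show z⁻¹ * (z * x * z⁻¹) * z = x by group] at this
      exact this ▸ hx
  have hPNn : P ≤ Subgroup.normalizer (N : Set G) := fun z hz =>
    Subgroup.normalizer_inf_normalizer_le_normalizer_sup _ _
      ⟨hK (hPR hz), hΦn (Subgroup.le_normalizer hz)⟩
  have hfixN := hmin N hNlt le_sup_left hYN
  -- the quotient
  set H := Subgroup.normalizer (N : Set G) with hH
  haveI : (N.subgroupOf H).Normal := Subgroup.normal_in_normalizer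
  set π := QuotientGroup.mk' (N.subgroupOf H) with hπ
  set V := (P.subgroupOf H).map π with hV
  have hone : ∀ z : H, (z : G) ∈ N → π z = 1 := fun z hz => (QuotientGroup.eq_one_iff z).2 hz
  have hπN : ∀ x x' : H, π x = π x' → (x : G)⁻¹ * x' ∈ N := fun x x' h =>
    (QuotientGroup.eq_one_iff (x⁻¹ * x')).1 (by
      show π (x⁻¹ * x') = 1
      rw [map_mul, map_inv, h, inv_mul_cancel])
  have hVea : Cfsg.IsElementaryAbelian p V := by
    refine ⟨⟨⟨fun u v => Subtype.ext ?_⟩⟩, ?_⟩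
    · obtain ⟨x, hx, hxu⟩ := u.2
      obtain ⟨y, hy, hyv⟩ := v.2
      show (u : H ⧸ N.subgroupOf H) * v = v * u
      rw [← hxu, ← hyv, ← commutatorElement_eq_one_iff_mul_comm, ← map_commutatorElement]
      exact hone _ (Subgroup.mem_sup_right ⟨⁅(⟨x, hx⟩ : P), ⟨y, hy⟩⁆,
        CfsgLib.Coprime.commutator_le_frattini hPp
        (Subgroup.commutator_mem_commutator (Subgroup.mem_top _) (Subgroup.mem_top _)), rfl⟩)
    · rintro _ ⟨x, hx, rfl⟩
      rw [← map_pow]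
      exact hone _ (Subgroup.mem_sup_right
        ⟨(⟨x, hx⟩ : P) ^ p, CfsgLib.Coprime.pow_mem_frattini hPp _, rfl⟩)
  have hnorm : ∀ z : H, (z : G) ∈ Y → π z ∈ Subgroup.normalizer (V : Set (H ⧸ N.subgroupOf H)) :=
    fun z hz => Subgroup.le_normalizer_map π (Subgroup.mem_map_of_mem π
      (Subgroup.mem_normalizer_iff.2 fun w => Subgroup.mem_normalizer_iff.1 (hYP hz) (w : G)))
  have haY : a ∈ Y := Subgroup.subset_closure (Or.inl rfl)
  have hbY : b ∈ Y := Subgroup.subset_closure (Or.inr rfl)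
  have hquad : ∀ z : H, (z : G) ∈ Y → QuadMod K R (z : G) →
      ⁅⁅V, Subgroup.zpowers (π z)⁆, Subgroup.zpowers (π z)⁆ = ⊥ := by
    intro z hz hq
    refine CfsgLib.Fusion.commutator_eq_bot_of_quadratic
      (α := CfsgLib.Fusion.conjAut (π z) (hnorm z hz))
      (fun x hx => CfsgLib.Fusion.autFun_conjAut _ hx) fun x => ?_
    obtain ⟨w, hw, hwx⟩ := x.2
    refine Subtype.ext ?_
    set α : MulAut V := CfsgLib.Fusion.conjAut (π z) (hnorm z hz) with hα
    have e : ∀ v : V, ((α v : V) : H ⧸ N.subgroupOf H) = π z * v * (π z)⁻¹ := fun v => by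
      rw [← CfsgLib.Fusion.autFun_coe α v]
      exact CfsgLib.Fusion.autFun_conjAut _ v.2
    rw [e, Subgroup.coe_mul, Subgroup.coe_inv, e, ← hwx, ← map_inv, ← map_inv, ← map_mul, ← map_mul,
      ← map_mul, ← map_mul, ← map_mul, eq_comm, ← inv_mul_eq_one, ← map_inv, ← map_mul]
    exact hone _ (Subgroup.mem_sup_left (hq (w : G) (hPR hw)))
  set a' : H := ⟨a, hYN haY⟩ with ha'
  set b' : H := ⟨b, hYN hbY⟩ with hb'
  have hmap : (Subgroup.closure {a', b'}).map H.subtype = Y := by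
    rw [MonoidHom.map_closure, Set.image_pair]; rfl
  have hclY : ∀ z : H, z ∈ Subgroup.closure {a', b'} → (z : G) ∈ Y := fun z hz =>
    hmap.le (Subgroup.mem_map_of_mem H.subtype hz)
  have hyV : ∀ e : ℕ, π ⟨y, hYN hyY⟩ ^ p ^ e ∉ Subgroup.centralizer (V : Set _) := by
    intro f hf
    obtain ⟨k, l, hl, hkl⟩ :=
      Nat.exists_eq_pow_mul_and_not_dvd (orderOf_pos y).ne' p (Fact.out : p.Prime).ne_one
    set y₀ := y ^ p ^ (k + f) with hy₀
    have hcop : (orderOf y₀).Coprime p := by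
      refine Nat.Coprime.coprime_dvd_left (orderOf_dvd_of_pow_eq_one (n := l) ?_)
        ((Fact.out : p.Prime).coprime_iff_not_dvd.2 hl).symm
      rw [hy₀, ← pow_mul, pow_add, mul_right_comm, ← hkl, pow_mul, pow_orderOf_eq_one, one_pow]
    obtain ⟨x, hx, hne⟩ := hy' (k + f)
    refine hne (commute_of_chain hPp hNP hcop (hfixN _ (pow_mem hyY _) hcop) ?_)
    have hmem : π ((⟨y, hYN hyY⟩ : H) ^ p ^ (k + f)) ∈ Subgroup.centralizer (V : Set _) := by
      rw [map_pow, pow_add, mul_comm, pow_mul]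
      exact pow_mem hf _
    refine hπN ⟨x, hPNn hx⟩ ((⟨y, hYN hyY⟩ : H) ^ p ^ (k + f) * ⟨x, hPNn hx⟩ *
      ((⟨y, hYN hyY⟩ : H) ^ p ^ (k + f))⁻¹) ?_
    rw [map_mul, map_mul, map_inv, ← Subgroup.mem_centralizer_iff.1 hmem (π ⟨x, hPNn hx⟩) ⟨_, hx, rfl⟩,
      mul_inv_cancel_right]
  obtain ⟨d⟩ := exists_naturalPair hp V hVea (hnorm a' haY) (hnorm b' hbY) (hquad a' haY hqa)
    (hquad b' hbY hqb) ⟨π ⟨y, hYN hyY⟩, by
      rw [← Set.image_pair, ← MonoidHom.map_closure]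
      obtain ⟨z, hz, hzy⟩ := hmap.ge hyY
      exact ⟨z, hz, congrArg π (Subtype.ext hzy)⟩, hyV⟩
  set K₁ := Subgroup.closure {a', b'} ⊓ d.K.comap π with hK₁
  let χ : K₁ →* d.K := (π.comp K₁.subtype).codRestrict d.K fun x => x.2.2
  have hχ : Function.Surjective χ := by
    rintro ⟨k, hk⟩
    have hk' := d.K_le hk
    rw [← Set.image_pair, ← MonoidHom.map_closure] at hk'
    obtain ⟨z, hz, rfl⟩ := hk'
    exact ⟨⟨z, hz, hk⟩, rfl⟩
  set K₀ := K₁.map H.subtype with hK₀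
  let eK : K₁ ≃* K₀ := K₁.equivMapOfInjective H.subtype H.subtype_injective
  have heK : ∀ j : K₁, ((eK j : K₀) : G) = ((j : H) : G) := fun j =>
    Subgroup.coe_equivMapOfInjective_apply K₁ H.subtype H.subtype_injective j
  have hK₀Y : K₀ ≤ Y := (Subgroup.map_mono inf_le_left).trans hmap.le
  obtain ⟨P₀, a₀, b₀, h1, h2, h3, h4, h5, h6, h7, h8⟩ := exists_quadratic_pair_of_lift hp hPp hNP
    (fun x hx n hn => (Subgroup.mem_normalizer_iff.1 (hPNn hx) n).1 hn)
    (K₀ := K₀) (fun k hk x hx => (Subgroup.mem_normalizer_iff.1 (hYP (hK₀Y hk)) x).1 hx)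
    ((d.ψ.comp χ).comp eK.symm.toMonoidHom) ((d.ψ_surj.comp hχ).comp eK.symm.surjective)
    (fun k hk => hfixN k (hK₀Y hk))
    (fun w x => ∃ hx : x ∈ P, π ⟨x, hPNn hx⟩ = d.ι (Multiplicative.ofAdd w))
    (fun w x h => h.1) (fun w => by
      obtain ⟨z, hz, hzw⟩ := d.ι_mem (Multiplicative.ofAdd w)
      exact ⟨z, hz, hzw⟩)
    ⟨one_mem P, by rw [ofAdd_zero, map_one]; exact map_one π⟩
    (fun w x x' ⟨hx, hxw⟩ ⟨hx', hxw'⟩ => hπN _ _ (hxw.trans hxw'.symm))
    (fun w w' x ⟨hx, hxw⟩ ⟨hx', hxw'⟩ => Multiplicative.ofAdd.injective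
      (d.ι_inj (hxw.symm.trans hxw')))
    (fun w w' x x' ⟨hx, hxw⟩ ⟨hx', hxw'⟩ => ⟨mul_mem hx hx', by
      rw [ofAdd_add, map_mul, ← hxw, ← hxw', ← map_mul]
      rfl⟩)
    (fun k w x ⟨hx, hxw⟩ => ⟨(Subgroup.mem_normalizer_iff.1 (hYP (hK₀Y k.2)) x).1 hx, by
      obtain ⟨j, rfl⟩ := eK.surjective k
      simp only [MonoidHom.comp_apply, MulEquiv.coe_toMonoidHom, MulEquiv.symm_apply_apply]
      have h := d.ι_conj (χ j) (Multiplicative.ofAdd w)
      rw [toAdd_ofAdd, ← hxw] at h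
      refine Eq.trans ?_ h
      show _ = π (j : H) * π ⟨x, hPNn hx⟩ * (π (j : H))⁻¹
      rw [← map_inv, ← map_mul, ← map_mul]
      refine congrArg π (Subtype.ext ?_)
      simp only [Subgroup.coe_mul, Subgroup.coe_inv]
      exact congrArg (fun g : G => g * x * g⁻¹) (heK j)⟩)
  exact ⟨P₀, a₀, b₀, h1.trans hPR, hK₀Y h2, hK₀Y h3, h4, h5, h6, h7, h8⟩

end CfsgLib.Qd
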