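import Cfsg.Agent.Lib.Qd.Unstable
import Mathlib.FieldTheory.Finite.Basic

/-!
# The group `Qd(p)` is not stable; `SL₂(p)` has nonabelian Sylow `2`-subgroups
-/

set_option autoImplicit false
set_option linter.style.haveILetI false

open Matrix
open scoped commutatorElement

namespace CfsgLib.Qd

universe u

variable {p : ℕ} [Fact p.Prime]

theorem eq_affine (x : Matrix.SpecialLinearGroup (Fin 3) (ZMod p))
    (A : Matrix.SpecialLinearGroup (Fin 2) (ZMod p)) (w : Fin 2 → ZMod p)
    (h : x.1 = !![A.1 0 0, A.1 0 1, w 0; A.1 1 0, A.1 1 1, w 1; 0, 0, 1]) : x = affine A w :=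
  Subtype.ext h

theorem mem_qd_iff (M : Matrix.SpecialLinearGroup (Fin 3) (ZMod p)) :
    M ∈ Cfsg.qd p ↔ ∃ A w, M = affine A w := by
  refine ⟨fun h => ?_, ?_⟩
  · induction h using Subgroup.closure_induction with
    | mem x hx =>
      obtain ⟨h0, h1, h2⟩ := hx
      have hd : x.1 0 0 * x.1 1 1 - x.1 0 1 * x.1 1 0 = 1 := by
        have h := x.2
        rw [Matrix.det_fin_three, h0, h1, h2] at h
        linear_combination h
      refine ⟨⟨!![x.1 0 0, x.1 0 1; x.1 1 0, x.1 1 1], by simpa [Matrix.det_fin_two] using hd⟩,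
        ![x.1 0 2, x.1 1 2], eq_affine _ _ _ ?_⟩
      ext i j
      fin_cases i <;> fin_cases j <;> simp [h0, h1, h2]
    | one =>
      refine ⟨1, 0, Subtype.ext ?_⟩
      rw [affine_coe]
      ext i j
      fin_cases i <;> fin_cases j <;> simp
    | mul x y _ _ hx hy =>
      obtain ⟨A, w, rfl⟩ := hx
      obtain ⟨B, v, rfl⟩ := hy
      exact ⟨_, _, affine_mul A B w v⟩
    | inv x _ hx =>
      obtain ⟨A, w, rfl⟩ := hx
      refine ⟨A⁻¹, -((A⁻¹).1 *ᵥ w), inv_eq_of_mul_eq_one_right ?_⟩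
      rw [affine_mul, mul_inv_cancel, Matrix.mulVec_neg, Matrix.mulVec_mulVec,
        ← Matrix.SpecialLinearGroup.coe_mul, mul_inv_cancel, Matrix.SpecialLinearGroup.coe_one,
        Matrix.one_mulVec, add_neg_cancel]
      refine Subtype.ext ?_
      rw [affine_coe]
      ext i j
      fin_cases i <;> fin_cases j <;> simp
  · rintro ⟨A, w, rfl⟩
    exact Subgroup.subset_closure (show _ ∧ _ ∧ _ by simp [affine_coe])

theorem affine_inj {A B : Matrix.SpecialLinearGroup (Fin 2) (ZMod p)} {w v : Fin 2 → ZMod p}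
    (h : affine A w = affine B v) : A = B ∧ w = v := by
  have h' := fun i j => congrArg (fun M : Matrix.SpecialLinearGroup (Fin 3) (ZMod p) => M.1 i j) h
  simp only [affine_coe] at h'
  refine ⟨ext2 (by simpa using h' 0 0) (by simpa using h' 0 1) (by simpa using h' 1 0)
    (by simpa using h' 1 1), ?_⟩
  funext i
  fin_cases i
  · simpa using h' 0 2
  · simpa using h' 1 2

theorem affine_one : affine (1 : Matrix.SpecialLinearGroup (Fin 2) (ZMod p)) 0 = 1 := by
  refine Subtype.ext ?_
  rw [affine_coe]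
  ext i j
  fin_cases i <;> fin_cases j <;> simp

theorem two_ne_zero' (hp : p ≠ 2) : (2 : ZMod p) ≠ 0 := by
  rw [show (2 : ZMod p) = ((2 : ℕ) : ZMod p) by norm_num, Ne, ZMod.natCast_eq_zero_iff]
  exact fun h => hp ((Nat.prime_dvd_prime_iff_eq Fact.out Nat.prime_two).1 h)

theorem neg_one_ne_one (hp : p ≠ 2) : (-1 : Matrix.SpecialLinearGroup (Fin 2) (ZMod p)) ≠ 1 := by
  intro h
  have h' := congrArg (fun M : Matrix.SpecialLinearGroup (Fin 2) (ZMod p) => M.1 0 0) h
  simp at h'
  exact two_ne_zero' hp (by linear_combination -h')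

/-- A group isomorphic to `Qd(p)` is not stable in the normalizer form. -/
theorem not_isNormalizerPStable_of_equiv (hp : p ≠ 2) {Q : Type u} [Group Q]
    (e : Q ≃* ↥(Cfsg.qd p)) : ¬ Cfsg.IsNormalizerPStable p Q := by
  intro hst
  let f : Q →* Matrix.SpecialLinearGroup (Fin 3) (ZMod p) := (Cfsg.qd p).subtype.comp e.toMonoidHom
  have hf : Function.Injective f := (Cfsg.qd p).subtype_injective.comp e.injective
  have hfex : ∀ x, ∃ A w, f x = affine A w := fun x => (mem_qd_iff _).1 (e x).2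
  choose lin tr hfx using hfex
  have hlm : ∀ x y, lin (x * y) = lin x * lin y := fun x y =>
    (affine_inj (by rw [← hfx, map_mul, hfx, hfx, affine_mul])).1
  let l : Q →* Matrix.SpecialLinearGroup (Fin 2) (ZMod p) := MonoidHom.mk' lin hlm
  have hsur : ∀ A w, ∃ x, f x = affine A w := fun A w =>
    ⟨e.symm ⟨_, (mem_qd_iff _).2 ⟨A, w, rfl⟩⟩, by simp [f]⟩
  -- the translations
  let P : Subgroup Q := l.ker
  have hPmem : ∀ x, x ∈ P ↔ ∃ w, f x = affine 1 w := fun x => by
    refine ⟨fun h => ⟨tr x, by rw [hfx x, show lin x = 1 from h]⟩, fun ⟨w, hw⟩ => ?_⟩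
    exact (affine_inj ((hfx x).symm.trans hw)).1
  have hPp : IsPGroup p P := by
    intro x
    obtain ⟨w, hw⟩ := (hPmem x).1 x.2
    have key : ∀ n : ℕ, (affine (1 : Matrix.SpecialLinearGroup (Fin 2) (ZMod p)) w) ^ n
        = affine 1 (n • w) := by
      intro n
      induction n with
      | zero => rw [pow_zero, zero_smul, affine_one]
      | succ n ih =>
        rw [pow_succ, ih, affine_mul, mul_one, Matrix.SpecialLinearGroup.coe_one, Matrix.one_mulVec,
          succ_nsmul]
    refine ⟨1, Subtype.ext (hf ?_)⟩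
    rw [pow_one, SubgroupClass.coe_pow, map_pow, hw, key, OneMemClass.coe_one, map_one,
      ← Nat.cast_smul_eq_nsmul (ZMod p), ZMod.natCast_self, zero_smul, affine_one]
  obtain ⟨g, hg⟩ := hsur (up 1) 0
  have hgN : g ∈ Subgroup.normalizer (P : Set Q) := by
    rw [Subgroup.normalizer_eq_top]; exact Subgroup.mem_top g
  have hgz : ∀ z ∈ Subgroup.zpowers g, ∃ a, f z = affine (up a) 0 := by
    intro z hz
    obtain ⟨n, rfl⟩ := Subgroup.mem_zpowers_iff.1 hz
    induction n using Int.induction_on with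
    | zero => exact ⟨0, by rw [zpow_zero, map_one, up_zero, affine_one]⟩
    | succ n ih =>
      obtain ⟨a, ha⟩ := ih (Subgroup.zpow_mem _ (Subgroup.mem_zpowers g) _)
      exact ⟨a + 1, by rw [_root_.zpow_add_one, map_mul, ha, hg, affine_mul, up_mul,
        Matrix.mulVec_zero, add_zero]⟩
    | pred n ih =>
      obtain ⟨a, ha⟩ := ih (Subgroup.zpow_mem _ (Subgroup.mem_zpowers g) _)
      refine ⟨a - 1, ?_⟩
      rw [_root_.zpow_sub_one, map_mul, map_inv, ha, hg]
      refine mul_inv_eq_of_eq_mul ?_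
      rw [affine_mul, up_mul, Matrix.mulVec_zero, add_zero, sub_add_cancel]
  have hq : ⁅⁅P, Subgroup.zpowers g⁆, Subgroup.zpowers g⁆ = ⊥ := by
    let L : Subgroup Q :=
      { carrier := {x | ∃ c : ZMod p, f x = affine 1 ![c, 0]}
        one_mem' := ⟨0, by rw [map_one, show (![0, 0] : Fin 2 → ZMod p) = 0 by
          funext i; fin_cases i <;> rfl, affine_one]⟩
        mul_mem' := by
          rintro x y ⟨c, hc⟩ ⟨d, hd⟩
          refine ⟨c + d, ?_⟩
          rw [map_mul, hc, hd, affine_mul]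
          congr 1
          · exact mul_one _
          · funext i; fin_cases i <;> simp
        inv_mem' := by
          rintro x ⟨c, hc⟩
          refine ⟨-c, ?_⟩
          rw [map_inv, hc]
          refine inv_eq_of_mul_eq_one_right ?_
          rw [affine_mul, mul_one, ← affine_one]
          congr 1
          funext i; fin_cases i <;> simp }
    have h1 : ⁅P, Subgroup.zpowers g⁆ ≤ L := by
      refine Subgroup.commutator_le.2 fun x hx z hz => ?_
      obtain ⟨w, hw⟩ := (hPmem x).1 hx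
      obtain ⟨a, ha⟩ := hgz z hz
      refine ⟨-(a * w 1), ?_⟩
      have e1 : ⁅x, z⁆ * (z * x) = x * z := by rw [commutatorElement_def]; group
      refine mul_right_cancel (b := f (z * x)) ?_
      rw [← map_mul, e1, map_mul, map_mul, hw, ha, affine_mul, affine_mul, affine_mul]
      simp only [mul_one, one_mul]
      congr 1
      funext i
      fin_cases i <;> simp [Matrix.mulVec, dotProduct, Fin.sum_univ_two] <;> ring
    rw [eq_bot_iff]
    refine (Subgroup.commutator_mono h1 le_rfl).trans (Subgroup.commutator_le.2 fun x hx z hz => ?_)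
    obtain ⟨c, hc⟩ := hx
    obtain ⟨a, ha⟩ := hgz z hz
    rw [Subgroup.mem_bot, commutatorElement_eq_one_iff_mul_comm]
    refine hf ?_
    rw [map_mul, map_mul, hc, ha, affine_mul, affine_mul, mul_one, one_mul]
    congr 1
    funext i
    fin_cases i <;> simp [Matrix.mulVec, dotProduct, Fin.sum_univ_two]
  have hmem := hst P hPp g hgN hq
  set N := Subgroup.normalizer (P : Set Q) with hN
  set π := QuotientGroup.mk' ((Subgroup.centralizer (P : Set Q)).subgroupOf N) with hπ
  haveI : Finite Q := Finite.of_injective f hf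
  haveI := CfsgLib.Coprime.pCore_normal' (G := N ⧸ (Subgroup.centralizer (P : Set Q)).subgroupOf N) p
  set D := (Cfsg.pCore p (N ⧸ (Subgroup.centralizer (P : Set Q)).subgroupOf N)).comap π with hD
  have hcent : ∀ x ∈ Subgroup.centralizer (P : Set Q), l x = 1 := by
    intro x hx
    have key : ∀ w, (lin x).1 *ᵥ w = w := fun w => by
      obtain ⟨y, hy⟩ := hsur 1 w
      have h := congrArg f (Subgroup.mem_centralizer_iff.1 hx y ((hPmem y).2 ⟨w, hy⟩))
      rw [map_mul, map_mul, hfx x, hy, affine_mul, affine_mul, mul_one, one_mul,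
        Matrix.SpecialLinearGroup.coe_one, Matrix.one_mulVec] at h
      have h2 := (affine_inj h).2
      rw [add_comm (tr x)] at h2
      exact (add_right_cancel h2).symm
    refine Subtype.ext (Matrix.ext_of_mulVec_single fun i => ?_)
    rw [Matrix.SpecialLinearGroup.coe_one, Matrix.one_mulVec]
    exact key _
  have hlN : Function.Surjective (l.comp N.subtype) := fun A => by
    obtain ⟨x, hx⟩ := hsur A 0
    exact ⟨⟨x, by rw [hN, Subgroup.normalizer_eq_top]; exact Subgroup.mem_top x⟩,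
      (affine_inj ((hfx x).symm.trans hx)).1⟩
  set E := D.map (l.comp N.subtype) with hE
  haveI : E.Normal := Subgroup.Normal.map (H := D) inferInstance _ hlN
  have hup : up (1 : ZMod p) ∈ E := ⟨⟨g, hgN⟩, hmem, (affine_inj ((hfx g).symm.trans hg)).1⟩
  have hlo : lo (-1 : ZMod p) ∈ E := by
    have hJ : Matrix.det !![(0 : ZMod p), -1; 1, 0] = 1 := by simp [Matrix.det_fin_two]
    set J : Matrix.SpecialLinearGroup (Fin 2) (ZMod p) := ⟨_, hJ⟩ with hJdef
    have hc : J * up 1 * J⁻¹ = lo (-1) := by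
      obtain ⟨i0, i1, i2, i3⟩ := inv_entries J
      apply ext2 <;> simp only [mul00, mul01, mul10, mul11, i0, i1, i2, i3] <;> simp [hJdef]
    exact hc ▸ Subgroup.Normal.conj_mem inferInstance _ hup J
  have htop : (-1 : Matrix.SpecialLinearGroup (Fin 2) (ZMod p)) ∈ E := by
    have h := closure_up_lo (p := p) (lam := (-1 : ZMod p)) (neg_ne_zero.2 one_ne_zero)
    exact (Subgroup.closure_le E).2 (by rintro z (rfl | rfl) <;> assumption)
      (h ▸ Subgroup.mem_top _)
  obtain ⟨d, hd, hdl⟩ := htop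
  obtain ⟨k, hk⟩ := CfsgLib.Coprime.pCore_isPGroup p (⟨π d, hd⟩ : Cfsg.pCore p _)
  have hdC : (d : Q) ^ p ^ k ∈ Subgroup.centralizer (P : Set Q) := by
    have h := congrArg Subtype.val hk
    rw [SubgroupClass.coe_pow, OneMemClass.coe_one, ← map_pow] at h
    exact (QuotientGroup.eq_one_iff (G := N) _).1 h
  have h1 := hcent _ hdC
  rw [map_pow, show l (d : Q) = -1 from hdl,
    (((Fact.out : p.Prime).odd_of_ne_two hp).pow).neg_one_pow] at h1
  exact neg_one_ne_one hp h1

/-- `SL₂(p)` has two noncommuting elements in one `2`-subgroup. -/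
theorem exists_noncomm_two_subgroup (hp : p ≠ 2) :
    ∃ Q : Subgroup (Matrix.SpecialLinearGroup (Fin 2) (ZMod p)),
      IsPGroup 2 Q ∧ ∃ i ∈ Q, ∃ j ∈ Q, i * j ≠ j * i := by
  obtain ⟨x, y, hxy⟩ := ZMod.sq_add_sq p (-1 : ZMod p)
  have hi' : Matrix.det !![(0 : ZMod p), 1; -1, 0] = 1 := by simp [Matrix.det_fin_two]
  have hj' : Matrix.det !![x, y; y, -x] = 1 := by
    simp [Matrix.det_fin_two]
    linear_combination -hxy
  let i : Matrix.SpecialLinearGroup (Fin 2) (ZMod p) := ⟨_, hi'⟩
  let j : Matrix.SpecialLinearGroup (Fin 2) (ZMod p) := ⟨_, hj'⟩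
  have ei : i.1 = !![(0 : ZMod p), 1; -1, 0] := rfl
  have ej : j.1 = !![x, y; y, -x] := rfl
  clear_value i j
  have hii : i * i = -1 := by apply ext2 <;> simp [mul00, mul01, mul10, mul11, ei]
  have hjj : j * j = -1 := by
    apply ext2 <;> simp [mul00, mul01, mul10, mul11, ej] <;>
      first | linear_combination hxy | ring
  have hji : j * i = -(i * j) := by
    apply ext2 <;> simp [mul00, mul01, mul10, mul11, ei, ej]
  have hfour : ∀ z : Matrix.SpecialLinearGroup (Fin 2) (ZMod p), z * z = -1 →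
      IsPGroup 2 (Subgroup.zpowers z) := by
    intro z hz
    refine IsPGroup.iff_card.2 ?_
    rw [Nat.card_zpowers]
    obtain ⟨k, -, hk⟩ := (Nat.dvd_prime_pow Nat.prime_two).1
      (orderOf_dvd_of_pow_eq_one (x := z) (n := 2 ^ 2) (by
        rw [show (2 : ℕ) ^ 2 = 2 * 2 by norm_num, pow_mul, pow_two, pow_two, hz]; simp))
    exact ⟨k, hk⟩
  have hnorm : Subgroup.zpowers j ≤ Subgroup.normalizer (Subgroup.zpowers i : Set _) := by
    rw [Subgroup.zpowers_le]
    have hjij : MulAut.conj j i = i⁻¹ := by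
      rw [MulAut.conj_apply, hji, inv_eq_of_mul_eq_one_right (a := i) (b := -i) (by
        rw [mul_neg, hii, neg_neg]), neg_mul, mul_inv_cancel_right]
    have hmap : (Subgroup.zpowers i).map (MulAut.conj j).toMonoidHom = Subgroup.zpowers i := by
      rw [MonoidHom.map_zpowers, MulEquiv.coe_toMonoidHom, hjij, Subgroup.zpowers_inv]
    refine Subgroup.mem_normalizer_iff.2 fun z => ?_
    conv_rhs => rw [← hmap]
    exact (Subgroup.mem_map_iff_mem (MulAut.conj j).injective).symm
  refine ⟨Subgroup.zpowers i ⊔ Subgroup.zpowers j,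
    sup_comm (Subgroup.zpowers j) (Subgroup.zpowers i) ▸
      (hfour j hjj).to_sup_of_normal_right' (hfour i hii) hnorm,
    i, Subgroup.mem_sup_left (Subgroup.mem_zpowers i), j,
    Subgroup.mem_sup_right (Subgroup.mem_zpowers j), fun h => ?_⟩
  rw [hji] at h
  have h2 : (-1 : Matrix.SpecialLinearGroup (Fin 2) (ZMod p)) * (i * j) = 1 * (i * j) := by
    rw [neg_one_mul, one_mul]; exact h.symm
  exact neg_one_ne_one hp (mul_right_cancel h2)

/-- A group mapping onto `SL₂(p)` has a nonabelian Sylow `2`-subgroup. -/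
theorem not_comm_of_surjective (hp : p ≠ 2) {A : Type u} [Group A] [Finite A]
    (φ : A →* Matrix.SpecialLinearGroup (Fin 2) (ZMod p)) (hφ : Function.Surjective φ)
    (hab : ∀ T : Sylow 2 A, ∀ x ∈ (T : Subgroup A), ∀ y ∈ (T : Subgroup A), x * y = y * x) :
    False := by
  haveI := Fact.mk Nat.prime_two
  obtain ⟨Q, hQ, i, hi, j, hj, hij⟩ := exists_noncomm_two_subgroup hp
  obtain ⟨S, hS⟩ := hQ.exists_le_sylow
  obtain ⟨T₀⟩ : Nonempty (Sylow 2 A) := inferInstance
  obtain ⟨r, hr⟩ := MulAction.exists_smul_eq (Matrix.SpecialLinearGroup (Fin 2) (ZMod p))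
    (T₀.mapSurjective hφ) S
  obtain ⟨a, rfl⟩ := hφ r
  have hmem : ∀ z ∈ (S : Subgroup _), ∃ t ∈ ((a • T₀ : Sylow 2 A) : Subgroup A), φ t = z := by
    intro z hz
    rw [← hr, Sylow.coe_subgroup_smul] at hz
    obtain ⟨w, hw, rfl⟩ := hz
    obtain ⟨t, ht, rfl⟩ := hw
    refine ⟨a * t * a⁻¹, ?_, by simp⟩
    rw [Sylow.coe_subgroup_smul]
    exact ⟨t, ht, by simp⟩
  obtain ⟨t, ht, hti⟩ := hmem i (hS hi)
  obtain ⟨s, hs, hsj⟩ := hmem j (hS hj)
  exact hij (by rw [← hti, ← hsj, ← map_mul, hab _ t ht s hs, map_mul])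

end CfsgLib.Qd
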