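import Cfsg.Agent.Lib.Qd.Linear
import Cfsg.Prelude.Def_LocalEven
import Cfsg.Prelude.Def_PLocal
import Mathlib.LinearAlgebra.Matrix.ToLin
import Mathlib.LinearAlgebra.Basis.VectorSpace
import Mathlib.LinearAlgebra.Dimension.Free
import Mathlib.GroupTheory.SemidirectProduct
import Mathlib.Algebra.Module.ZMod

/-!
# Quadratic action and sections `SL₂(p)`, `Qd(p)`
-/

set_option autoImplicit false
set_option linter.style.haveILetI false

open Matrix
open scoped commutatorElement

namespace CfsgLib.Qd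

universe u

variable {G : Type u} [Group G] [Finite G] {p : ℕ} [Fact p.Prime]

local notation "W" => Multiplicative (Fin 2 → ZMod p)

/-- A natural `SL₂(p)`-module inside a group: a subgroup `K`, a surjection `ψ` onto `SL₂(p)` and
an injection `ι` of the natural module compatible with conjugation. -/
structure NaturalPair (p : ℕ) (V Y : Subgroup G) where
  /-- The acting subgroup. -/
  K : Subgroup G
  /-- It lies in the given group. -/
  K_le : K ≤ Y
  /-- The induced map. -/
  ψ : K →* Matrix.SpecialLinearGroup (Fin 2) (ZMod p)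
  /-- It is onto. -/
  ψ_surj : Function.Surjective ψ
  /-- The module. -/
  ι : Multiplicative (Fin 2 → ZMod p) →* G
  /-- The module is embedded. -/
  ι_inj : Function.Injective ι
  /-- It lies in the given subgroup. -/
  ι_mem : ∀ w, ι w ∈ V
  /-- Conjugation is the natural action. -/
  ι_conj : ∀ (x : K) (w : Multiplicative (Fin 2 → ZMod p)),
    (x : G) * ι w * (x : G)⁻¹ = ι (Multiplicative.ofAdd ((ψ x).1 *ᵥ Multiplicative.toAdd w))

/-- A finite `𝔽_p`-representation has matrices. -/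
theorem exists_matrixRep {M : Type u} [AddCommGroup M] [Finite M] (hexp : ∀ v : M, p • v = 0)
    {N : Type u} [Monoid N] (c : N → M →+ M) (h1 : ∀ v, c 1 v = v)
    (hm : ∀ g h v, c (g * h) v = c g (c h v)) :
    ∃ (d : ℕ) (e : M ≃+ (Fin d → ZMod p)) (R : N →* Matrix (Fin d) (Fin d) (ZMod p)),
      ∀ g v, R g *ᵥ e v = e (c g v) := by
  obtain ⟨hmod⟩ : Nonempty (Module (ZMod p) M) := ⟨AddCommGroup.zmodModule hexp⟩
  haveI : Module.Finite (ZMod p) M := Module.Finite.of_finite
  let bas := Module.finBasis (ZMod p) M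
  let T : N → Matrix _ _ (ZMod p) := fun g => LinearMap.toMatrix bas bas ((c g).toZModLinearMap p)
  have hT : ∀ g v, T g *ᵥ bas.equivFun v = bas.equivFun (c g v) := fun g v => by
    simp only [T, Module.Basis.equivFun_apply]
    exact LinearMap.toMatrix_mulVec_repr bas bas _ v
  have hext : ∀ A B : Matrix (Fin (Module.finrank (ZMod p) M)) (Fin (Module.finrank (ZMod p) M))
      (ZMod p), (∀ v, A *ᵥ bas.equivFun v = B *ᵥ bas.equivFun v) → A = B :=
    fun A B h => Matrix.ext_of_mulVec_single fun i => by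
      have := h (bas.equivFun.symm (Pi.single i 1))
      rwa [LinearEquiv.apply_symm_apply] at this
  exact ⟨_, bas.equivFun.toAddEquiv,
    { toFun := T
      map_one' := hext _ _ fun v => by rw [hT, h1, Matrix.one_mulVec]
      map_mul' := fun g h => hext _ _ fun v => by
        rw [← Matrix.mulVec_mulVec, hT, hT, hT, hm] }, hT⟩

/-- As `exists_naturalPair`, saying which subgroup acts. -/
theorem exists_naturalPair_closure (hp : p ≠ 2) (V : Subgroup G) (hV : Cfsg.IsElementaryAbelian p V) {a b : G}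
    (ha : a ∈ Subgroup.normalizer (V : Set G)) (hb : b ∈ Subgroup.normalizer (V : Set G))
    (hqa : ⁅⁅V, Subgroup.zpowers a⁆, Subgroup.zpowers a⁆ = ⊥)
    (hqb : ⁅⁅V, Subgroup.zpowers b⁆, Subgroup.zpowers b⁆ = ⊥)
    (hy : ∃ y ∈ Subgroup.closure {a, b}, ∀ e : ℕ, y ^ p ^ e ∉ Subgroup.centralizer (V : Set G)) :
    ∃ d : NaturalPair p V (Subgroup.closure {a, b}),
      ∃ g ∈ Subgroup.closure {a, b}, d.K = Subgroup.closure {a, g * a * g⁻¹} := by
  letI : CommGroup V := { mul_comm := fun x y => hV.1.is_comm.comm x y }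
  have hexp : ∀ v : Additive V, p • v = 0 := fun v => Subtype.ext (hV.2 _ v.toMul.2)
  haveI : Finite (Additive V) := Finite.of_equiv V Additive.ofMul
  set N := Subgroup.normalizer (V : Set G) with hN
  let cj : N → (Additive V →+ Additive V) := fun g =>
    AddMonoidHom.mk' (fun v : Additive V => Additive.ofMul (⟨(g : G) * (v.toMul : V) * (g : G)⁻¹,
      (Subgroup.mem_normalizer_iff.1 g.2 _).1 v.toMul.2⟩ : V))
      fun v w => congrArg Additive.ofMul (Subtype.ext (show (g : G) * (((v.toMul : V) : G) * ((w.toMul : V) : G)) * (g : G)⁻¹ =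
        (g : G) * (v.toMul : V) * (g : G)⁻¹ * ((g : G) * (w.toMul : V) * (g : G)⁻¹) by group))
  have hcj : ∀ (g : N) (v : Additive V),
      (((cj g v).toMul : V) : G) = (g : G) * (v.toMul : V) * (g : G)⁻¹ := fun _ _ => rfl
  have hvext : ∀ v w : Additive V, ((v.toMul : V) : G) = ((w.toMul : V) : G) → v = w :=
    fun v w h => Subtype.ext h
  obtain ⟨n, e, R, hM⟩ := exists_matrixRep hexp cj
    (fun v => hvext _ _ (by rw [hcj]; simp))
    (fun g h v => hvext _ _ (by rw [hcj, hcj, hcj, Subgroup.coe_mul]; group))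
  have hext : ∀ A B : Matrix (Fin n) (Fin n) (ZMod p), (∀ v, A *ᵥ e v = B *ᵥ e v) → A = B :=
    fun A B h => Matrix.ext_of_mulVec_single fun i => by
      have := h (e.symm (Pi.single i 1))
      rwa [AddEquiv.apply_symm_apply] at this
  have hquad : ∀ g : N, ⁅⁅V, Subgroup.zpowers (g : G)⁆, Subgroup.zpowers (g : G)⁆ = ⊥ →
      (R g - 1) * (R g - 1) = 0 := by
    intro g hg
    refine hext _ _ fun v => ?_
    have hu : cj g (cj g v - v) = cj g v - v := by
      refine hvext _ _ ?_
      rw [hcj]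
      set z : G := (((cj g v - v).toMul : V) : G) with hz
      have hz' : z = ⁅(g : G), ((v.toMul : V) : G)⁆ := by
        rw [hz, commutatorElement_def, toMul_sub, Subgroup.coe_div, hcj, div_eq_mul_inv]
      have hzmem : z ∈ ⁅V, Subgroup.zpowers (g : G)⁆ := by
        rw [hz', Subgroup.commutator_comm]
        exact Subgroup.commutator_mem_commutator (Subgroup.mem_zpowers _) v.toMul.2
      have h1 : ⁅z, (g : G)⁆ = 1 := Subgroup.mem_bot.1 (hg ▸
        Subgroup.commutator_mem_commutator hzmem (Subgroup.mem_zpowers _))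
      rw [← (commutatorElement_eq_one_iff_mul_comm.1 h1), mul_inv_cancel_right]
    simp only [Matrix.zero_mulVec, ← Matrix.mulVec_mulVec, Matrix.sub_mulVec, Matrix.one_mulVec,
      hM, ← map_sub, hu, sub_self, map_zero]
  have hfaith : ∀ g : N, R g = 1 → (g : G) ∈ Subgroup.centralizer (V : Set G) := by
    intro g hg
    rw [Subgroup.mem_centralizer_iff]
    intro x hx
    have h1 := hM g (Additive.ofMul ⟨x, hx⟩)
    rw [hg, Matrix.one_mulVec] at h1
    have h2 := hcj g (Additive.ofMul ⟨x, hx⟩)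
    rw [← e.injective h1] at h2
    exact eq_mul_inv_iff_mul_eq.1 h2
  have hmap : ∀ a' b' : N, (Subgroup.closure {a', b'}).map N.subtype
      = Subgroup.closure {(a' : G), (b' : G)} := fun a' b' => by
    rw [MonoidHom.map_closure, Set.image_pair]; rfl
  obtain ⟨y, hy, hye⟩ := hy
  rw [← hmap ⟨a, ha⟩ ⟨b, hb⟩] at hy
  obtain ⟨y', hy', rfl⟩ := hy
  rcases pair_dichotomy hp R ⟨a, ha⟩ ⟨b, hb⟩ (hquad _ hqa) (hquad _ hqb) with h | h
  · obtain ⟨n, hn⟩ := h y' hy'
    exact absurd (hfaith (y' ^ p ^ n) (by rw [map_pow, hn])) (hye n)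
  obtain ⟨g, hg, P, hP, φ, hφs, hφ⟩ := h
  let K' := Subgroup.closure {(⟨a, ha⟩ : N), g * ⟨a, ha⟩ * g⁻¹}
  let eK := K'.equivMapOfInjective N.subtype N.subtype_injective
  let ι : W →* G :=
    { toFun := fun w => (((e.symm (P *ᵥ Multiplicative.toAdd w)).toMul : V) : G)
      map_one' := by simp
      map_mul' := fun w w' => by
        rw [toAdd_mul, Matrix.mulVec_add, map_add, toMul_add, Subgroup.coe_mul] }
  refine ⟨⟨K'.map N.subtype, ?_, φ.comp eK.symm.toMonoidHom, hφs.comp eK.symm.surjective, ι, ?_,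
    fun w => Subtype.property _, ?_⟩, (g : G), ?_, ?_⟩
  · rw [← hmap ⟨a, ha⟩ ⟨b, hb⟩]
    refine Subgroup.map_mono ((Subgroup.closure_le _).2 ?_)
    rintro x (rfl | hx)
    · exact Subgroup.subset_closure (Or.inl rfl)
    · rw [Set.mem_singleton_iff.1 hx]
      exact mul_mem (mul_mem hg (Subgroup.subset_closure (Or.inl rfl))) (inv_mem hg)
  · intro w w' h
    exact Multiplicative.toAdd.injective (hP (e.symm.injective (hvext _ _ h)))
  · intro x w
    obtain ⟨k, rfl⟩ := eK.surjective x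
    show ((k : N) : G) * ι w * ((k : N) : G)⁻¹
      = ι (Multiplicative.ofAdd ((φ (eK.symm (eK k))).1 *ᵥ Multiplicative.toAdd w))
    rw [MulEquiv.symm_apply_apply]
    refine (hcj (k : N) (e.symm (P *ᵥ Multiplicative.toAdd w))).symm.trans ?_
    refine congrArg (fun v : Additive V => ((v.toMul : V) : G)) (e.injective ?_)
    rw [AddEquiv.apply_symm_apply, ← hM, AddEquiv.apply_symm_apply,
      Matrix.mulVec_mulVec, hφ, toAdd_ofAdd, Matrix.mulVec_mulVec]
  · rw [← hmap ⟨a, ha⟩ ⟨b, hb⟩]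
    exact Subgroup.mem_map_of_mem N.subtype hg
  · dsimp only [K']
    rw [hmap, Subgroup.coe_mul, Subgroup.coe_mul, Subgroup.coe_inv]

/-- Two quadratic elements generating more than a `p`-group of operators yield a natural
`SL₂(p)`-module. -/
theorem exists_naturalPair (hp : p ≠ 2) (V : Subgroup G) (hV : Cfsg.IsElementaryAbelian p V) {a b : G}
    (ha : a ∈ Subgroup.normalizer (V : Set G)) (hb : b ∈ Subgroup.normalizer (V : Set G))
    (hqa : ⁅⁅V, Subgroup.zpowers a⁆, Subgroup.zpowers a⁆ = ⊥)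
    (hqb : ⁅⁅V, Subgroup.zpowers b⁆, Subgroup.zpowers b⁆ = ⊥)
    (hy : ∃ y ∈ Subgroup.closure {a, b}, ∀ e : ℕ, y ^ p ^ e ∉ Subgroup.centralizer (V : Set G)) :
    Nonempty (NaturalPair p V (Subgroup.closure {a, b})) :=
  let ⟨d, _⟩ := exists_naturalPair_closure hp V hV ha hb hqa hqb hy
  ⟨d⟩

/-- The affine matrix with linear part `A` and translation `w`. -/
def affine (A : Matrix.SpecialLinearGroup (Fin 2) (ZMod p)) (w : Fin 2 → ZMod p) :
    Matrix.SpecialLinearGroup (Fin 3) (ZMod p) :=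
  ⟨!![A.1 0 0, A.1 0 1, w 0; A.1 1 0, A.1 1 1, w 1; 0, 0, 1], by
    have h := det2 A
    simp [Matrix.det_fin_three]
    linear_combination h⟩

theorem affine_coe (A : Matrix.SpecialLinearGroup (Fin 2) (ZMod p)) (w : Fin 2 → ZMod p) :
    (affine A w).1 = !![A.1 0 0, A.1 0 1, w 0; A.1 1 0, A.1 1 1, w 1; 0, 0, 1] := rfl

theorem affine_mul (A B : Matrix.SpecialLinearGroup (Fin 2) (ZMod p)) (w v : Fin 2 → ZMod p) :
    affine A w * affine B v = affine (A * B) (w + A.1 *ᵥ v) := by
  apply Subtype.ext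
  rw [Matrix.SpecialLinearGroup.coe_mul]
  show !![_, _, _; _, _, _; _, _, _] * !![_, _, _; _, _, _; _, _, _] = !![_, _, _; _, _, _; _, _, _]
  ext i j
  fin_cases i <;> fin_cases j <;>
    simp [Matrix.mul_apply, Fin.sum_univ_two, Fin.sum_univ_three, Matrix.mulVec, dotProduct,
      add_comm]

/-- An element of order three of `SL₂(2)`. -/
def threeElt : Matrix.SpecialLinearGroup (Fin 2) (ZMod 2) := ⟨!![0, 1; 1, 1], by decide⟩

theorem fpf_two : threeElt ^ 3 = 1 ∧ (∀ A : Matrix.SpecialLinearGroup (Fin 2) (ZMod 2),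
      A * threeElt * A⁻¹ = threeElt ∨ A * threeElt * A⁻¹ = threeElt ^ 2) ∧
      ∀ u : Fin 2 → ZMod 2, threeElt.1 *ᵥ u = u → u = 0 := by
  decide

/-- An element of prime order `q ≠ p` generating a normal subgroup and fixing no nonzero vector. -/
theorem exists_fpf_normal (p : ℕ) [Fact p.Prime] :
    ∃ (q : ℕ) (m : Matrix.SpecialLinearGroup (Fin 2) (ZMod p)), q.Prime ∧ q ≠ p ∧ m ^ q = 1 ∧
      (∀ A : Matrix.SpecialLinearGroup (Fin 2) (ZMod p), A * m * A⁻¹ ∈ Subgroup.zpowers m) ∧
      ∀ u : Fin 2 → ZMod p, m.1 *ᵥ u = u → u = 0 := by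
  by_cases hp : p = 2
  · subst hp
    obtain ⟨h1, h2, h3⟩ := fpf_two
    refine ⟨3, _, Nat.prime_three, by norm_num, h1, fun A => ?_, h3⟩
    rcases h2 A with h | h <;> rw [h]
    · exact Subgroup.mem_zpowers _
    · exact pow_mem (Subgroup.mem_zpowers _) 2
  · have h2 : (2 : ZMod p) ≠ 0 := by
      rw [show (2 : ZMod p) = ((2 : ℕ) : ZMod p) by norm_num, Ne, ZMod.natCast_eq_zero_iff]
      exact fun h => hp ((Nat.prime_dvd_prime_iff_eq Fact.out Nat.prime_two).1 h)
    refine ⟨2, -1, Nat.prime_two, fun h => hp h.symm, by simp, fun A => ?_, fun u hu => ?_⟩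
    · rw [show A * -1 * A⁻¹ = (-1 : Matrix.SpecialLinearGroup (Fin 2) (ZMod p)) by simp]
      exact Subgroup.mem_zpowers _
    · have h : (2 : ZMod p) • u = 0 := by
        rw [Matrix.SpecialLinearGroup.coe_neg, Matrix.SpecialLinearGroup.coe_one, Matrix.neg_mulVec,
          Matrix.one_mulVec] at hu
        rw [two_smul]
        nth_rw 1 [← hu]
        exact neg_add_cancel u
      exact (smul_eq_zero.1 h).resolve_left h2

/-- A natural module gives a section `Qd(p)`. -/
theorem NaturalPair.involves_qd {V Y : Subgroup G} (d : NaturalPair p V Y) :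
    Cfsg.Involves ↥(Cfsg.qd p) G := by
  classical
  obtain ⟨q, m, hq, hqp, hmq, hmn, hmfix⟩ := exists_fpf_normal p
  haveI := Fact.mk hq
  set Z := Subgroup.zpowers m with hZdef
  haveI : Z.Normal := ⟨fun x hx A => by
    obtain ⟨n, rfl⟩ := Subgroup.mem_zpowers_iff.1 hx
    rw [← conj_zpow]
    exact zpow_mem (hmn A) n⟩
  set S := Z.comap d.ψ with hS
  -- a `q`-element over a generator of `Z`
  obtain ⟨t₀, ht₀⟩ := d.ψ_surj m
  obtain ⟨k, l, hl, hkl⟩ :=
    Nat.exists_eq_pow_mul_and_not_dvd (orderOf_pos t₀).ne' q hq.ne_one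
  set t : S := ⟨t₀ ^ l, by
    rw [hS, Subgroup.mem_comap, map_pow, ht₀]
    exact pow_mem (Subgroup.mem_zpowers m) l⟩ with ht
  obtain ⟨r, hr⟩ := exists_pow_eq_self_of_coprime (x := m) (n := l) (by
    refine Nat.Coprime.coprime_dvd_right (orderOf_dvd_of_pow_eq_one hmq) ?_
    exact (hq.coprime_iff_not_dvd.2 hl).symm)
  have htψ : d.ψ (t₀ ^ l) = m ^ l := by rw [map_pow, ht₀]
  have hgen : ∀ u : Fin 2 → ZMod p, (m ^ l).1 *ᵥ u = u → u = 0 := by
    intro u hu
    refine hmfix u ?_
    conv_lhs => rw [← hr]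
    clear hr
    induction r with
    | zero => simp
    | succ r ih =>
      rw [pow_succ', Matrix.SpecialLinearGroup.coe_mul, ← Matrix.mulVec_mulVec, ih, hu]
  have htp : IsPGroup q (Subgroup.zpowers t) := by
    refine IsPGroup.iff_card.2 ?_
    rw [Nat.card_zpowers]
    obtain ⟨i, -, hi⟩ := (Nat.dvd_prime_pow hq).1 (orderOf_dvd_of_pow_eq_one (x := t) (n := q ^ k)
      (Subtype.ext (by rw [SubgroupClass.coe_pow, ← pow_mul, mul_comm, ← hkl, pow_orderOf_eq_one]; rfl)))
    exact ⟨i, hi⟩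
  obtain ⟨T, hT⟩ := htp.exists_le_sylow
  set T' := (T : Subgroup S).map S.subtype with hT'
  set N := Subgroup.normalizer (T' : Set d.K) with hN
  have hfr : N ⊔ S = ⊤ := Sylow.normalizer_sup_eq_top T
  have htT : t₀ ^ l ∈ T' := ⟨t, hT (Subgroup.mem_zpowers t), rfl⟩
  have hmN : m ∈ N.map d.ψ := by
    rw [← hr, ← htψ, ← map_pow]
    exact Subgroup.mem_map_of_mem d.ψ (pow_mem (Subgroup.le_normalizer htT) r)
  have hNsurj : ∀ A, ∃ x ∈ N, d.ψ x = A := by
    intro A
    obtain ⟨x, rfl⟩ := d.ψ_surj A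
    have hx : d.ψ x ∈ N.map d.ψ ⊔ Z := by
      have h := Subgroup.mem_map_of_mem d.ψ (hfr ▸ Subgroup.mem_top x : x ∈ N ⊔ S)
      rw [Subgroup.map_sup] at h
      exact sup_le_sup_left (Subgroup.map_comap_le d.ψ Z) _ h
    rw [sup_of_le_left (Subgroup.zpowers_le.2 hmN)] at hx
    exact hx
  have hint : ∀ (w : W) (x : d.K), x ∈ N → (x : G) = d.ι w → w = 1 := by
    intro w x hx hxw
    set u := Multiplicative.toAdd w with hu
    have hmem : (t₀ ^ l) * x * (t₀ ^ l)⁻¹ * x⁻¹ ∈ T' := by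
      rw [mul_assoc, mul_assoc]
      refine mul_mem htT ?_
      rw [← mul_assoc]
      exact (Subgroup.mem_normalizer_iff.1 hx _).1 (inv_mem htT)
    obtain ⟨s, hs, hse⟩ := hmem
    obtain ⟨j, hj⟩ := T.2 ⟨s, hs⟩
    set u' := (m ^ l).1 *ᵥ u - u with hu'
    have hz : ((t₀ ^ l * x * (t₀ ^ l)⁻¹ * x⁻¹ : d.K) : G) = d.ι (Multiplicative.ofAdd u') := by
      rw [Subgroup.coe_mul, Subgroup.coe_mul, Subgroup.coe_mul, Subgroup.coe_inv, Subgroup.coe_inv,
        hxw, d.ι_conj, ← map_inv, ← map_mul, htψ]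
      congr 1
      refine Multiplicative.toAdd.injective ?_
      simp [hu', hu, sub_eq_add_neg]
    have h1 : (Multiplicative.ofAdd u') ^ q ^ j = 1 := by
      refine d.ι_inj ?_
      rw [map_pow, map_one, ← hz, ← hse]
      exact congrArg (fun z : (T : Subgroup S) => ((((z : S) : d.K)) : G)) hj
    have h3 : (q : ZMod p) ^ j • u' = 0 := by
      rw [← ofAdd_nsmul, ofAdd_eq_one, ← Nat.cast_smul_eq_nsmul (ZMod p)] at h1
      simpa using h1
    have hq0 : (q : ZMod p) ≠ 0 := by
      rw [Ne, ZMod.natCast_eq_zero_iff]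
      exact fun h => hqp ((Nat.prime_dvd_prime_iff_eq Fact.out hq).1 h).symm
    exact Multiplicative.toAdd.injective ((hgen u (sub_eq_zero.1
      ((smul_eq_zero.1 h3).resolve_left (pow_ne_zero _ hq0)))).trans toAdd_one.symm)
  let act : N →* MulAut W := MonoidHom.mk' (fun x =>
      AddEquiv.toMultiplicative (Matrix.SpecialLinearGroup.toLin' (d.ψ x)).toAddEquiv)
    fun x y => MulEquiv.ext fun w => Multiplicative.toAdd.injective (by
      simp [Matrix.SpecialLinearGroup.toLin'_apply, Matrix.mulVec_mulVec])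
  have hact : ∀ (x : N) (w : W),
      act x w = Multiplicative.ofAdd ((d.ψ x).1 *ᵥ Multiplicative.toAdd w) := fun x w => by
    simp [act, Matrix.SpecialLinearGroup.toLin'_apply]
  let f1 : W ⋊[act] N →* G := SemidirectProduct.lift d.ι (d.K.subtype.comp N.subtype) fun x =>
    MonoidHom.ext fun w => by
      show d.ι (act x w) = ((x : d.K) : G) * d.ι w * ((x : d.K) : G)⁻¹
      rw [hact, d.ι_conj]
  let f2 : W ⋊[act] N →* Matrix.SpecialLinearGroup (Fin 3) (ZMod p) :=
    MonoidHom.mk' (fun x => affine (d.ψ x.right) (Multiplicative.toAdd x.left)) fun x y => by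
      rw [affine_mul, SemidirectProduct.mul_left, SemidirectProduct.mul_right, hact, toAdd_mul,
        toAdd_ofAdd, Subgroup.coe_mul, map_mul]
  have hf1 : Function.Injective f1 := by
    rw [injective_iff_map_eq_one]
    intro x hx
    have hx' : d.ι x.left * ((x.right : d.K) : G) = 1 := hx
    have hw : x.left = 1 := by
      refine hint _ ((x.right : d.K)⁻¹) (inv_mem x.right.2) ?_
      rw [Subgroup.coe_inv]
      exact (eq_inv_of_mul_eq_one_left hx').symm
    rw [hw, map_one, one_mul] at hx'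
    exact SemidirectProduct.ext hw (Subtype.ext (Subtype.ext hx'))
  have hrange : f2.range = Cfsg.qd p := by
    refine le_antisymm ?_ ((Subgroup.closure_le _).2 ?_)
    · rintro _ ⟨x, rfl⟩
      exact Subgroup.subset_closure (show _ ∧ _ ∧ _ by simp [f2, affine_coe])
    · rintro A ⟨h0, h1, h2⟩
      have hd : A.1 0 0 * A.1 1 1 - A.1 0 1 * A.1 1 0 = 1 := by
        have h := A.2
        rw [Matrix.det_fin_three, h0, h1, h2] at h
        linear_combination h
      obtain ⟨x, hx, hxA⟩ := hNsurj ⟨!![A.1 0 0, A.1 0 1; A.1 1 0, A.1 1 1], by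
        simpa [Matrix.det_fin_two] using hd⟩
      refine ⟨⟨Multiplicative.ofAdd ![A.1 0 2, A.1 1 2], ⟨x, hx⟩⟩, Subtype.ext ?_⟩
      show (affine (d.ψ x) ![A.1 0 2, A.1 1 2]).1 = A.1
      rw [affine_coe, hxA]
      ext i j
      fin_cases i <;> fin_cases j <;> simp [h0, h1, h2]
  let e1 := MonoidHom.ofInjective hf1
  let f3 := f2.rangeRestrict.comp e1.symm.toMonoidHom
  have hker : (f3.ker.map f1.range.subtype).subgroupOf f1.range = f3.ker :=
    Subgroup.comap_map_eq_self_of_injective f1.range.subtype_injective _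
  haveI hn : ((f3.ker.map f1.range.subtype).subgroupOf f1.range).Normal := hker.symm ▸ inferInstance
  exact ⟨f1.range, f3.ker.map f1.range.subtype, hn,
    ⟨((QuotientGroup.quotientMulEquivOfEq hker).trans (QuotientGroup.quotientKerEquivOfSurjective f3
      (f2.rangeRestrict_surjective.comp e1.symm.surjective))).trans (MulEquiv.subgroupCongr hrange)⟩⟩

/-- A natural module gives a section `SL₂(p)`. -/
theorem NaturalPair.exists_sl2 {V Y : Subgroup G} (d : NaturalPair p V Y) :
    ∃ (K L : Subgroup G) (_ : (L.subgroupOf K).Normal), K ≤ Y ∧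
      Nonempty ((K ⧸ L.subgroupOf K) ≃* Matrix.SpecialLinearGroup (Fin 2) (ZMod p)) := by
  have hker : (d.ψ.ker.map d.K.subtype).subgroupOf d.K = d.ψ.ker :=
    Subgroup.comap_map_eq_self_of_injective d.K.subtype_injective _
  haveI hn : ((d.ψ.ker.map d.K.subtype).subgroupOf d.K).Normal := hker.symm ▸ inferInstance
  exact ⟨d.K, _, hn, d.K_le,
    ⟨(QuotientGroup.quotientMulEquivOfEq hker).trans
      (QuotientGroup.quotientKerEquivOfSurjective d.ψ d.ψ_surj)⟩⟩

end CfsgLib.Qd
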