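import Mathlib.LinearAlgebra.Matrix.SpecialLinearGroup
import Mathlib.Algebra.CharP.Basic
import Mathlib.Data.ZMod.Basic
import Mathlib.Tactic

/-!
# Upper and lower unitriangular elements of `SL₂`
-/

set_option autoImplicit false

open Matrix

namespace CfsgLib.Qd

variable {k : Type*} [CommRing k]

local notation "SL₂[" k "]" => Matrix.SpecialLinearGroup (Fin 2) k

/-- The upper unitriangular element. -/
def up (a : k) : SL₂[k] := ⟨!![1, a; 0, 1], by simp [Matrix.det_fin_two]⟩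

/-- The lower unitriangular element. -/
def lo (a : k) : SL₂[k] := ⟨!![1, 0; a, 1], by simp [Matrix.det_fin_two]⟩

@[simp] theorem up_coe (a : k) : (up a : Matrix (Fin 2) (Fin 2) k) = !![1, a; 0, 1] := rfl

@[simp] theorem lo_coe (a : k) : (lo a : Matrix (Fin 2) (Fin 2) k) = !![1, 0; a, 1] := rfl

theorem ext2 {g h : SL₂[k]} (h00 : g.1 0 0 = h.1 0 0) (h01 : g.1 0 1 = h.1 0 1)
    (h10 : g.1 1 0 = h.1 1 0) (h11 : g.1 1 1 = h.1 1 1) : g = h := by
  apply Subtype.ext
  ext i j
  fin_cases i <;> fin_cases j <;> assumption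

theorem det2 (g : SL₂[k]) : g.1 0 0 * g.1 1 1 - g.1 0 1 * g.1 1 0 = 1 := by
  have h := g.2
  rwa [Matrix.det_fin_two] at h

theorem mul00 (g h : SL₂[k]) : (g * h).1 0 0 = g.1 0 0 * h.1 0 0 + g.1 0 1 * h.1 1 0 := by
  simp [Matrix.mul_apply, Fin.sum_univ_two]

theorem mul01 (g h : SL₂[k]) : (g * h).1 0 1 = g.1 0 0 * h.1 0 1 + g.1 0 1 * h.1 1 1 := by
  simp [Matrix.mul_apply, Fin.sum_univ_two]

theorem mul10 (g h : SL₂[k]) : (g * h).1 1 0 = g.1 1 0 * h.1 0 0 + g.1 1 1 * h.1 1 0 := by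
  simp [Matrix.mul_apply, Fin.sum_univ_two]

theorem mul11 (g h : SL₂[k]) : (g * h).1 1 1 = g.1 1 0 * h.1 0 1 + g.1 1 1 * h.1 1 1 := by
  simp [Matrix.mul_apply, Fin.sum_univ_two]

theorem inv_entries (g : SL₂[k]) : (g⁻¹).1 0 0 = g.1 1 1 ∧ (g⁻¹).1 0 1 = -g.1 0 1 ∧
    (g⁻¹).1 1 0 = -g.1 1 0 ∧ (g⁻¹).1 1 1 = g.1 0 0 := by
  simp [Matrix.adjugate_fin_two]

theorem up_mul (a b : k) : up a * up b = up (a + b) := by
  apply ext2 <;> simp [mul00, mul01, mul10, mul11, add_comm]

theorem lo_mul (a b : k) : lo a * lo b = lo (a + b) := by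
  apply ext2 <;> simp [mul00, mul01, mul10, mul11]

@[simp] theorem up_zero : up (0 : k) = 1 := by apply ext2 <;> simp

@[simp] theorem lo_zero : lo (0 : k) = 1 := by apply ext2 <;> simp

theorem up_inv (a : k) : (up a)⁻¹ = up (-a) := by
  refine inv_eq_of_mul_eq_one_right ?_
  rw [up_mul, add_neg_cancel, up_zero]

theorem lo_inv (a : k) : (lo a)⁻¹ = lo (-a) := by
  refine inv_eq_of_mul_eq_one_right ?_
  rw [lo_mul, add_neg_cancel, lo_zero]

theorem up_pow (a : k) (n : ℕ) : up a ^ n = up (n * a) := by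
  induction n with
  | zero => simp
  | succ n ih => rw [pow_succ, ih, up_mul]; push_cast; ring_nf

theorem lo_pow (a : k) (n : ℕ) : lo a ^ n = lo (n * a) := by
  induction n with
  | zero => simp
  | succ n ih => rw [pow_succ, ih, lo_mul]; push_cast; ring_nf

theorem up_injective : Function.Injective (up : k → SL₂[k]) := fun a b h => by
  simpa using congrArg (fun g : SL₂[k] => g.1 0 1) h

theorem conj_up (g : SL₂[k]) (e : k) :
    (g * up e * g⁻¹).1 0 0 = 1 - g.1 0 0 * g.1 1 0 * e ∧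
    (g * up e * g⁻¹).1 0 1 = g.1 0 0 ^ 2 * e ∧
    (g * up e * g⁻¹).1 1 0 = -(g.1 1 0 ^ 2) * e ∧
    (g * up e * g⁻¹).1 1 1 = 1 + g.1 0 0 * g.1 1 0 * e := by
  obtain ⟨i0, i1, i2, i3⟩ := inv_entries g
  have hd := det2 g
  simp only [mul00, mul01, mul10, mul11, i0, i1, i2, i3, up_coe, Matrix.of_apply, Matrix.cons_val',
    Matrix.cons_val_zero, Matrix.cons_val_one, Matrix.empty_val', Matrix.cons_val_fin_one]
  refine ⟨?_, ?_, ?_, ?_⟩
  · linear_combination hd
  · ring
  · ring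
  · linear_combination hd

theorem conj_lo (g : SL₂[k]) (e : k) :
    (g * lo e * g⁻¹).1 1 0 = g.1 1 1 ^ 2 * e := by
  obtain ⟨i0, i1, i2, i3⟩ := inv_entries g
  simp only [mul00, mul01, mul10, mul11, i0, i1, i2, i3, lo_coe, Matrix.of_apply, Matrix.cons_val',
    Matrix.cons_val_zero, Matrix.cons_val_one, Matrix.empty_val', Matrix.cons_val_fin_one]
  ring

/-- `SL₂` of a prime field is generated by two elementary transvections. -/
theorem closure_up_lo {p : ℕ} [Fact p.Prime] {lam : ZMod p} (hlam : lam ≠ 0) :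
    Subgroup.closure {up (1 : ZMod p), lo lam} = ⊤ := by
  set K := Subgroup.closure {up (1 : ZMod p), lo lam} with hK
  have hu : ∀ a : ZMod p, up a ∈ K := fun a => by
    have h := pow_mem (Subgroup.subset_closure (Or.inl rfl) : up (1 : ZMod p) ∈ K) a.val
    rwa [up_pow, mul_one, ZMod.natCast_zmod_val] at h
  have hl : ∀ a : ZMod p, lo a ∈ K := fun a => by
    have h := pow_mem (Subgroup.subset_closure (Or.inr rfl) : lo lam ∈ K) (a / lam).val
    rwa [lo_pow, ZMod.natCast_zmod_val, div_mul_cancel₀ a hlam] at h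
  have key : ∀ g : Matrix.SpecialLinearGroup (Fin 2) (ZMod p), g.1 1 0 ≠ 0 → g ∈ K := by
    intro g hc
    have hd := det2 g
    have e : g = up ((g.1 0 0 - 1) / g.1 1 0) * lo (g.1 1 0) *
        up ((g.1 1 1 - 1) / g.1 1 0) := by
      apply ext2 <;> simp only [mul00, mul01, mul10, mul11, up_coe, lo_coe, Matrix.of_apply,
        Matrix.cons_val', Matrix.cons_val_zero, Matrix.cons_val_one, Matrix.empty_val',
        Matrix.cons_val_fin_one] <;> field_simp <;>
          first | linear_combination -hd | linear_combination hd | ring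
    rw [e]
    exact mul_mem (mul_mem (hu _) (hl _)) (hu _)
  refine eq_top_iff.2 fun g _ => ?_
  by_cases hc : g.1 1 0 = 0
  · have hd := det2 g
    rw [hc, mul_zero, sub_zero] at hd
    have h := key (lo 1 * g) (by
      simp [mul10, hc]
      intro h0
      rw [h0, zero_mul] at hd
      exact zero_ne_one hd)
    have h2 := mul_mem (hl (-1)) h
    rwa [← mul_assoc, lo_mul, neg_add_cancel, lo_zero, one_mul] at h2
  · exact key g hc

end CfsgLib.Qd
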