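import Mathlib.GroupTheory.GroupAction.Quotient
import Mathlib.Data.Fintype.BigOperators
import Mathlib.Tactic

/-!
# Counting fixed points for groups in which every nontrivial element fixes one or two points
-/

set_option autoImplicit false

namespace CfsgLib.Qd

open MulAction

/-- The numerical content of the count. -/
theorem count_arith {q c f h : ℕ} (hq : 3 ≤ q) (hc : c ∣ q - 1) (hf : 1 ≤ f)
    (hh : h * (1 + (q - 2) * f) = c * (1 + f * q)) :
    f = 1 ∨ (q = 3 ∧ f = 3 ∧ c = 2 ∧ h = 5) := by
  have hc0 : 0 < c := Nat.pos_of_dvd_of_pos hc (by omega)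
  have hcle : c ≤ q - 1 := Nat.le_of_dvd (by omega) hc
  set D := 1 + (q - 2) * f with hD
  have hm : 1 + f * q = D + 2 * f := by
    obtain ⟨r, rfl⟩ : ∃ r, q = r + 2 := ⟨q - 2, by omega⟩
    simp only [hD, Nat.add_sub_cancel]
    ring
  have hdvd : D ∣ 2 * c := by
    have h1 : D ∣ f * (2 * c) := by
      have h2 : D ∣ c * D + f * (2 * c) := ⟨h, by rw [mul_comm D h, hh, hm]; ring⟩
      exact (Nat.dvd_add_right (Dvd.intro_left c rfl)).1 h2
    refine Nat.Coprime.dvd_of_dvd_mul_left ?_ h1
    rw [hD, Nat.coprime_add_mul_right_left]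
    exact Nat.coprime_one_left f
  by_contra hcon
  push Not at hcon
  obtain ⟨hf1, hex⟩ := hcon
  have hf2 : 2 ≤ f := by omega
  have hle : D ≤ 2 * c := Nat.le_of_dvd (by omega) hdvd
  have hD2 : (q - 2) * 2 ≤ (q - 2) * f := Nat.mul_le_mul_left _ hf2
  rcases Nat.lt_or_ge 3 q with hq' | hq'
  · -- `q ≥ 4`
    have hf' : f = 2 := by
      by_contra hne
      have : (q - 2) * 3 ≤ (q - 2) * f := Nat.mul_le_mul_left _ (by omega)
      omega
    subst hf'
    have hcop : Nat.Coprime D 2 := by
      rw [hD, Nat.coprime_add_mul_right_left]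
      exact Nat.coprime_one_left 2
    have := Nat.le_of_dvd hc0 (hcop.dvd_of_dvd_mul_left hdvd)
    omega
  · obtain rfl : q = 3 := by omega
    simp only [show (3 : ℕ) - 2 = 1 from rfl, one_mul] at hD hle hdvd hh
    have hc2 : c = 1 ∨ c = 2 := by omega
    have hf3 : f ≤ 3 := by omega
    rcases hc2 with rfl | rfl <;> interval_cases f <;> simp_all <;> omega

variable {H α : Type*} [Group H] [Finite H] [Finite α] [MulAction H α]

/-- The count: all fixed points form the orbit `O` and at most one further orbit. -/
theorem perm_count (x₀ : α) (q c f : ℕ) (hq : 3 ≤ q) (hc : c ∣ q - 1) (hf : 1 ≤ f)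
    (hm : Nat.card (orbit H x₀) = 1 + f * q) (hstab : Nat.card (stabilizer H x₀) = q * c)
    (hfix : ∀ h : H, h ≠ 1 → Nat.card (fixedBy α h) = 1 ∨ Nat.card (fixedBy α h) = 2)
    (hu : Nat.card {h : H // h ≠ 1 ∧ Nat.card (fixedBy α h) = 1} = (q - 1) * (1 + f * q))
    (hall : ∀ y : α, stabilizer H y ≠ ⊥) :
    f = 1 ∨ (q = 3 ∧ f = 3 ∧ c = 2 ∧
      ∀ y : α, y ∉ orbit H x₀ → Nat.card (stabilizer H y) = 5) := by
  classical
  haveI := Fintype.ofFinite H
  haveI := Fintype.ofFinite α
  set O := orbit H x₀ with hO
  set m := 1 + f * q with hmdef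
  set n := Fintype.card H with hn
  have hc0 : 0 < c := Nat.pos_of_dvd_of_pos hc (by omega)
  have horb : ∀ y : α, Nat.card (orbit H y) * Nat.card (stabilizer H y) = n := fun y => by
    rw [Nat.card_eq_fintype_card, Nat.card_eq_fintype_card,
      card_orbit_mul_card_stabilizer_eq_card_group H y]
  have hnv : n = m * (q * c) := by rw [← horb x₀, hm, hstab]
  -- the sum of the fixed point numbers
  set N := Fintype.card (Quotient (orbitRel H α)) with hN
  have hburn : ∑ h : H, Nat.card (fixedBy α h) = N * n := by
    rw [hN, hn, ← sum_card_fixedBy_eq_card_orbits_mul_card_group H α]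
    exact Finset.sum_congr rfl fun h _ => Nat.card_eq_fintype_card
  have hone : Nat.card (fixedBy α (1 : H)) = Fintype.card α := by
    rw [fixedBy_one_eq_univ, Nat.card_univ, Nat.card_eq_fintype_card]
  have hsum : N * n + (q - 1) * m + 2 = Fintype.card α + 2 * n := by
    have h1 := Finset.add_sum_erase Finset.univ (fun h : H => Nat.card (fixedBy α h))
      (Finset.mem_univ (1 : H))
    rw [hburn, hone] at h1
    have h2 : ∑ h ∈ Finset.univ.erase (1 : H), (Nat.card (fixedBy α h) +
        if Nat.card (fixedBy α h) = 1 then 1 else 0) = ∑ h ∈ Finset.univ.erase (1 : H), 2 :=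
      Finset.sum_congr rfl fun h hh => by
        rcases hfix h (Finset.ne_of_mem_erase hh) with e | e
        · rw [e, if_pos rfl]
        · rw [e, if_neg (by norm_num)]
    rw [Finset.sum_add_distrib, Finset.sum_const, Finset.sum_boole,
      Finset.card_erase_of_mem (Finset.mem_univ _), Finset.card_univ, smul_eq_mul] at h2
    have h3 : ((Finset.univ.erase (1 : H)).filter fun h => Nat.card (fixedBy α h) = 1).card =
        (q - 1) * m := by
      rw [← hu, Nat.card_eq_fintype_card, Fintype.card_subtype]
      congr 1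
      ext h
      simp
    simp only [Nat.cast_id] at h2
    rw [h3] at h2
    have hn1 : 1 ≤ n := Fintype.card_pos
    rw [← hn] at h2
    omega
  -- points outside the orbit
  let π : α → Quotient (orbitRel H α) := Quotient.mk''
  set O' := Finset.univ.filter fun y : α => y ∉ O with hO'
  have hcard : Fintype.card α = m + O'.card := by
    rw [show m = Nat.card O from hm.symm, hO', Nat.card_eq_fintype_card, Fintype.card_subtype,
      ← Finset.card_univ, ← Finset.card_filter_add_card_filter_not (p := fun y : α => y ∈ O)]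
  have hbound : 2 * O'.card ≤ (N - 1) * n := by
    have h1 : ∀ b ∈ Finset.univ.erase (π x₀),
        2 * (O'.filter fun y => π y = b).card ≤ n := by
      intro b _
      rcases (O'.filter fun y => π y = b).eq_empty_or_nonempty with he | ⟨y, hy⟩
      · rw [he]; simp
      rw [Finset.mem_filter] at hy
      have hsub : (O'.filter fun y => π y = b).card ≤ Nat.card (orbit H y) := by
        rw [Nat.card_eq_fintype_card, Fintype.card_subtype]
        refine Finset.card_le_card fun z hz => ?_
        simp only [Finset.mem_filter, Finset.mem_univ, true_and] at hz ⊢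
        exact Quotient.exact' (hz.2.trans hy.2.symm)
      have h2 : 2 ≤ Nat.card (stabilizer H y) :=
        (Subgroup.one_lt_card_iff_ne_bot _).2 (hall y)
      calc 2 * (O'.filter fun y => π y = b).card
          ≤ Nat.card (stabilizer H y) * Nat.card (orbit H y) := Nat.mul_le_mul h2 hsub
        _ = n := by rw [mul_comm]; exact horb y
    have h2 : O'.card = ∑ b ∈ Finset.univ.erase (π x₀), (O'.filter fun y => π y = b).card := by
      refine Finset.card_eq_sum_card_fiberwise fun y hy => ?_
      rw [Finset.mem_coe, Finset.mem_erase]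
      refine ⟨fun h => ?_, Finset.mem_univ _⟩
      have hy' : y ∉ O := by simpa [hO'] using hy
      exact hy' (Quotient.exact' h)
    calc 2 * O'.card = ∑ b ∈ Finset.univ.erase (π x₀), 2 * (O'.filter fun y => π y = b).card := by
          rw [h2, Finset.mul_sum]
      _ ≤ ∑ b ∈ Finset.univ.erase (π x₀), n := Finset.sum_le_sum h1
      _ = (N - 1) * n := by
          rw [Finset.sum_const, Finset.card_erase_of_mem (Finset.mem_univ _), Finset.card_univ,
            smul_eq_mul, hN]
  have hN1 : 1 ≤ N := Fintype.card_pos_iff.2 ⟨π x₀⟩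
  obtain ⟨r, hr⟩ : ∃ r, q = r + 3 := ⟨q - 3, by omega⟩
  have e1 : (q - 1) * m = r * m + 2 * m := by
    rw [hr, show r + 3 - 1 = r + 2 by omega]; ring
  have hN2 : N ≤ 2 := by
    by_contra h
    obtain ⟨j, hj⟩ : ∃ j, N = j + 3 := ⟨N - 3, by omega⟩
    have e2 : N * n = j * n + 3 * n := by rw [hj]; ring
    have e3 : (N - 1) * n = j * n + 2 * n := by rw [hj, show j + 3 - 1 = j + 2 by omega]; ring
    omega
  rcases Nat.lt_or_ge N 2 with h1 | h2
  · -- a single orbit is impossible
    exfalso
    obtain hN' : N = 1 := by omega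
    have hNn : N * n = n := by rw [hN', one_mul]
    have hNn' : (N - 1) * n = 0 := by rw [hN']; simp
    have e2 : q * m ≤ n := by
      rw [hnv, mul_comm q m]
      exact Nat.mul_le_mul_left m (Nat.le_mul_of_pos_right q hc0)
    have e3 : q * m = r * m + 3 * m := by rw [hr]; ring
    have hmpos : 4 ≤ m := by
      have : 1 * 3 ≤ f * q := Nat.mul_le_mul hf hq
      omega
    omega
  · have hN' : N = 2 := by omega
    have hl : O'.card = q * (1 + (q - 2) * f) := by
      rw [hN'] at hsum
      have e3 : q * (1 + (q - 2) * f) = (q - 2) * m + 2 := by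
        rw [hmdef, hr, show r + 3 - 2 = r + 1 by omega]; ring
      have e4 : (q - 2) * m = r * m + m := by rw [hr, show r + 3 - 2 = r + 1 by omega]; ring
      omega
    have hstab' : ∀ y : α, y ∉ O →
        Nat.card (stabilizer H y) * (1 + (q - 2) * f) = c * (1 + f * q) := by
      intro y hy
      have horbit : orbit H y = {z | z ∉ O} := by
        ext z
        constructor
        · intro hz hzO
          have e : orbit H y = O := ((orbit_eq_iff.2 hz).symm).trans (orbit_eq_iff.2 hzO)
          exact hy (e.le (mem_orbit_self y))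
        · intro hz
          have hy' : π y ≠ π x₀ := fun h => hy (Quotient.exact' h)
          have hz' : π z ≠ π x₀ := fun h => hz (Quotient.exact' h)
          by_contra hzy
          have hzy' : π z ≠ π y := fun h => hzy (Quotient.exact' h)
          have h3 : ({π z, π y, π x₀} : Finset (Quotient (orbitRel H α))).card ≤ N :=
            Finset.card_le_univ _
          rw [Finset.card_eq_three.2 ⟨_, _, _, hzy', hz', hy', rfl⟩] at h3
          omega
      have h3 : Nat.card (orbit H y) = O'.card := by
        rw [horbit, Nat.card_eq_fintype_card, hO', Fintype.card_subtype]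
        rfl
      have h4 := horb y
      rw [h3, hl, hnv] at h4
      refine Nat.eq_of_mul_eq_mul_left (show 0 < q by omega) ?_
      rw [← hmdef]
      linarith
    obtain ⟨y, hy⟩ : ∃ y, y ∈ O' := Finset.card_pos.1 (by rw [hl]; positivity)
    have hy' : y ∉ O := by simpa [hO'] using hy
    rcases count_arith hq hc hf (hstab' y hy') with h | ⟨rfl, rfl, rfl, -⟩
    · exact Or.inl h
    · refine Or.inr ⟨rfl, rfl, rfl, fun z hz => ?_⟩
      have := hstab' z hz
      omega

end CfsgLib.Qd
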