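import Cfsg.Agent.Lib.Qd.Points
import Cfsg.Agent.Lib.Qd.PermCount
import Mathlib.GroupTheory.Sylow
import Mathlib.Algebra.CharP.Two

/-!
# Finite subgroups of `SL₂` with two transvections on different lines

Such a group contains an element `g` such that the transvection and its conjugate by `g` generate
`SL₂` of the prime field (Dickson).
-/

set_option autoImplicit false
set_option linter.style.haveILetI false

open Matrix MulAction

namespace CfsgLib.Qd

variable {k : Type*} [Field k]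

local notation "SL₂[" k "]" => Matrix.SpecialLinearGroup (Fin 2) k

/-- `g` is scalar. -/
def Sc (g : SL₂[k]) : Prop := g.1 0 1 = 0 ∧ g.1 1 0 = 0 ∧ g.1 0 0 = g.1 1 1

theorem sc_iff (g : SL₂[k]) : Sc g ↔ ∀ x : Pt k, g • x = x := by
  constructor
  · rintro ⟨hb, hc, had⟩ x
    rcases Pt.cases' x with rfl | ⟨z, rfl⟩
    · exact smul_inf_of_eq hc
    · rw [fix_fin_iff, hb, hc, had]; ring
  · intro h
    have hc := (smul_inf_iff g).1 (h inf)
    have h0 := (fix_fin_iff g 0).1 (h _)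
    have h1 := (fix_fin_iff g 1).1 (h _)
    have hb : g.1 0 1 = 0 := by linear_combination -h0
    exact ⟨hb, hc, by linear_combination -h1 + hc - hb⟩

/-- An element with fixed point `t • inf` and trace `±2` is conjugate by `t` to `±` a transvection. -/
theorem unip_form {g t : SL₂[k]} {ε : k} (htr : g.1 0 0 + g.1 1 1 = 2 * ε) (hε : ε ^ 2 = 1)
    (hfix : g • (t • (inf : Pt k)) = t • inf) :
    (t⁻¹ * g * t).1 1 0 = 0 ∧ (t⁻¹ * g * t).1 0 0 = ε ∧ (t⁻¹ * g * t).1 1 1 = ε := by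
  set u := t⁻¹ * g * t with hu
  have hc : u.1 1 0 = 0 := by
    rw [← smul_inf_iff, hu, mul_smul, mul_smul, hfix, inv_smul_smul]
  have ht : u.1 0 0 + u.1 1 1 = 2 * ε := by
    obtain ⟨i0, i1, i2, i3⟩ := inv_entries t
    rw [← htr, hu]
    simp only [mul00, mul01, mul10, mul11, i0, i1, i2, i3]
    linear_combination (g.1 0 0 + g.1 1 1) * det2 t
  have hd := det2 u
  have h0 : (u.1 0 0 - ε) ^ 2 = 0 := by
    linear_combination (u.1 0 0) * ht - hd - u.1 0 1 * hc + hε
  have h00 : u.1 0 0 = ε := sub_eq_zero.1 (eq_zero_of_pow_eq_zero h0)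
  exact ⟨hc, h00, by linear_combination ht - h00⟩

theorem entry10_rec (g : SL₂[k]) (n : ℕ) :
    (g ^ (n + 2)).1 1 0 = (g.1 0 0 + g.1 1 1) * (g ^ (n + 1)).1 1 0 - (g ^ n).1 1 0 := by
  rw [pow_succ, pow_succ]
  simp only [mul10, mul11]
  linear_combination -(g ^ n).1 1 0 * det2 g

variable {p : ℕ} [Fact p.Prime] [CharP k p] [IsAlgClosed k]

/-- Dickson: some element of a finite group moving the fixed line of a transvection gives, with it,
a copy of `SL₂` of the prime field. -/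
theorem exists_good_conj (hp : p ≠ 2) (G : Subgroup SL₂[k]) [Finite G] (hup : up 1 ∈ G)
    (hnf : ∃ g ∈ G, g.1 1 0 ≠ 0) :
    ∃ g ∈ G, ∃ i : ℕ, (i : k) ≠ 0 ∧ g.1 1 0 ^ 2 = (i : k) := by
  classical
  have hpp : p.Prime := Fact.out
  have hp3 : 3 ≤ p := by have := hpp.two_le; omega
  have h2 : (2 : k) ≠ 0 := by
    intro h
    have hd := (CharP.cast_eq_zero_iff k p 2).1 (by exact_mod_cast h)
    exact hp ((Nat.prime_dvd_prime_iff_eq hpp Nat.prime_two).1 hd)
  -- the translations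
  let A : AddSubgroup k :=
    { carrier := {a | up a ∈ G}
      zero_mem' := by show up (0 : k) ∈ G; rw [up_zero]; exact one_mem G
      add_mem' := fun {a b} ha hb => by show up (a + b) ∈ G; rw [← up_mul]; exact mul_mem ha hb
      neg_mem' := fun {a} ha => by show up (-a) ∈ G; rw [← up_inv]; exact inv_mem ha }
  have hA : ∀ a, a ∈ A ↔ up a ∈ G := fun _ => Iff.rfl
  haveI hAfin : Finite A := Finite.of_injective (fun a : A => (⟨up a.1, a.2⟩ : G))
    fun a b h => Subtype.ext (up_injective (congrArg Subtype.val h))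
  set q := Nat.card A with hq
  have hpq : p ∣ q := by
    have h1 : addOrderOf (⟨1, hup⟩ : A) = p := by
      rw [← AddSubgroup.addOrderOf_coe]
      exact CharP.eq k (CharP.addOrderOf_one k) inferInstance
    exact h1 ▸ addOrderOf_dvd_natCard _
  have hq3 : 3 ≤ q := hp3.trans (Nat.le_of_dvd Nat.card_pos hpq)
  -- the elements normalizing the upper group
  have hupA : ∀ u ∈ G, u.1 1 0 = 0 → u.1 0 0 ^ 2 = 1 → u.1 0 0 * u.1 0 1 ∈ A := by
    intro u hu hc h1
    have hd := det2 u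
    have h11 : u.1 1 1 = u.1 0 0 := by
      linear_combination u.1 0 0 * hd + u.1 0 0 * u.1 0 1 * hc - u.1 1 1 * h1
    have hsq : u * u = up (2 * (u.1 0 0 * u.1 0 1)) := by
      apply ext2 <;> simp [mul00, mul01, mul10, mul11, hc, h11] <;>
        first | exact h1 | linear_combination h1 | ring
    obtain ⟨r, hr⟩ := (hpp.eq_two_or_odd'.resolve_left hp).add_one
    have h := pow_mem (hsq ▸ mul_mem hu hu) r
    rw [up_pow, ← mul_assoc] at h
    have e : (r : k) * 2 = 1 := by
      have : ((p + 1 : ℕ) : k) = ((r + r : ℕ) : k) := by rw [hr]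
      push_cast at this
      rw [CharP.cast_eq_zero k p, zero_add] at this
      linear_combination -this
    rwa [e, one_mul] at h
  -- the points
  set Ω : Set (Pt k) := {x | ∃ g ∈ G, ¬ Sc g ∧ g • x = x} with hΩ
  have hfixset : ∀ g : SL₂[k], ¬ Sc g → ∃ s : Finset (Pt k), (∀ x, x ∈ s ↔ g • x = x) ∧
      (((g.1 0 0 + g.1 1 1) ^ 2 = 4 ∧ s.card = 1) ∨
        ((g.1 0 0 + g.1 1 1) ^ 2 ≠ 4 ∧ s.card = 2)) := fun g hg => card_fixed h2 g hg
  haveI hΩfin : Finite Ω := by
    choose s hs using fun g : {g : G // ¬ Sc g.1} => hfixset g.1.1 g.2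
    refine Set.Finite.to_subtype ((Set.finite_iUnion fun g => (s g).finite_toSet).subset ?_)
    rintro x ⟨g, hg, hgs, hx⟩
    exact Set.mem_iUnion.2 ⟨⟨⟨g, hg⟩, hgs⟩, ((hs _).1 x).2 hx⟩
  have hΩinv : ∀ g ∈ G, ∀ x ∈ Ω, g • x ∈ Ω := by
    rintro g hg x ⟨h, hh, hhs, hx⟩
    refine ⟨g * h * g⁻¹, mul_mem (mul_mem hg hh) (inv_mem hg), fun hsc => hhs ?_, ?_⟩
    · refine (sc_iff h).2 fun y => ?_
      have := (sc_iff _).1 hsc (g • y)
      rwa [mul_smul, mul_smul, inv_smul_smul, smul_left_cancel_iff] at this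
    · rw [mul_smul, mul_smul, inv_smul_smul, hx]
  letI : MulAction G Ω :=
    { smul := fun g x => ⟨(g : SL₂[k]) • (x : Pt k), hΩinv g g.2 x x.2⟩
      one_smul := fun x => Subtype.ext (one_smul SL₂[k] (x : Pt k))
      mul_smul := fun g h x => Subtype.ext (mul_smul (g : SL₂[k]) (h : SL₂[k]) (x : Pt k)) }
  let ρ : G →* Equiv.Perm Ω := MulAction.toPermHom G Ω
  have hρ : ∀ (g : G) (x : Ω), ((ρ g x : Ω) : Pt k) = (g : SL₂[k]) • (x : Pt k) := fun _ _ => rfl
  have hupSc : ¬ Sc (up (1 : k)) := fun h => one_ne_zero (α := k) (by simpa using h.1)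
  let x₀ : Ω := ⟨inf, up 1, hup, hupSc, smul_inf_of_eq (by simp)⟩
  obtain ⟨g₀, hg₀, hg₀c⟩ := hnf
  set z₀ := g₀.1 0 0 / g₀.1 1 0 with hz₀
  have hker : ∀ g : G, ρ g = 1 → Sc (g : SL₂[k]) := by
    intro g hg
    by_contra hns
    obtain ⟨s, hs, hcard⟩ := hfixset _ hns
    have hfix : ∀ x ∈ Ω, x ∈ s := fun x hx => (hs x).2 (by
      have h := hρ g ⟨x, hx⟩
      rw [hg] at h
      exact h.symm)
    have m0 : fin z₀ ∈ Ω := smul_inf_of_ne hg₀c ▸ hΩinv g₀ hg₀ _ x₀.2
    have m1 : fin (z₀ + 1) ∈ Ω := up_smul_fin (k := k) 1 z₀ ▸ hΩinv _ hup _ m0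
    have hle : ({inf, fin z₀, fin (z₀ + 1)} : Finset (Pt k)).card ≤ s.card := by
      refine Finset.card_le_card fun x hx => ?_
      simp only [Finset.mem_insert, Finset.mem_singleton] at hx
      rcases hx with rfl | rfl | rfl
      · exact hfix _ x₀.2
      · exact hfix _ m0
      · exact hfix _ m1
    rw [Finset.card_eq_three.2 ⟨_, _, _, (fin_ne_inf z₀).symm, (fin_ne_inf (z₀ + 1)).symm,
      fun h => one_ne_zero (α := k) (by linear_combination -(fin_injective h)), rfl⟩] at hle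
    omega
  have hρ1 : ∀ g : G, Sc (g : SL₂[k]) → ρ g = 1 := fun g hg => Equiv.ext fun x =>
    Subtype.ext ((hρ g x).trans ((sc_iff _).1 hg _))
  have hfixeq : ∀ g : G, ∀ x : Ω, ρ g x = x ↔ (g : SL₂[k]) • (x : Pt k) = x := fun g x =>
    ⟨fun h => (hρ g x).symm.trans (congrArg Subtype.val h), fun h => Subtype.ext ((hρ g x).trans h)⟩
  set H := ρ.range with hH
  have hsmulH : ∀ (h : H) (x : Ω), h • x = (h : Equiv.Perm Ω) x := fun _ _ => rfl
  have hmemH : ∀ g : G, ρ g ∈ H := fun g => ⟨g, rfl⟩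
  have hfixcard : ∀ g : G, ¬ Sc (g : SL₂[k]) →
      ((((g : SL₂[k]).1 0 0 + (g : SL₂[k]).1 1 1) ^ 2 = 4 ∧
        Nat.card (fixedBy Ω (⟨ρ g, hmemH g⟩ : H)) = 1) ∨
      (((g : SL₂[k]).1 0 0 + (g : SL₂[k]).1 1 1) ^ 2 ≠ 4 ∧
        Nat.card (fixedBy Ω (⟨ρ g, hmemH g⟩ : H)) = 2)) := by
    intro g hg
    obtain ⟨s, hs, hcard⟩ := hfixset _ hg
    have e : Nat.card (fixedBy Ω (⟨ρ g, hmemH g⟩ : H)) = s.card := by
      let Φ : fixedBy Ω (⟨ρ g, hmemH g⟩ : H) → {y : Pt k // y ∈ s} :=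
        fun x => ⟨x.1.1, (hs _).2 ((hfixeq g x.1).1 x.2)⟩
      have hΦ : Function.Bijective Φ := by
        refine ⟨fun x y h => ?_, fun y => ?_⟩
        · have h' : x.1.1 = y.1.1 := congrArg (fun z : {y : Pt k // y ∈ s} => z.1) h
          exact Subtype.ext (Subtype.ext h')
        · exact ⟨⟨⟨y.1, g, g.2, hg, (hs _).1 y.2⟩, (hfixeq g _).2 ((hs _).1 y.2)⟩, rfl⟩
      rw [Nat.card_eq_of_bijective Φ hΦ, Nat.card_eq_finsetCard]
    rw [e]
    exact hcard
  -- the orbit of infinity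
  set Z : Set k := {z | ∃ g ∈ G, g • (inf : Pt k) = fin z} with hZ
  have horb : ∀ x : Ω, x ∈ orbit H x₀ ↔ ∃ g ∈ G, g • (inf : Pt k) = x := by
    intro x
    constructor
    · rintro ⟨⟨_, g, rfl⟩, rfl⟩
      exact ⟨g, g.2, (hρ g x₀).symm⟩
    · rintro ⟨g, hg, hgx⟩
      exact ⟨⟨ρ ⟨g, hg⟩, hmemH _⟩, Subtype.ext ((hρ ⟨g, hg⟩ x₀).trans hgx)⟩
  have hZΩ : ∀ z ∈ Z, fin z ∈ Ω := fun z ⟨g, hg, h⟩ => h ▸ hΩinv g hg _ x₀.2
  haveI hZfin : Finite Z := Finite.of_injective (fun z : Z => (⟨fin z.1, hZΩ z.1 z.2⟩ : Ω))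
    fun a b h => Subtype.ext (fin_injective (congrArg Subtype.val h))
  have hz₀Z : z₀ ∈ Z := ⟨g₀, hg₀, smul_inf_of_ne hg₀c⟩
  have hZA : ∀ z ∈ Z, ∀ a ∈ A, z + a ∈ Z := fun z ⟨g, hg, h⟩ a ha =>
    ⟨up a * g, mul_mem ha hg, by rw [mul_smul, h, up_smul_fin]⟩
  set Zc : Set (k ⧸ A) := QuotientAddGroup.mk '' Z with hZc
  have hZpre : QuotientAddGroup.mk ⁻¹' Zc = Z := by
    ext z
    refine ⟨?_, fun h => ⟨z, h, rfl⟩⟩
    rintro ⟨w, hw, hwz⟩
    have h := hZA w hw _ (QuotientAddGroup.eq.1 hwz)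
    rwa [add_neg_cancel_left] at h
  set f := Nat.card Zc with hf
  have hZcard : Nat.card Z = f * q := by
    rw [← hZpre, Nat.card_congr (QuotientAddGroup.preimageMkEquivAddSubgroupProdSet A Zc),
      Nat.card_prod, mul_comm]
  have hf1 : 1 ≤ f := by
    haveI : Finite Zc := Set.Finite.to_subtype ((Set.toFinite Z).image _)
    haveI : Nonempty Zc := ⟨⟨_, z₀, hz₀Z, rfl⟩⟩
    exact Nat.card_pos
  have hm : Nat.card (orbit H x₀) = 1 + f * q := by
    let Φ : Option Z → orbit H x₀ := fun o => o.elim ⟨x₀, mem_orbit_self x₀⟩ fun z =>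
      ⟨⟨fin z.1, hZΩ z.1 z.2⟩, (horb _).2 z.2⟩
    have hΦ : Function.Bijective Φ := by
      constructor
      · intro a b h
        have h' := congrArg (fun x : orbit H x₀ => ((x : Ω) : Pt k)) h
        rcases a with _ | a <;> rcases b with _ | b
        · rfl
        · exact absurd h'.symm (fin_ne_inf b.1)
        · exact absurd h' (fin_ne_inf a.1)
        · exact congrArg some (Subtype.ext (fin_injective h'))
      · rintro ⟨⟨x, hx⟩, hxo⟩
        rcases Pt.cases' x with rfl | ⟨z, rfl⟩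
        · exact ⟨none, rfl⟩
        · exact ⟨some ⟨z, (horb _).1 hxo⟩, rfl⟩
    rw [← Nat.card_eq_of_bijective Φ hΦ, Finite.card_option, hZcard, add_comm]
  -- the stabilizer of infinity
  set S₀ : Subgroup G := MulAction.stabilizer G x₀ with hS₀
  have hS0mem : ∀ g : G, g ∈ S₀ ↔ (g : SL₂[k]).1 1 0 = 0 := fun g => by
    rw [← smul_inf_iff, hS₀, MulAction.mem_stabilizer_iff, Subtype.ext_iff]
    rfl
  let θ : S₀ →* kˣ :=
    { toFun := fun g => ⟨(g.1 : SL₂[k]).1 0 0 ^ 2, (g.1 : SL₂[k]).1 1 1 ^ 2, by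
          have hd := det2 (g.1 : SL₂[k]); have hc := (hS0mem g.1).1 g.2
          linear_combination ((g.1 : SL₂[k]).1 0 0 * (g.1 : SL₂[k]).1 1 1 + 1) * hd +
            ((g.1 : SL₂[k]).1 0 0 * (g.1 : SL₂[k]).1 1 1 + 1) * (g.1 : SL₂[k]).1 0 1 * hc, by
          have hd := det2 (g.1 : SL₂[k]); have hc := (hS0mem g.1).1 g.2
          linear_combination ((g.1 : SL₂[k]).1 0 0 * (g.1 : SL₂[k]).1 1 1 + 1) * hd +
            ((g.1 : SL₂[k]).1 0 0 * (g.1 : SL₂[k]).1 1 1 + 1) * (g.1 : SL₂[k]).1 0 1 * hc⟩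
      map_one' := Units.ext (by simp)
      map_mul' := fun g h => Units.ext (by
        show ((g.1 : SL₂[k]) * (h.1 : SL₂[k])).1 0 0 ^ 2 = _
        simp only [mul00, (hS0mem h.1).1 h.2, mul_zero, add_zero, mul_pow, Units.val_mul]) }
  have hθ : ∀ g : S₀, ((θ g : kˣ) : k) = (g.1 : SL₂[k]).1 0 0 ^ 2 := fun _ => rfl
  set M := θ.range with hM
  haveI : Finite M := Finite.of_surjective _ θ.rangeRestrict_surjective
  set c := Nat.card M with hc
  have hMA : ∀ g : S₀, ∀ a ∈ A, (g.1 : SL₂[k]).1 0 0 ^ 2 * a ∈ A := by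
    intro g a ha
    rw [hA]
    convert mul_mem (mul_mem g.1.2 ha) (inv_mem g.1.2) using 1
    obtain ⟨e00, e01, e10, e11⟩ := conj_up (g.1 : SL₂[k]) a
    have hcc := (hS0mem g.1).1 g.2
    apply ext2 <;> simp [e00, e01, e10, e11, hcc]
  have hcdvd : c ∣ q - 1 := by
    set An : Set kˣ := {u | (u : k) ∈ A} with hAn
    have hcard : Nat.card An = q - 1 := by
      haveI := Fintype.ofFinite A
      rw [show q - 1 = Nat.card {a : A // a ≠ 0} by
        rw [hq, Nat.card_eq_fintype_card, Nat.card_eq_fintype_card, Fintype.card_subtype_compl,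
          Fintype.card_subtype_eq]]
      exact Nat.card_congr
        { toFun := fun u => ⟨⟨u.1, u.2⟩, fun h => u.1.ne_zero (congrArg Subtype.val h)⟩
          invFun := fun a => ⟨Units.mk0 a.1.1 fun h => a.2 (Subtype.ext h), a.1.2⟩
          left_inv := fun u => Subtype.ext (Units.ext rfl)
          right_inv := fun a => Subtype.ext (Subtype.ext rfl) }
    have hpre : QuotientGroup.mk (s := M) ⁻¹' (QuotientGroup.mk '' An) = An := by
      ext u
      refine ⟨?_, fun h => ⟨u, h, rfl⟩⟩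
      rintro ⟨w, hw, hwu⟩
      obtain ⟨g, hg⟩ := (QuotientGroup.eq (s := M)).1 hwu
      have h := hMA g _ hw
      rw [← hθ g, hg] at h
      show (u : k) ∈ A
      convert h using 1
      rw [← Units.val_mul]
      congr 1
      rw [mul_comm, mul_inv_cancel_left]
    rw [← hcard, ← hpre, Nat.card_congr (QuotientGroup.preimageMkEquivSubgroupProdSet M _),
      Nat.card_prod]
    exact dvd_mul_right _ _
  choose rep hrep using fun m : M => m.2
  have hρeq : ∀ g g' : G, ρ g = ρ g' → Sc ((g' : SL₂[k])⁻¹ * (g : SL₂[k])) := fun g g' h => by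
    have := hker (g'⁻¹ * g) (by rw [map_mul, map_inv, h, inv_mul_cancel])
    simpa using this
  have hstab : Nat.card (stabilizer H x₀) = q * c := by
    let el : A × M → G := fun am => (⟨up am.1.1, am.1.2⟩ : G) * (rep am.2).1
    have hel : ∀ am, el am ∈ S₀ := fun am => by
      rw [hS0mem]
      simp [el, mul10, (hS0mem _).1 (rep am.2).2]
    let Φ : A × M → stabilizer H x₀ := fun am => ⟨⟨ρ (el am), hmemH _⟩, by
      rw [MulAction.mem_stabilizer_iff, hsmulH]
      exact Subtype.ext ((hρ _ _).trans (congrArg Subtype.val (hel am)))⟩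
    have hΦ : Function.Bijective Φ := by
      constructor
      · rintro ⟨a, m⟩ ⟨a', m'⟩ h
        have hsc := hρeq (el (a, m)) (el (a', m')) (congrArg Subtype.val (congrArg Subtype.val h))
        have e : θ ⟨el (a, m), hel _⟩ = θ ⟨el (a', m'), hel _⟩ := by
          apply Units.ext
          rw [hθ, hθ]
          obtain ⟨hb, hc', had⟩ := hsc
          have hd := det2 (((el (a', m') : G) : SL₂[k])⁻¹ * ((el (a, m) : G) : SL₂[k]))
          set σ := ((el (a', m') : G) : SL₂[k])⁻¹ * ((el (a, m) : G) : SL₂[k]) with hσ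
          have hmul : ((el (a, m) : G) : SL₂[k]) = ((el (a', m') : G) : SL₂[k]) * σ := by
            rw [hσ, mul_inv_cancel_left]
          show ((el (a, m) : G) : SL₂[k]).1 0 0 ^ 2 = ((el (a', m') : G) : SL₂[k]).1 0 0 ^ 2
          rw [hmul, mul00, hc', mul_zero, add_zero, mul_pow]
          linear_combination ((el (a', m') : G) : SL₂[k]).1 0 0 ^ 2 *
            (hd + σ.1 0 0 * had + σ.1 0 1 * hc')
        have hmm : m = m' := by
          apply Subtype.ext
          apply Units.ext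
          have h1 := congrArg (fun u : kˣ => (u : k)) (hrep m)
          have h2 := congrArg (fun u : kˣ => (u : k)) (hrep m')
          have h3 := congrArg (fun u : kˣ => (u : k)) e
          simp only [hθ] at h1 h2 h3
          rw [← h1, ← h2]
          simpa [el, mul00, (hS0mem _).1 (rep m).2, (hS0mem _).1 (rep m').2] using h3
        subst hmm
        have hsc2 : Sc (up (a.1 - a'.1)) := by
          rw [sc_iff] at hsc ⊢
          intro y
          have := hsc (((rep m).1 : SL₂[k])⁻¹ • y)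
          simp only [el, Subgroup.coe_mul, _root_.mul_inv_rev, mul_smul, smul_inv_smul,
            smul_left_cancel_iff] at this
          rw [up_inv, ← mul_smul, up_mul] at this
          rwa [sub_eq_neg_add]
        have h5 : a.1 - a'.1 = 0 := by simpa using hsc2.1
        rw [Subtype.ext (sub_eq_zero.1 h5)]
      · rintro ⟨⟨_, g, rfl⟩, hg⟩
        have hgS : g ∈ S₀ := hS₀ ▸ (Subtype.ext ((hρ g x₀).symm.trans
          (congrArg Subtype.val hg)) : g • x₀ = x₀)
        set m : M := ⟨θ ⟨g, hgS⟩, _, rfl⟩ with hm'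
        set u : S₀ := ⟨g, hgS⟩ * (rep m)⁻¹ with hu
        have hu1 : θ u = 1 := by
          rw [hu, map_mul, map_inv, hrep m]
          exact mul_inv_cancel _
        have hu00 : (u.1 : SL₂[k]).1 0 0 ^ 2 = 1 := by rw [← hθ, hu1]; rfl
        have huc := (hS0mem u.1).1 u.2
        have ha := hupA _ u.1.2 huc hu00
        refine ⟨(⟨_, ha⟩, m), Subtype.ext (Subtype.ext ?_)⟩
        show ρ (el (⟨_, ha⟩, m)) = ρ g
        have hsc : Sc ((up ((u.1 : SL₂[k]).1 0 0 * (u.1 : SL₂[k]).1 0 1))⁻¹ * (u.1 : SL₂[k])) := by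
          have hd := det2 (u.1 : SL₂[k])
          rw [up_inv]
          refine ⟨?_, ?_, ?_⟩ <;> simp [mul00, mul01, mul10, mul11, huc]
          · linear_combination -(u.1 : SL₂[k]).1 0 1 * hd - (u.1 : SL₂[k]).1 0 1 ^ 2 * huc
          · linear_combination (u.1 : SL₂[k]).1 1 1 * hu00 - (u.1 : SL₂[k]).1 0 0 * hd -
              (u.1 : SL₂[k]).1 0 0 * (u.1 : SL₂[k]).1 0 1 * huc
        have h1 : ρ (⟨_, ha⟩ : G) = ρ u.1 := by
          have h2 := hρ1 ((⟨_, ha⟩ : G)⁻¹ * u.1) hsc
          rwa [map_mul, map_inv, inv_mul_eq_one] at h2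
        rw [show el (⟨_, ha⟩, m) = (⟨_, ha⟩ : G) * (rep m).1 from rfl, map_mul, h1, ← map_mul]
        congr 1
        show (u * rep m : S₀).1 = g
        rw [hu, inv_mul_cancel_right]
    rw [← Nat.card_eq_of_bijective Φ hΦ, Nat.card_prod]
  -- elements with a single fixed point
  have hconjfix : ∀ (g : SL₂[k]) (a : k), a ≠ 0 → ∀ x : Pt k,
      (g * up a * g⁻¹) • x = x ↔ x = g • inf := by
    intro g a ha x
    rw [mul_smul, mul_smul, ← eq_inv_smul_iff]
    have key : ∀ y : Pt k, up a • y = y ↔ y = inf := by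
      intro y
      rcases Pt.cases' y with rfl | ⟨z, rfl⟩
      · simp [smul_inf_of_eq (g := up a) (by simp)]
      · rw [up_smul_fin, fin_injective.eq_iff, add_eq_left]
        exact iff_of_false ha (fin_ne_inf z)
    rw [key, inv_smul_eq_iff]
  have hu : Nat.card {h : H // h ≠ 1 ∧ Nat.card (fixedBy Ω h) = 1} = (q - 1) * (1 + f * q) := by
    choose gx hgx hgxi using fun x : orbit H x₀ => (horb x.1).1 x.2
    let elx : orbit H x₀ × {a : A // a ≠ 0} → G := fun xa =>
      ⟨gx xa.1 * up xa.2.1.1 * (gx xa.1)⁻¹,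
        mul_mem (mul_mem (hgx _) xa.2.1.2) (inv_mem (hgx _))⟩
    have helns : ∀ xa, ¬ Sc (elx xa : SL₂[k]) := by
      intro xa hsc
      have hne : xa.2.1.1 ≠ 0 := fun h => xa.2.2 (Subtype.ext h)
      have h1 := (hconjfix (gx xa.1) _ hne ((gx xa.1) • fin 0)).1 ((sc_iff _).1 hsc _)
      exact fin_ne_inf (0 : k) (smul_left_cancel _ h1)
    let Ψ : orbit H x₀ × {a : A // a ≠ 0} → {h : H // h ≠ 1 ∧ Nat.card (fixedBy Ω h) = 1} :=
      fun xa => ⟨⟨ρ (elx xa), hmemH _⟩, fun h => helns xa (hker _ (congrArg Subtype.val h)), by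
        rcases hfixcard _ (helns xa) with ⟨-, e⟩ | ⟨hne, -⟩
        · exact e
        · refine absurd ?_ hne
          obtain ⟨e00, -, -, e11⟩ := conj_up (gx xa.1) xa.2.1.1
          show ((gx xa.1 * up xa.2.1.1 * (gx xa.1)⁻¹ : SL₂[k]).1 0 0 +
            (gx xa.1 * up xa.2.1.1 * (gx xa.1)⁻¹ : SL₂[k]).1 1 1) ^ 2 = 4
          rw [e00, e11]
          ring⟩
    have hΨ : Function.Bijective Ψ := by
      constructor
      · rintro ⟨x, a⟩ ⟨y, b⟩ h
        have hP : ρ (elx (x, a)) = ρ (elx (y, b)) := congrArg Subtype.val (congrArg Subtype.val h)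
        have hne : a.1.1 ≠ 0 := fun h => a.2 (Subtype.ext h)
        have hne' : b.1.1 ≠ 0 := fun h => b.2 (Subtype.ext h)
        have hxy : x = y := by
          apply Subtype.ext
          have h1 : ρ (elx (x, a)) x.1 = x.1 := (hfixeq _ _).2
            ((hconjfix _ _ hne _).2 (hgxi x).symm)
          rw [hP] at h1
          exact Subtype.ext (((hconjfix _ _ hne' _).1 ((hfixeq _ _).1 h1)).trans (hgxi y))
        subst hxy
        have h1 := hρeq _ _ hP
        have h2 : Sc (up (a.1.1 - b.1.1)) := by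
          rw [sc_iff] at h1 ⊢
          intro z
          have := h1 (gx x • z)
          simp only [elx, _root_.mul_inv_rev, inv_inv, mul_smul, inv_smul_smul, smul_left_cancel_iff,
            up_inv] at this
          rwa [← mul_smul, up_mul, ← sub_eq_neg_add] at this
        have h3 : a.1.1 - b.1.1 = 0 := by simpa using h2.1
        rw [show a = b from Subtype.ext (Subtype.ext (sub_eq_zero.1 h3))]
      · rintro ⟨⟨_, g, rfl⟩, hg1, hg2⟩
        have hns : ¬ Sc (g : SL₂[k]) := fun hsc => hg1 (Subtype.ext (hρ1 g hsc))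
        obtain ⟨⟨x, hxfix⟩, huniq⟩ := (Nat.card_eq_one_iff_exists).1 hg2
        have htr : ((g : SL₂[k]).1 0 0 + (g : SL₂[k]).1 1 1) ^ 2 = 4 := by
          rcases hfixcard g hns with ⟨e, -⟩ | ⟨-, e⟩
          · exact e
          · exact absurd (hg2.symm.trans e) (by norm_num)
        have hgx' : (g : SL₂[k]) • (x : Pt k) = x := (hfixeq g x).1 hxfix
        set ε := ((g : SL₂[k]).1 0 0 + (g : SL₂[k]).1 1 1) / 2 with hε
        have hε2 : ε ^ 2 = 1 := by
          rw [hε, div_pow, htr, show (2 : k) ^ 2 = 4 by norm_num]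
          exact div_self (by rw [show (4 : k) = 2 * 2 by norm_num]; exact mul_ne_zero h2 h2)
        have htr' : (g : SL₂[k]).1 0 0 + (g : SL₂[k]).1 1 1 = 2 * ε := by
          rw [hε, mul_div_cancel₀ _ h2]
        have hxo : x ∈ orbit H x₀ := by
          by_contra hxo
          obtain ⟨t, ht⟩ : ∃ t : SL₂[k], t • (inf : Pt k) = x := by
            rcases Pt.cases' (x : Pt k) with e | ⟨z, e⟩
            · exact ⟨1, (one_smul _ _).trans e.symm⟩
            · obtain ⟨t, t0, t1⟩ : ∃ t : SL₂[k], t.1 0 0 = z ∧ t.1 1 0 = 1 :=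
                ⟨⟨!![z, -1; 1, 0], by simp [Matrix.det_fin_two]⟩, rfl, rfl⟩
              refine ⟨t, ?_⟩
              rw [e, smul_inf_of_ne (by rw [t1]; exact one_ne_zero), t0, t1, div_one]
          obtain ⟨e10, e00, e11⟩ := unip_form htr' hε2 (t := t) (by rw [ht]; exact hgx')
          set u := t⁻¹ * (g : SL₂[k]) * t with hu'
          have hsq : u * u = up (2 * (ε * u.1 0 1)) := by
            apply ext2 <;> simp [mul00, mul01, mul10, mul11, e10, e00, e11] <;>
              first | exact hε2 | linear_combination hε2 | ring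
          have hb : u.1 0 1 ≠ 0 := by
            intro hb
            refine hns ((sc_iff _).2 fun y => ?_)
            have hsc : Sc u := ⟨hb, e10, e00.trans e11.symm⟩
            have := (sc_iff u).1 hsc (t⁻¹ • y)
            rwa [hu', mul_smul, mul_smul, smul_inv_smul, smul_left_cancel_iff] at this
          have hg2eq : (g : SL₂[k]) * g = t * up (2 * (ε * u.1 0 1)) * t⁻¹ := by
            rw [← hsq, hu']; group
          have he : 2 * (ε * u.1 0 1) ≠ 0 := mul_ne_zero h2 (mul_ne_zero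
            (fun h => by rw [h] at hε2; simp at hε2) hb)
          let h' : H := ⟨ρ (g * g), hmemH _⟩
          have hh'p : h' ^ p = 1 := by
            apply Subtype.ext
            show ρ (g * g) ^ p = 1
            rw [← map_pow]
            refine hρ1 _ ?_
            rw [Subgroup.coe_pow, Subgroup.coe_mul, hg2eq, conj_pow, up_pow, CharP.cast_eq_zero k p,
              zero_mul, up_zero, mul_one, mul_inv_cancel]
            exact ⟨rfl, rfl, rfl⟩
          have hP : IsPGroup p (Subgroup.zpowers h') := by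
            intro y
            obtain ⟨i, hi⟩ := y.2
            refine ⟨1, Subtype.ext ?_⟩
            rw [pow_one, Subgroup.coe_pow, ← hi, ← zpow_natCast, zpow_comm, zpow_natCast, hh'p,
              one_zpow]
            rfl
          have hmod := hP.card_modEq_card_fixedPoints (orbit H x₀)
          rw [hm] at hmod
          have hempty : Nat.card (fixedPoints (Subgroup.zpowers h') (orbit H x₀)) = 0 := by
            refine Nat.card_eq_zero.2 (Or.inl ⟨fun y => hxo ?_⟩)
            have h5 : h' • (y.1 : Ω) = y.1 :=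
              congrArg Subtype.val (y.2 (⟨h', Subgroup.mem_zpowers h'⟩ : Subgroup.zpowers h'))
            have h6 := (hfixeq (g * g) y.1.1).1 h5
            rw [Subgroup.coe_mul, hg2eq, hconjfix t _ he] at h6
            rw [← show (y.1 : Ω) = x from Subtype.ext (h6.trans ht)]
            exact y.1.2
          rw [hempty] at hmod
          have h7 : p ∣ 1 + f * q := Nat.modEq_zero_iff_dvd.1 hmod
          have h8 : p ∣ 1 := (Nat.dvd_add_left (hpq.mul_left f)).1 h7
          exact hpp.one_lt.ne' (Nat.dvd_one.1 h8)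
        have hgt := hgxi ⟨x, hxo⟩
        obtain ⟨e10, e00, e11⟩ := unip_form htr' hε2 (t := gx ⟨x, hxo⟩) (by rw [hgt]; exact hgx')
        set t := gx ⟨x, hxo⟩ with ht
        set u := t⁻¹ * (g : SL₂[k]) * t with hu'
        have htG : t ∈ G := hgx _
        have huG : u ∈ G := mul_mem (mul_mem (inv_mem htG) g.2) htG
        have ha := hupA u huG e10 (by rw [e00]; exact hε2)
        have hsc : Sc ((up (u.1 0 0 * u.1 0 1))⁻¹ * u) := by
          rw [up_inv]
          refine ⟨?_, ?_, ?_⟩ <;> simp [mul00, mul01, mul10, mul11, e10, e00, e11]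
          linear_combination -(u.1 0 1) * hε2
        have ha0 : u.1 0 0 * u.1 0 1 ≠ 0 := fun h0 => hns <| by
          rw [h0, up_zero, inv_one, one_mul] at hsc
          refine (sc_iff _).2 fun y => ?_
          have := (sc_iff u).1 hsc (t⁻¹ • y)
          rwa [hu', mul_smul, mul_smul, smul_inv_smul, smul_left_cancel_iff] at this
        refine ⟨(⟨x, hxo⟩, ⟨⟨_, ha⟩, fun h => ha0 (congrArg Subtype.val h)⟩),
          Subtype.ext (Subtype.ext ?_)⟩
        show ρ (elx (⟨x, hxo⟩, ⟨⟨_, ha⟩, _⟩)) = ρ g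
        have h1 : ρ (⟨_, ha⟩ : G) = ρ (⟨u, huG⟩ : G) := by
          have h2 := hρ1 ((⟨_, ha⟩ : G)⁻¹ * ⟨u, huG⟩) hsc
          rwa [map_mul, map_inv, inv_mul_eq_one] at h2
        rw [show elx (⟨x, hxo⟩, ⟨⟨_, ha⟩, _⟩) = (⟨t, htG⟩ : G) * ⟨_, ha⟩ * (⟨t, htG⟩ : G)⁻¹ from rfl,
          map_mul, map_mul, h1, ← map_mul, ← map_mul]
        congr 1
        apply Subtype.ext
        show t * u * t⁻¹ = g
        rw [hu']; group
    rw [← Nat.card_eq_of_bijective Ψ hΨ, Nat.card_prod, hm, mul_comm]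
    congr 1
    haveI := Fintype.ofFinite A
    rw [Nat.card_eq_fintype_card, Fintype.card_subtype_compl, Fintype.card_subtype_eq, hq,
      Nat.card_eq_fintype_card]
  have hall : ∀ y : Ω, stabilizer H y ≠ ⊥ := by
    intro y hbot
    obtain ⟨g, hg, hgs, hgy⟩ := y.2
    have h : (⟨ρ ⟨g, hg⟩, hmemH _⟩ : H) ∈ stabilizer H y := (hfixeq ⟨g, hg⟩ y).2 hgy
    rw [hbot, Subgroup.mem_bot] at h
    exact hgs (hker _ (congrArg Subtype.val h))
  have hfix : ∀ h : H, h ≠ 1 → Nat.card (fixedBy Ω h) = 1 ∨ Nat.card (fixedBy Ω h) = 2 := by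
    rintro ⟨_, g, rfl⟩ h1
    rcases hfixcard g (fun hsc => h1 (Subtype.ext (hρ1 g hsc))) with h | h
    · exact Or.inl h.2
    · exact Or.inr h.2
  rcases perm_count x₀ q c f hq3 hcdvd hf1 hm hstab hfix hu hall with hf' | ⟨hq', hf', hc', h5⟩
  · -- a single coset of translations
    have hsub : ∀ z ∈ Z, z - z₀ ∈ A := by
      intro z hz
      haveI : Finite Zc := Set.Finite.to_subtype ((Set.toFinite Z).image _)
      haveI := (Nat.card_eq_one_iff_unique.1 (hf.symm.trans hf')).1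
      have e := Subsingleton.elim (⟨_, z₀, hz₀Z, rfl⟩ : Zc) ⟨_, z, hz, rfl⟩
      have h := QuotientAddGroup.eq.1 (congrArg Subtype.val e)
      rwa [neg_add_eq_sub] at h
    let Θ : {a : A // a ≠ 0} → {a : A // a ≠ 0} := fun a =>
      ⟨⟨-(1 / (g₀.1 1 0 ^ 2 * a.1.1)), by
          have hne : a.1.1 ≠ 0 := fun h => a.2 (Subtype.ext h)
          obtain ⟨e00, -, e10, -⟩ := conj_up g₀ a.1.1
          have hne' : (g₀ * up a.1.1 * g₀⁻¹).1 1 0 ≠ 0 := by
            rw [e10, neg_mul, neg_ne_zero]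
            exact mul_ne_zero (pow_ne_zero 2 hg₀c) hne
          have h := hsub _ ⟨g₀ * up a.1.1 * g₀⁻¹,
            mul_mem (mul_mem hg₀ a.1.2) (inv_mem hg₀), smul_inf_of_ne hne'⟩
          convert h using 1
          rw [e00, e10, hz₀]
          field_simp
          ring⟩, fun h => by
        have hne : a.1.1 ≠ 0 := fun h => a.2 (Subtype.ext h)
        have h' : -(1 / (g₀.1 1 0 ^ 2 * a.1.1)) = 0 := congrArg Subtype.val h
        rw [neg_eq_zero, one_div, inv_eq_zero] at h'
        exact mul_ne_zero (pow_ne_zero 2 hg₀c) hne h'⟩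
    have hΘ : Function.Injective Θ := by
      intro a b h
      have h' : -(1 / (g₀.1 1 0 ^ 2 * a.1.1)) = -(1 / (g₀.1 1 0 ^ 2 * b.1.1)) :=
        congrArg (fun z : {a : A // a ≠ 0} => z.1.1) h
      rw [neg_inj, one_div, one_div, _root_.inv_inj] at h'
      exact Subtype.ext (Subtype.ext (mul_left_cancel₀ (pow_ne_zero 2 hg₀c) h'))
    obtain ⟨a, ha⟩ := (Finite.injective_iff_surjective.1 hΘ) ⟨⟨1, hup⟩, fun h =>
      one_ne_zero (α := k) (congrArg Subtype.val h)⟩
    have ha1 : -(1 / (g₀.1 1 0 ^ 2 * a.1.1)) = 1 := congrArg (fun z : {a : A // a ≠ 0} => z.1.1) ha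
    obtain ⟨-, -, e10, -⟩ := conj_up g₀ a.1.1
    refine ⟨g₀ * up a.1.1 * g₀⁻¹, mul_mem (mul_mem hg₀ a.1.2) (inv_mem hg₀), 1, by simp, ?_⟩
    have hprod : g₀.1 1 0 ^ 2 * a.1.1 = -1 := by
      rw [one_div, neg_eq_iff_eq_neg, inv_eq_iff_eq_inv, inv_neg, inv_one] at ha1
      exact ha1
    rw [e10, Nat.cast_one]
    linear_combination (g₀.1 1 0 ^ 2 * a.1.1 - 1) * hprod
  · -- the exceptional case with three elements
    have hp' : p = 3 := by
      rw [hq'] at hpq
      exact (Nat.prime_dvd_prime_iff_eq hpp Nat.prime_three).1 hpq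
    have h3 : (3 : k) = 0 := by
      have := CharP.cast_eq_zero k p
      rw [hp'] at this
      exact_mod_cast this
    haveI : Fact (Nat.Prime 2) := ⟨Nat.prime_two⟩
    haveI : Nontrivial M := Finite.one_lt_card_iff_nontrivial.1 (by omega)
    obtain ⟨m, hm1⟩ := exists_ne (1 : M)
    have hm2 : m ^ 2 = 1 := by
      rw [← show Nat.card M = 2 by omega]
      exact pow_card_eq_one'
    set w := rep m with hw
    set W : SL₂[k] := (w.1 : SL₂[k]) with hW
    have hwc : W.1 1 0 = 0 := (hS0mem w.1).1 w.2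
    have hwd := det2 W
    have hwt : W.1 0 0 ^ 2 = -1 := by
      have h1 : ((m.1 : kˣ) : k) ^ 2 = 1 := by
        have := congrArg (fun u : M => ((u.1 : kˣ) : k)) hm2
        simpa using this
      have h2' : ((m.1 : kˣ) : k) ≠ 1 := fun h => hm1 (Subtype.ext (Units.ext h))
      rw [show W.1 0 0 ^ 2 = ((m.1 : kˣ) : k) by rw [← hrep m]; rfl]
      rcases sq_eq_one_iff.1 h1 with h | h
      · exact absurd h h2'
      · exact h
    have hw11 : W.1 1 1 = -W.1 0 0 := by
      linear_combination (-W.1 0 0) * hwd - W.1 0 0 * W.1 0 1 * hwc + W.1 1 1 * hwt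
    have hwns : ¬ Sc W := fun h => by
      have e : W.1 0 0 = 0 := by
        have h0 : 2 * W.1 0 0 = 0 := by linear_combination h.2.2 + hw11
        exact (mul_eq_zero.1 h0).resolve_left h2
      rw [e] at hwt
      simp at hwt
    -- the second fixed point of `W`
    obtain ⟨s, hs, hcard⟩ := hfixset _ hwns
    have hscard : s.card = 2 := by
      rcases hcard with ⟨h, -⟩ | ⟨-, h⟩
      · exfalso
        rw [hw11, add_neg_cancel, zero_pow two_ne_zero] at h
        exact mul_ne_zero h2 h2 (by linear_combination -h)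
      · exact h
    obtain ⟨y, hys, hyinf⟩ := Finset.exists_mem_ne (by omega : 1 < s.card) (inf : Pt k)
    obtain ⟨z₁, rfl⟩ := (Pt.cases' y).resolve_left hyinf
    have hyfix := (hs _).1 hys
    let y₁ : Ω := ⟨fin z₁, W, w.1.2, hwns, hyfix⟩
    let hw' : H := ⟨ρ w.1, hmemH _⟩
    have hwo : orderOf hw' = 2 := by
      refine orderOf_eq_prime (Subtype.ext ?_) fun h => hwns (hker _ (congrArg Subtype.val h))
      show ρ w.1 ^ 2 = 1
      rw [← map_pow]
      refine hρ1 _ ?_
      rw [Subgroup.coe_pow, pow_two]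
      refine ⟨?_, ?_, ?_⟩ <;>
        simp only [mul00, mul01, mul10, mul11, ← hW, hwc, hw11] <;> ring
    have hy₁o : y₁ ∈ orbit H x₀ := by
      by_contra hno
      have hmem : hw' ∈ stabilizer H y₁ := (hfixeq w.1 y₁).2 hyfix
      have hd := Subgroup.orderOf_dvd_natCard _ hmem
      rw [hwo, h5 y₁ hno] at hd
      omega
    obtain ⟨s₀, hs₀, hs₀y⟩ := (horb _).1 hy₁o
    let s₀G : G := ⟨s₀, hs₀⟩
    have hy₁stab : Nat.card (stabilizer H y₁) = 6 := by
      haveI := Fintype.ofFinite H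
      haveI := Fintype.ofFinite Ω
      have e1 := MulAction.card_orbit_mul_card_stabilizer_eq_card_group H x₀
      have e2 := MulAction.card_orbit_mul_card_stabilizer_eq_card_group H y₁
      simp only [← Nat.card_eq_fintype_card] at e1 e2
      rw [hm, hstab, hq', hf', hc'] at e1
      rw [orbit_eq_iff.2 hy₁o, hm, hq', hf'] at e2
      omega
    -- two involutions of the stabilizer, conjugate there
    let a₁ : stabilizer H y₁ := ⟨hw', (hfixeq w.1 y₁).2 hyfix⟩
    have hwb : (⟨ρ (s₀G * w.1 * s₀G⁻¹), hmemH _⟩ : H) ∈ stabilizer H y₁ := by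
      refine (hfixeq _ y₁).2 ?_
      show (s₀ * W * s₀⁻¹) • (y₁ : Pt k) = y₁
      rw [mul_smul, mul_smul, inv_smul_eq_iff.2 hs₀y.symm, smul_inf_of_eq hwc, hs₀y]
    let b₁ : stabilizer H y₁ := ⟨_, hwb⟩
    have hb₁ : orderOf b₁ = 2 := by
      rw [← Subgroup.orderOf_coe]
      have e : ((b₁ : stabilizer H y₁) : H) =
          (⟨ρ s₀G, hmemH _⟩ : H) * hw' * (⟨ρ s₀G, hmemH _⟩ : H)⁻¹ :=
        Subtype.ext (by simp [b₁, hw'])
      rw [e]
      exact (MulEquiv.orderOf_eq (MulAut.conj (⟨ρ s₀G, hmemH _⟩ : H)) hw').trans hwo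
    have hfac : (Nat.card (stabilizer H y₁)).factorization 2 = 1 := by
      rw [hy₁stab, show (6 : ℕ) = 2 * 3 from rfl, Nat.factorization_mul (by norm_num) (by norm_num),
        Nat.prime_two.factorization, Nat.prime_three.factorization]
      simp
    have ha₁ : orderOf a₁ = 2 := by rw [← Subgroup.orderOf_coe]; exact hwo
    let P₁ : Sylow 2 (stabilizer H y₁) :=
      Sylow.ofCard (Subgroup.zpowers a₁) (by rw [Nat.card_zpowers, ha₁, hfac, pow_one])
    let P₂ : Sylow 2 (stabilizer H y₁) :=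
      Sylow.ofCard (Subgroup.zpowers b₁) (by rw [Nat.card_zpowers, hb₁, hfac, pow_one])
    obtain ⟨r, hr⟩ := MulAction.exists_smul_eq (stabilizer H y₁) P₂ P₁
    have hr' : r * b₁ * r⁻¹ = a₁ := by
      have hmem : r * b₁ * r⁻¹ ∈ Subgroup.zpowers a₁ := by
        have e : (P₁ : Subgroup (stabilizer H y₁)) = Subgroup.zpowers a₁ := rfl
        rw [← e, ← hr, Sylow.coe_subgroup_smul]
        exact ⟨b₁, Subgroup.mem_zpowers _, rfl⟩
      obtain ⟨i, hi⟩ := Subgroup.mem_zpowers_iff.1 hmem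
      rw [← zpow_mod_orderOf, ha₁] at hi
      rcases Int.emod_two_eq_zero_or_one i with h | h
      · exfalso
        rw [show (i % ((2 : ℕ) : ℤ)) = 0 from h, zpow_zero] at hi
        have hb : b₁ = 1 := by
          rw [show b₁ = r⁻¹ * (r * b₁ * r⁻¹) * r by group, ← hi]; group
        rw [hb, orderOf_one] at hb₁
        omega
      · rw [show (i % ((2 : ℕ) : ℤ)) = 1 from h, zpow_one] at hi
        exact hi.symm
    obtain ⟨⟨_, kg, hkg⟩, hkfix⟩ := r
    subst hkg
    -- an element exchanging the two fixed points of `W`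
    set s₁ : SL₂[k] := (kg : SL₂[k]) * s₀ with hs₁
    have hs₁G : s₁ ∈ G := mul_mem kg.2 hs₀
    have hky : (kg : SL₂[k]) • (y₁ : Pt k) = y₁ := (hfixeq kg y₁).1 hkfix
    have hs₁inf : s₁ • (inf : Pt k) = fin z₁ := by
      rw [hs₁, mul_smul, hs₀y]; exact hky
    have hconj : ρ (⟨s₁, hs₁G⟩ * w.1 * (⟨s₁, hs₁G⟩ : G)⁻¹) = ρ w.1 := by
      have h := congrArg (fun z : stabilizer H y₁ => ((z : H) : Equiv.Perm Ω)) hr'
      simp only [Subgroup.coe_mul, Subgroup.coe_inv, a₁, b₁, hw'] at h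
      rw [← h, show (⟨s₁, hs₁G⟩ : G) = kg * s₀G from rfl, _root_.mul_inv_rev]
      simp only [map_mul, map_inv, mul_assoc]
    have hswap : s₁ • fin z₁ = (inf : Pt k) := by
      have hfixW : W • (s₁ • fin z₁) = s₁ • fin z₁ := by
        have h1 : ρ (⟨s₁, hs₁G⟩ * w.1 * (⟨s₁, hs₁G⟩ : G)⁻¹)
            ⟨s₁ • fin z₁, hΩinv _ hs₁G _ y₁.2⟩ = ⟨s₁ • fin z₁, hΩinv _ hs₁G _ y₁.2⟩ := by
          refine (hfixeq _ _).2 ?_
          show (s₁ * W * s₁⁻¹) • (s₁ • fin z₁) = s₁ • fin z₁
          rw [mul_smul, mul_smul, inv_smul_smul, hyfix]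
        rw [hconj] at h1
        exact (hfixeq _ _).1 h1
      have hmem := (hs _).2 hfixW
      have hinfs : (inf : Pt k) ∈ s := (hs _).2 (smul_inf_of_eq hwc)
      have hsub : ({inf, fin z₁} : Finset (Pt k)) = s := by
        refine Finset.eq_of_subset_of_card_le (fun x hx => ?_) (by
          rw [hscard, Finset.card_pair (fin_ne_inf _).symm])
        rw [Finset.mem_insert, Finset.mem_singleton] at hx
        rcases hx with rfl | rfl
        · exact hinfs
        · exact hys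
      rw [← hsub, Finset.mem_insert, Finset.mem_singleton] at hmem
      refine hmem.resolve_right fun h => fin_ne_inf z₁ ?_
      exact smul_left_cancel s₁ (h.trans hs₁inf.symm)
    have hγ : s₁.1 1 0 ≠ 0 := fun h => by
      rw [smul_inf_of_eq h] at hs₁inf
      exact fin_ne_inf z₁ hs₁inf.symm
    have htr0 : s₁.1 0 0 + s₁.1 1 1 = 0 := by
      rw [smul_inf_of_ne hγ] at hs₁inf
      have hz1 := fin_injective hs₁inf
      rw [div_eq_iff hγ] at hz1
      have hden : s₁.1 1 0 * z₁ + s₁.1 1 1 = 0 := by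
        by_contra hden
        have e : s₁ • fin z₁ =
            fin ((s₁.1 0 0 * z₁ + s₁.1 0 1) / (s₁.1 1 0 * z₁ + s₁.1 1 1)) := by
          simp [smul_def, lin, toPt, hden]
        exact fin_ne_inf _ (e.symm.trans hswap)
      linear_combination hden + hz1
    set γ := s₁.1 1 0 with hγdef
    by_cases hγ1 : γ ^ 2 = 1
    · exact ⟨s₁, hs₁G, 1, by simp, by rw [Nat.cast_one]; exact hγ1⟩
    -- the product with the transvection has order five
    set h := up 1 * s₁ with hh
    have hhtr : h.1 0 0 + h.1 1 1 = γ := by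
      rw [hh, mul00, mul11]
      simp only [up_coe, Matrix.of_apply, Matrix.cons_val', Matrix.cons_val_zero, Matrix.cons_val_one,
        Matrix.empty_val', Matrix.cons_val_fin_one]
      linear_combination htr0
    have hh10 : h.1 1 0 = γ := by
      rw [hh, mul10]
      simp [hγdef]
    have hhG : h ∈ G := mul_mem hup hs₁G
    have hhns : ¬ Sc h := fun h' => hγ (hh10 ▸ h'.2.1)
    obtain ⟨s', hs', hc'⟩ := hfixset _ hhns
    obtain ⟨x, hx⟩ : ∃ x, x ∈ s' := Finset.card_pos.1 (by rcases hc' with h | h <;> omega)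
    let x₁ : Ω := ⟨x, h, hhG, hhns, (hs' _).1 hx⟩
    let hh' : stabilizer H x₁ := ⟨⟨ρ ⟨h, hhG⟩, hmemH _⟩, (hfixeq ⟨h, hhG⟩ x₁).2 ((hs' _).1 hx)⟩
    have hn : Sc (h ^ 5) ∨ Sc (h ^ 6) := by
      have hpow : ∀ n, Nat.card (stabilizer H x₁) = n → Sc (h ^ n) := by
        intro n hn
        have h1 : hh' ^ n = 1 := hn ▸ pow_card_eq_one'
        have h2 : ρ ⟨h, hhG⟩ ^ n = 1 := congrArg (fun z : stabilizer H x₁ =>
          ((z : H) : Equiv.Perm Ω)) h1
        rw [← map_pow] at h2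
        exact hker _ h2
      by_cases hxo : x₁ ∈ orbit H x₀
      · refine Or.inr (hpow 6 ?_)
        haveI := Fintype.ofFinite H
        haveI := Fintype.ofFinite Ω
        have e1 := MulAction.card_orbit_mul_card_stabilizer_eq_card_group H x₀
        have e2 := MulAction.card_orbit_mul_card_stabilizer_eq_card_group H x₁
        simp only [← Nat.card_eq_fintype_card] at e1 e2
        rw [hm, hstab, hq', hf', show c = 2 by omega] at e1
        rw [orbit_eq_iff.2 hxo, hm, hq', hf'] at e2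
        omega
      · exact Or.inl (hpow 5 (h5 x₁ hxo))
    have r0 : (h ^ 0).1 1 0 = 0 := by simp
    have r1 : (h ^ 1).1 1 0 = γ := by rw [pow_one, hh10]
    have r2 : (h ^ 2).1 1 0 = γ ^ 2 := by rw [entry10_rec h 0, hhtr, r0, r1]; ring
    have r3 : (h ^ 3).1 1 0 = γ ^ 3 - γ := by rw [entry10_rec h 1, hhtr, r2, r1]; ring
    have r4 : (h ^ 4).1 1 0 = γ ^ 4 - 2 * γ ^ 2 := by rw [entry10_rec h 2, hhtr, r3, r2]; ring
    have r5 : (h ^ 5).1 1 0 = γ * (γ ^ 4 + 1) := by
      rw [entry10_rec h 3, hhtr, r4, r3]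
      linear_combination -(γ ^ 3) * h3
    have r6 : (h ^ 6).1 1 0 = γ ^ 4 * (γ ^ 2 - 1) := by
      rw [entry10_rec h 4, hhtr, r5, r4]
      linear_combination γ ^ 2 * h3
    rcases hn with hn | hn
    · have h4 : γ ^ 4 + 1 = 0 := by
        have h0 := hn.2.1
        rw [r5] at h0
        exact (mul_eq_zero.1 h0).resolve_left hγ
      refine ⟨s₁ * up 1 * s₁, mul_mem (mul_mem hs₁G hup) hs₁G, 2, ?_, ?_⟩
      · exact_mod_cast h2
      · have e : (s₁ * up 1 * s₁).1 1 0 = γ ^ 2 := by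
          simp only [mul10, mul11, up_coe, Matrix.of_apply, Matrix.cons_val', Matrix.cons_val_zero,
            Matrix.cons_val_one, Matrix.empty_val', Matrix.cons_val_fin_one, ← hγdef]
          linear_combination γ * htr0
        rw [e, Nat.cast_ofNat]
        linear_combination h4 - h3
    · exfalso
      have h0 := hn.2.1
      rw [r6] at h0
      exact hγ1 (sub_eq_zero.1 ((mul_eq_zero.1 h0).resolve_left (pow_ne_zero 4 hγ)))

end CfsgLib.Qd
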