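import Mathlib
import Cfsg.Agent.Lib.Qd.Dickson
import Cfsg.Agent.Lib.Qd.QdGroup
import Cfsg.Agent.Lib.Fusion.ThompsonComplement
import Cfsg.Agent.Lib.Classical.SL2Sylow

/-!
Subgroups of `SL₂(q)` with more than one Sylow subgroup in the natural characteristic contain `SL₂(p)`;
`Qd(p)` is not a section of `PSL₂(q)`.
-/

set_option autoImplicit false

namespace CfsgLib.Qd

open Matrix CfsgLib.Classical

variable {F : Type*} [Field F]

local notation "S2" => Matrix.SpecialLinearGroup (Fin 2) F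

/-- Conjugation by an element of `GL₂` as an automorphism of `SL₂`. -/
def glConjAut (g : GL (Fin 2) F) : S2 ≃* S2 where
  toFun x := ⟨(g⁻¹ : GL (Fin 2) F).1 * x.1 * g.1, by
    rw [Matrix.det_mul, Matrix.det_mul, x.2, mul_one, ← Matrix.det_mul, ← Units.val_mul, inv_mul_cancel,
      Units.val_one, Matrix.det_one]⟩
  invFun x := ⟨g.1 * x.1 * (g⁻¹ : GL (Fin 2) F).1, by
    rw [Matrix.det_mul, Matrix.det_mul, x.2, mul_one, ← Matrix.det_mul, ← Units.val_mul, mul_inv_cancel,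
      Units.val_one, Matrix.det_one]⟩
  left_inv x := Subtype.ext (by simp [mul_assoc])
  right_inv x := Subtype.ext (by simp [mul_assoc])
  map_mul' x y := Subtype.ext (by
    show (g⁻¹ : GL (Fin 2) F).1 * (x.1 * y.1) * g.1 =
      (g⁻¹ : GL (Fin 2) F).1 * x.1 * g.1 * ((g⁻¹ : GL (Fin 2) F).1 * y.1 * g.1)
    simp [mul_assoc])

theorem toGL_glConjAut (g : GL (Fin 2) F) (x : S2) :
    SpecialLinearGroup.toGL (glConjAut g x) = g⁻¹ * SpecialLinearGroup.toGL x * g :=
  Units.ext rfl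

theorem toGL_injective' : Function.Injective (SpecialLinearGroup.toGL : S2 →* GL (Fin 2) F) :=
  fun _ _ h => Subtype.ext (congrArg Units.val h)

theorem mem_upU_of_pow {p : ℕ} [Fact p.Prime] [CharP F p] {v : S2} {k : ℕ}
    (hv : v ^ p ^ k = 1) (h : v.1 1 0 = 0) : SpecialLinearGroup.toGL v ∈ (upU : Subgroup (GL (Fin 2) F)) := by
  haveI : ExpChar F p := ExpChar.prime Fact.out
  have hd : v.1 0 0 * v.1 1 1 = 1 := by
    have := det2 v; rw [h, mul_zero, sub_zero] at this; exact this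
  have key : ∀ n : ℕ, (v ^ n).1 1 0 = 0 ∧ (v ^ n).1 0 0 = v.1 0 0 ^ n := by
    intro n
    induction n with
    | zero => simp
    | succ n ih => rw [pow_succ]; simp [mul10, mul00, h, ih.1, ih.2, pow_succ]
  have h00 : v.1 0 0 = 1 := by
    have := (key (p ^ k)).2
    rw [hv] at this
    refine sub_eq_zero.1 (eq_zero_of_pow_eq_zero (n := p ^ k) ?_)
    rw [sub_pow_expChar_pow, one_pow, ← this]
    simp
  refine mem_upU.2 ⟨h00, h, ?_⟩
  rw [h00, one_mul] at hd
  exact hd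

theorem exists_copy_of_two_sylows [Fintype F] (p : ℕ) [Fact p.Prime] [CharP F p] (hp : p ≠ 2)
    (H : Subgroup S2) (hH : 1 < Nat.card (Sylow p H)) :
    ∃ K : Subgroup S2, K ≤ H ∧ Nonempty (K ≃* Matrix.SpecialLinearGroup (Fin 2) (ZMod p)) := by
  classical
  haveI : Nontrivial (Sylow p H) := Finite.one_lt_card_iff_nontrivial.1 hH
  obtain ⟨P, Q, hPQ⟩ := exists_pair_ne (Sylow p H)
  obtain ⟨P₀, hP₀⟩ := (P.isPGroup'.map H.subtype).exists_le_sylow
  obtain ⟨g, hg⟩ := sl_sylow_conj p P₀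
  obtain ⟨v, hvQ, hvP⟩ : ∃ v ∈ (Q : Subgroup H), (v : S2) ∉ (P₀ : Subgroup S2) := by
    by_contra hcon
    push Not at hcon
    have h1 : IsPGroup p ((P₀ : Subgroup S2).subgroupOf H) := P₀.isPGroup'.comap_subtype
    have e1 := P.is_maximal' h1 fun x hx => hP₀ ⟨x, hx, rfl⟩
    exact hPQ (Sylow.ext ((Q.is_maximal' h1 fun x hx => hcon x hx) ▸ e1.symm))
  obtain ⟨u, huP, hu1⟩ : ∃ u ∈ (P : Subgroup H), u ≠ 1 := by
    by_contra hcon
    push Not at hcon
    have hbot : (P : Subgroup H) = ⊥ := (Subgroup.eq_bot_iff_forall _).2 hcon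
    exact hPQ (Sylow.ext (P.is_maximal' Q.isPGroup' (hbot ▸ bot_le)).symm)
  have hu : g⁻¹ * SpecialLinearGroup.toGL (u : S2) * g ∈ (upU : Subgroup (GL (Fin 2) F)) :=
    (hg _).1 (hP₀ ⟨u, huP, rfl⟩)
  obtain ⟨M, hM⟩ : ∃ M : GL (Fin 2) F, g⁻¹ * SpecialLinearGroup.toGL (u : S2) * g = M := ⟨_, rfl⟩
  rw [hM] at hu
  obtain ⟨h0, h1, h2⟩ := mem_upU.1 hu
  set a := M.1 0 1 with hadef
  have ha : a ≠ 0 := by
    intro ha
    refine hu1 (Subtype.ext (toGL_injective' ?_))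
    have e : g⁻¹ * SpecialLinearGroup.toGL (u : S2) * g = 1 := by
      rw [hM]
      ext i j; fin_cases i <;> fin_cases j <;> simp [h0, h1, h2, ← hadef, ha]
    have e' := congrArg (fun z => g * z * g⁻¹) e
    simpa [mul_assoc] using e'
  let d : GL (Fin 2) F := Matrix.GeneralLinearGroup.mkOfDetNeZero !![a, 0; 0, 1] (by simp [det_fin_two, ha])
  have hd : d.1 = !![a, 0; 0, 1] := rfl
  let φ : S2 ≃* S2 := glConjAut (g * d)
  have hφ : ∀ x : S2, d.1 * (φ x).1 = (g⁻¹ * SpecialLinearGroup.toGL x * g).1 * d.1 := by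
    intro x
    show (d * SpecialLinearGroup.toGL (φ x)).1 = (g⁻¹ * SpecialLinearGroup.toGL x * g * d).1
    congr 1
    simp only [φ, toGL_glConjAut]
    group
  have hφu : φ (u : S2) = up 1 := by
    have e := hφ u
    rw [hd, hM] at e
    have e00 := congrFun (congrFun e 0) 0
    have e01 := congrFun (congrFun e 0) 1
    have e10 := congrFun (congrFun e 1) 0
    have e11 := congrFun (congrFun e 1) 1
    simp [Matrix.mul_apply, Fin.sum_univ_two] at e00 e01 e10 e11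
    apply ext2 <;> simp
    · exact mul_left_cancel₀ ha (by rw [e00, h0]; ring)
    · exact mul_left_cancel₀ ha (by rw [e01, mul_one])
    · rw [e10, h1, zero_mul]
    · rw [e11, h2]
  let G : Subgroup S2 := H.map φ.toMonoidHom
  have hmem : ∀ x : H, φ (x : S2) ∈ G := fun x => Subgroup.mem_map.2 ⟨x, x.2, rfl⟩
  have hnf : ∃ w ∈ G, w.1 1 0 ≠ 0 := by
    refine ⟨φ (v : S2), hmem v, fun h0' => hvP ((hg _).2 ?_)⟩
    obtain ⟨k, hk⟩ := Q.isPGroup' ⟨v, hvQ⟩
    have hk' : φ (v : S2) ^ p ^ k = 1 := by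
      have hk2 : v ^ p ^ k = 1 := congrArg Subtype.val hk
      rw [← map_pow, ← SubgroupClass.coe_pow, hk2]; simp
    obtain ⟨m0, m1, m2⟩ := mem_upU.1 (mem_upU_of_pow hk' h0')
    have e := hφ v
    obtain ⟨N, hN⟩ : ∃ N : GL (Fin 2) F, g⁻¹ * SpecialLinearGroup.toGL (v : S2) * g = N := ⟨_, rfl⟩
    rw [hd, hN] at e
    rw [hN]
    have e00 := congrFun (congrFun e 0) 0
    have e10 := congrFun (congrFun e 1) 0
    have e11 := congrFun (congrFun e 1) 1
    simp [Matrix.mul_apply, Fin.sum_univ_two] at e00 e10 e11 m0 m1 m2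
    refine mem_upU.2 ⟨mul_right_cancel₀ ha ?_, mul_right_cancel₀ ha ?_, ?_⟩
    · simp [← e00, m0]
    · simp [← e10, m1]
    · simp [← e11, m2]
  obtain ⟨w, hw, i, hi0, hi⟩ : ∃ w ∈ G, ∃ i : ℕ, (i : F) ≠ 0 ∧ w.1 1 0 ^ 2 = (i : F) := by
    let j : F →+* AlgebraicClosure F := algebraMap F (AlgebraicClosure F)
    let J := Matrix.SpecialLinearGroup.map (n := Fin 2) j
    haveI : CharP (AlgebraicClosure F) p := charP_of_injective_algebraMap j.injective p
    obtain ⟨w₁, hw₁, hw₁0⟩ := hnf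
    haveI : Finite (G.map J) := Set.Finite.to_subtype ((Set.toFinite (G : Set S2)).image J)
    obtain ⟨w', hw', i, hi0, hi⟩ := exists_good_conj (p := p) hp (G.map J)
      ⟨up 1, hφu ▸ hmem u, ext2 (by simp [J]) (by simp [J]) (by simp [J]) (by simp [J])⟩
      ⟨J w₁, ⟨w₁, hw₁, rfl⟩, by simpa [J] using hw₁0⟩
    obtain ⟨w, hw, rfl⟩ := hw'
    refine ⟨w, hw, i, fun h => hi0 ?_, j.injective ?_⟩
    · rw [← map_natCast j, h, map_zero]
    · rw [map_pow, map_natCast, ← hi]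
      simp [J]
  have hc : w.1 1 0 ≠ 0 := fun h => hi0 (by rw [← hi, h]; ring)
  set t : S2 := up (w.1 0 0 / w.1 1 0) with ht
  let c : ZMod p →+* F := ZMod.castHom dvd_rfl F
  let ψ : Matrix.SpecialLinearGroup (Fin 2) (ZMod p) →* S2 :=
    (MulAut.conj t).toMonoidHom.comp (Matrix.SpecialLinearGroup.map c)
  have hψ : Function.Injective ψ := fun x y h => by
    have h' := (MulAut.conj t).injective h
    refine Subtype.ext (Matrix.ext fun r s => c.injective ?_)
    exact congrFun (congrFun (congrArg Subtype.val h') r) s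
  have hlam : -(i : ZMod p) ≠ 0 := neg_ne_zero.2 fun h => hi0 (by
    have := congrArg c h; rwa [map_natCast, map_zero] at this)
  have hψu : ψ (up 1) = up 1 := by
    show t * Matrix.SpecialLinearGroup.map c (up 1) * t⁻¹ = _
    rw [show Matrix.SpecialLinearGroup.map c (up (1 : ZMod p)) = up 1 from ext2 (by simp) (by simp) (by simp) (by simp),
      ht, up_inv, up_mul, up_mul]
    congr 1; ring
  have hψl : ψ (lo (-(i : ZMod p))) = w * up 1 * w⁻¹ := by
    show t * Matrix.SpecialLinearGroup.map c (lo (-(i : ZMod p))) * t⁻¹ = _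
    rw [show Matrix.SpecialLinearGroup.map c (lo (-(i : ZMod p))) = lo (-(w.1 1 0 ^ 2)) from
      ext2 (by simp) (by simp) (by simp [hi]) (by simp), ht, up_inv]
    obtain ⟨c0, c1, c2, c3⟩ := conj_up w 1
    apply ext2
    · rw [c0]; simp [mul00, mul01, mul10, mul11]; field_simp; ring
    · rw [c1]; simp [mul00, mul01, mul10, mul11]; field_simp; ring
    · rw [c2]; simp [mul00, mul01, mul10, mul11]
    · rw [c3]; simp [mul00, mul01, mul10, mul11]; field_simp; ring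
  have hle : ψ.range ≤ G := by
    rw [MonoidHom.range_eq_map, ← closure_up_lo hlam, MonoidHom.map_closure, Subgroup.closure_le,
      Set.image_pair, Set.pair_subset_iff, hψu, hψl]
    have hupG : up 1 ∈ G := hφu ▸ hmem u
    exact ⟨hupG, mul_mem (mul_mem hw hupG) (inv_mem hw)⟩
  refine ⟨ψ.range.map φ.symm.toMonoidHom, ?_,
    ⟨(ψ.range.equivMapOfInjective _ φ.symm.injective).symm.trans (MonoidHom.ofInjective hψ).symm⟩⟩
  rintro _ ⟨y, hy, rfl⟩
  obtain ⟨x, hx, rfl⟩ := Subgroup.mem_map.1 (hle hy)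
  simpa using hx

theorem sylow_quaternion_of_two_sylows [Fintype F] (p : ℕ) [Fact p.Prime] [CharP F p] (hp : p ≠ 2)
    (H : Subgroup S2) (hH : 1 < Nat.card (Sylow p H)) (S : Sylow 2 H) :
    ∃ k : ℕ, 1 ≤ k ∧ Nonempty ((S : Subgroup H) ≃* QuaternionGroup (2 ^ k)) := by
  haveI : Fact (Nat.Prime 2) := ⟨Nat.prime_two⟩
  have h2 : (2 : F) ≠ 0 := Ring.two_ne_zero (fun hc => hp (CharP.eq F ‹CharP F p› (ringChar.of_eq hc)))
  obtain ⟨K, hKH, ⟨e⟩⟩ := exists_copy_of_two_sylows p hp H hH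
  obtain ⟨Q, hQ, x, hx, y, hy, hxy⟩ := exists_noncomm_two_subgroup hp
  let ι : Matrix.SpecialLinearGroup (Fin 2) (ZMod p) →* H := (Subgroup.inclusion hKH).comp e.symm.toMonoidHom
  have hι : Function.Injective ι := (Subgroup.inclusion_injective hKH).comp e.symm.injective
  obtain ⟨T, hT⟩ := (hQ.map ι).exists_le_sylow
  have hncomm : ¬ IsMulCommutative (S : Subgroup H) := fun hcomm => by
    let es := S.equiv T
    have h := mul_comm' (es.symm ⟨ι x, hT ⟨x, hx, rfl⟩⟩) (es.symm ⟨ι y, hT ⟨y, hy, rfl⟩⟩)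
    rw [← map_mul, ← map_mul] at h
    exact hxy (hι (by simpa using congrArg Subtype.val (es.symm.injective h)))
  have hu : Coprime.UniqueOrderP 2 (S : Subgroup H) := ((uniqueOrderP_sl2 h2).subgroup H).subgroup _
  rcases Coprime.cyclic_or_quaternion_of_unique_two S.isPGroup' hu with hc | ⟨n, ⟨f⟩⟩
  · exact absurd (IsCyclic.isMulCommutative) hncomm
  · rcases Nat.eq_zero_or_pos n with rfl | hn
    · have : IsMulCommutative (QuaternionGroup (2 ^ 0)) := ⟨⟨by decide⟩⟩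
      exact absurd ⟨⟨fun a b => f.injective (by rw [map_mul, map_mul]; exact this.1.1 _ _)⟩⟩ hncomm
    · exact ⟨n, hn, ⟨f⟩⟩

theorem qd_not_involved_psl_two [Fintype F] {p : ℕ} [Fact p.Prime] [CharP F p] :
    ¬ Cfsg.Involves ↥(Cfsg.qd p) (Matrix.ProjectiveSpecialLinearGroup (Fin 2) F) := by
  intro h
  have h' : Cfsg.Involves ↥(Cfsg.qd p) S2 :=
    CfsgLib.Fusion.involves_of_surjective (QuotientGroup.mk' _) (QuotientGroup.mk'_surjective _) h
  obtain ⟨K, R, hR, ⟨e⟩⟩ := h'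
  let f : K →* ↥(Cfsg.qd p) := e.toMonoidHom.comp (QuotientGroup.mk' _)
  have hf : Function.Surjective f := e.surjective.comp (QuotientGroup.mk'_surjective _)
  let P : Sylow p K := Classical.arbitrary _
  -- a nonabelian p-subgroup of Qd(p)
  let U : Subgroup ↥(Cfsg.qd p) :=
    { carrier := {z | ∃ a w, (z : Matrix.SpecialLinearGroup (Fin 3) (ZMod p)) = affine (up a) w}
      one_mem' := ⟨0, 0, by rw [up_zero, affine_one]; rfl⟩
      mul_mem' := by
        rintro z z' ⟨a, w, hz⟩ ⟨b, v, hz'⟩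
        exact ⟨a + b, w + (up a).1 *ᵥ v, by rw [Subgroup.coe_mul, hz, hz', affine_mul, up_mul]⟩
      inv_mem' := by
        rintro z ⟨a, w, hz⟩
        refine ⟨-a, -((up (-a)).1 *ᵥ w), ?_⟩
        rw [Subgroup.coe_inv, hz]
        refine inv_eq_of_mul_eq_one_right ?_
        rw [affine_mul, up_mul, add_neg_cancel, Matrix.mulVec_neg, Matrix.mulVec_mulVec,
          ← Matrix.SpecialLinearGroup.coe_mul, up_mul, add_neg_cancel, up_zero,
          Matrix.SpecialLinearGroup.coe_one, Matrix.one_mulVec, add_neg_cancel, affine_one] }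
  have hU : IsPGroup p U := by
    refine IsPGroup.of_card (n := 3) ?_
    let g : ZMod p × (Fin 2 → ZMod p) → U := fun q =>
      ⟨⟨affine (up q.1) q.2, (mem_qd_iff _).2 ⟨_, _, rfl⟩⟩, q.1, q.2, rfl⟩
    have hg : Function.Bijective g := by
      refine ⟨fun q q' hq => ?_, ?_⟩
      · obtain ⟨e1, e2⟩ := affine_inj (congrArg (fun z : U => z.1.1) hq)
        exact Prod.ext (up_injective e1) e2
      · rintro ⟨z, a, w, hz⟩
        exact ⟨(a, w), Subtype.ext (Subtype.ext hz.symm)⟩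
    rw [← Nat.card_congr (Equiv.ofBijective g hg)]
    simp [Nat.card_pi, pow_succ, mul_assoc]
  obtain ⟨T, hT⟩ := hU.exists_le_sylow
  obtain ⟨P₀, hP₀⟩ := (P.isPGroup'.map K.subtype).exists_le_sylow
  obtain ⟨g, hg⟩ := sl_sylow_conj p P₀
  have hcP : ∀ a ∈ (P : Subgroup K), ∀ b ∈ (P : Subgroup K), a * b = b * a := by
    intro a ha b hb
    obtain ⟨s, hs⟩ := (hg _).1 (hP₀ ⟨a, ha, rfl⟩)
    obtain ⟨t, ht⟩ := (hg _).1 (hP₀ ⟨b, hb, rfl⟩)
    refine Subtype.ext (toGL_injective' ?_)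
    have hst := congrArg upGL (mul_comm s t)
    rw [map_mul, map_mul, hs, ht] at hst
    rw [Subgroup.coe_mul, Subgroup.coe_mul, map_mul, map_mul]
    have := congrArg (fun z => g * z * g⁻¹) hst
    simpa [mul_assoc] using this
  let es := T.equiv (P.mapSurjective hf)
  let x : U := ⟨⟨affine (up 1) 0, (mem_qd_iff _).2 ⟨_, _, rfl⟩⟩, 1, 0, rfl⟩
  let y : U := ⟨⟨affine (up 0) ![0, 1], (mem_qd_iff _).2 ⟨_, _, rfl⟩⟩, 0, ![0, 1], rfl⟩
  obtain ⟨a, ha, hax⟩ := (es ⟨x.1, hT x.2⟩).2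
  obtain ⟨b, hb, hby⟩ := (es ⟨y.1, hT y.2⟩).2
  have hxy := congrArg f (hcP a ha b hb)
  rw [map_mul, map_mul, hax, hby, ← Subgroup.coe_mul, ← Subgroup.coe_mul, ← map_mul, ← map_mul] at hxy
  have h3 : affine (up 1) 0 * affine (up 0) ![0, 1] = affine (up (0 : ZMod p)) ![0, 1] * affine (up 1) 0 :=
    congrArg (fun z : T => z.1.1) (es.injective (Subtype.ext hxy))
  rw [affine_mul, affine_mul] at h3
  simpa [dotProduct, Matrix.mulVec] using congrFun (affine_inj h3).2 0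

end CfsgLib.Qd
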