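import Cfsg.Agent.Lib.Qd.Dickson
import Mathlib.LinearAlgebra.Matrix.Charpoly.Coeff
import Mathlib.LinearAlgebra.Matrix.ToLinearEquiv
import Mathlib.FieldTheory.IsAlgClosed.AlgebraicClosure

/-!
# Two quadratic elements in characteristic `p`

Either they generate a group acting as a `p`-group, or the first and a conjugate of it act as
`SL₂(p)` on a two dimensional subspace.
-/

set_option autoImplicit false
set_option linter.style.haveILetI false

open Matrix

namespace CfsgLib.Qd

universe uk un uG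

variable {k : Type uk} [Field k] {n : Type un} [Fintype n] [DecidableEq n]
variable {G : Type uG} [Group G]

/-- The filtration by the products of `A` and `B`. -/
def fil (A B : Matrix n n k) : ℕ → Submodule k (n → k)
  | 0 => ⊤
  | j + 1 => (fil A B j).map A.mulVecLin ⊔ (fil A B j).map B.mulVecLin

theorem fil_succ_le (A B : Matrix n n k) (j : ℕ) : fil A B (j + 1) ≤ fil A B j := by
  induction j with
  | zero => exact le_top
  | succ j ih => exact sup_le_sup (Submodule.map_mono ih) (Submodule.map_mono ih)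

theorem fil_eq_bot {A B : Matrix n n k} (hA : A * A = 0) (hB : B * B = 0) {m : ℕ}
    (hm : (A * B) ^ m = 0) : fil A B (2 * m + 2) = ⊥ := by
  have hz : ∀ M : Matrix n n k, M * M = 0 → ∀ S : Submodule k (n → k),
      (S.map M.mulVecLin).map M.mulVecLin = ⊥ := fun M hM S => by
    rw [← Submodule.map_comp, ← Matrix.mulVecLin_mul, hM, Matrix.mulVecLin_zero, Submodule.map_zero]
  have h1 : ∀ j, (fil A B (j + 1)).map A.mulVecLin = (fil A B j).map (A * B).mulVecLin := fun j => by
    rw [fil, Submodule.map_sup, hz A hA, bot_sup_eq, ← Submodule.map_comp, ← Matrix.mulVecLin_mul]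
  have h2 : ∀ j, (fil A B (j + 1)).map B.mulVecLin = (fil A B j).map (B * A).mulVecLin := fun j => by
    rw [fil, Submodule.map_sup, hz B hB, sup_bot_eq, ← Submodule.map_comp, ← Matrix.mulVecLin_mul]
  have key : ∀ i, (fil A B (2 * i)).map A.mulVecLin
      = ((fil A B 0).map A.mulVecLin).map (((A * B) ^ i).mulVecLin) := by
    intro i
    induction i with
    | zero => simp
    | succ i ih =>
      rw [show 2 * (i + 1) = (2 * i + 1) + 1 by ring, h1, Matrix.mulVecLin_mul, Submodule.map_comp,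
        h2, ← Submodule.map_comp, ← Matrix.mulVecLin_mul, show A * (B * A) = A * B * A by rw [mul_assoc],
        Matrix.mulVecLin_mul, Submodule.map_comp, ih, ← Submodule.map_comp, ← Matrix.mulVecLin_mul,
        ← pow_succ']
  have e0 : (fil A B (2 * m)).map A.mulVecLin = ⊥ := by
    rw [key, hm, Matrix.mulVecLin_zero, Submodule.map_zero]
  have e1 : (fil A B (2 * m + 1)).map A.mulVecLin = ⊥ :=
    le_bot_iff.1 (e0 ▸ Submodule.map_mono (fil_succ_le A B _))
  rw [fil, e1, bot_sup_eq, h2, Matrix.mulVecLin_mul, Submodule.map_comp, e0, Submodule.map_bot]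

/-- The elements of a group generated by two quadratic elements with nilpotent `AB` act with
`p`-power order. -/
theorem exists_pow_eq_one [Finite G] {p : ℕ} [Fact p.Prime] [CharP k p] (R : G →* Matrix n n k)
    (a b : G) (ha : (R a - 1) * (R a - 1) = 0) (hb : (R b - 1) * (R b - 1) = 0) {m : ℕ}
    (hm : ((R a - 1) * (R b - 1)) ^ m = 0) {g : G} (hg : g ∈ Subgroup.closure {a, b}) :
    ∃ e : ℕ, R g ^ p ^ e = 1 := by
  set A := R a - 1 with hA
  set B := R b - 1 with hB
  let N : Set (Matrix n n k) := {X | ∀ j, (fil A B j).map X.mulVecLin ≤ fil A B (j + 1)}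
  have hmem : ∀ x, x ∈ Submonoid.closure ({a, b} : Set G) → R x - 1 ∈ N := by
    intro x hx
    induction hx using Submonoid.closure_induction with
    | mem x hx =>
      intro j
      rcases hx with rfl | hx
      · exact le_sup_left
      · rw [Set.mem_singleton_iff.1 hx]; exact le_sup_right
    | one => intro j; simp [Matrix.mulVecLin_zero, Submodule.map_zero]
    | mul x y _ _ hx hy =>
      intro j
      have e : R (x * y) - 1 = (R x - 1) * (R y - 1) + (R x - 1) + (R y - 1) := by
        rw [map_mul]; noncomm_ring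
      rw [e, Matrix.mulVecLin_add, Matrix.mulVecLin_add]
      refine (Submodule.map_add_le _ _ _).trans (sup_le ((Submodule.map_add_le _ _ _).trans
        (sup_le ?_ (hx j))) (hy j))
      rw [Matrix.mulVecLin_mul, Submodule.map_comp]
      exact (Submodule.map_mono (hy j)).trans ((hx (j + 1)).trans (fil_succ_le A B _))
  have hg' := hmem g (by
    rw [← Subgroup.closure_toSubmonoid_of_finite]
    exact hg)
  set X := R g - 1 with hX
  have hpow : ∀ j, (fil A B 0).map (X ^ j).mulVecLin ≤ fil A B j := by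
    intro j
    induction j with
    | zero => simp
    | succ j ih =>
      rw [pow_succ', Matrix.mulVecLin_mul, Submodule.map_comp]
      exact (Submodule.map_mono ih).trans (hg' j)
  have hX0 : X ^ (2 * m + 2) = 0 := by
    have h := hpow (2 * m + 2)
    rw [fil_eq_bot ha hb hm, le_bot_iff, fil, Submodule.map_top, LinearMap.range_eq_bot] at h
    exact Matrix.ext_of_mulVec_single fun i => by
      rw [Matrix.zero_mulVec]
      exact LinearMap.congr_fun h (Pi.single i 1)
  obtain ⟨e, he⟩ : ∃ e, 2 * m + 2 ≤ p ^ e :=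
    ⟨2 * m + 2, (Nat.lt_pow_self (Fact.out : p.Prime).one_lt).le⟩
  refine ⟨e, ?_⟩
  obtain ⟨r, hr⟩ := (Commute.one_right X).exists_add_pow_prime_pow_eq (Fact.out : p.Prime) e
  have hp0 : (p : Matrix n n k) = 0 := by
    rw [← Matrix.diagonal_natCast]
    simp
  rw [show R g = X + 1 by rw [hX]; abel, hr, hp0, pow_eq_zero_of_le he hX0]
  simp

/-- A matrix that is not nilpotent has a nonzero eigenvalue in an algebraic closure. -/
theorem exists_eigen_of_not_nilpotent {K : Type*} [Field K] [IsAlgClosed K] [Algebra k K]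
    (M : Matrix n n k) (hM : ∀ m : ℕ, M ^ m ≠ 0) :
    ∃ c : K, c ≠ 0 ∧ ∃ v : n → K, v ≠ 0 ∧ M.map (algebraMap k K) *ᵥ v = c • v := by
  set N := M.map (algebraMap k K) with hN
  by_contra hno
  push Not at hno
  have hroot : ∀ c ∈ N.charpoly.roots, c = 0 := by
    intro c hc
    by_contra hc0
    have he := (Polynomial.mem_roots'.1 hc).2
    rw [Polynomial.IsRoot, Matrix.eval_charpoly] at he
    obtain ⟨v, hv0, hv⟩ := Matrix.exists_mulVec_eq_zero_iff.2 he
    refine hno c hc0 v hv0 ?_
    rw [Matrix.sub_mulVec, sub_eq_zero] at hv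
    rw [← hv]
    ext i
    simp [Matrix.scalar_apply, Matrix.mulVec_diagonal]
  have hpoly : N.charpoly = Polynomial.X ^ Multiset.card N.charpoly.roots := by
    conv_lhs => rw [(IsAlgClosed.splits N.charpoly).eq_prod_roots_of_monic N.charpoly_monic,
      Multiset.eq_replicate_card.2 hroot]
    simp
  have hnil : N ^ Multiset.card N.charpoly.roots = 0 := by
    have h := Matrix.aeval_self_charpoly N
    rwa [hpoly, map_pow, Polynomial.aeval_X] at h
  refine hM (Multiset.card N.charpoly.roots) ?_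
  refine Matrix.map_injective (algebraMap k K).injective ?_
  beta_reduce
  have h2 : (M ^ Multiset.card N.charpoly.roots).map (algebraMap k K)
      = (0 : Matrix n n K) := by
    rw [← hnil, hN]
    exact map_pow (algebraMap k K).mapMatrix M _
  rw [h2, Matrix.map_zero _ (map_zero _)]

/-- A two dimensional invariant subspace with basis `P` gives a map to `SL₂`. -/
theorem exists_hom_sl2 [Finite G] (R : G →* Matrix n n k) {a b : G} {s t : Matrix.SpecialLinearGroup (Fin 2) k}
    {P : Matrix n (Fin 2) k} (hP : Function.Injective P.mulVec)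
    (ha : R a * P = P * s.1) (hb : R b * P = P * t.1) :
    ∃ ψ : ↥(Subgroup.closure {a, b}) →* Matrix.SpecialLinearGroup (Fin 2) k,
      (∀ x : ↥(Subgroup.closure {a, b}), R (x : G) * P = P * (ψ x).1) ∧
        ψ ⟨a, Subgroup.subset_closure (Or.inl rfl)⟩ = s ∧
        ψ ⟨b, Subgroup.subset_closure (Or.inr rfl)⟩ = t := by
  have hinj : ∀ u u' : Matrix.SpecialLinearGroup (Fin 2) k, P * u.1 = P * u'.1 → u = u' := by
    intro u u' h
    refine Subtype.ext (Matrix.ext_of_mulVec_single fun i => hP ?_)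
    rw [Matrix.mulVec_mulVec, Matrix.mulVec_mulVec, h]
  have hex : ∀ x : ↥(Subgroup.closure {a, b}),
      ∃ u : Matrix.SpecialLinearGroup (Fin 2) k, R x * P = P * u.1 := by
    rintro ⟨x, hx⟩
    have hx' : x ∈ Submonoid.closure ({a, b} : Set G) := by
      rw [← Subgroup.closure_toSubmonoid_of_finite]; exact hx
    show ∃ u : Matrix.SpecialLinearGroup (Fin 2) k, R x * P = P * u.1
    clear hx
    induction hx' using Submonoid.closure_induction with
    | mem x hx =>
      rcases hx with rfl | hx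
      · exact ⟨s, ha⟩
      · rw [Set.mem_singleton_iff] at hx; subst hx; exact ⟨t, hb⟩
    | one => exact ⟨1, by simp⟩
    | mul x y _ _ hx hy =>
      obtain ⟨u, hu⟩ := hx
      obtain ⟨u', hu'⟩ := hy
      refine ⟨u * u', ?_⟩
      simp only [map_mul, Matrix.SpecialLinearGroup.coe_mul] at hu hu' ⊢
      rw [Matrix.mul_assoc, hu', ← Matrix.mul_assoc, hu, Matrix.mul_assoc]
  choose f hf using hex
  refine ⟨MonoidHom.mk' f fun x y => hinj _ _ ?_, hf, hinj _ _ ((hf _).symm.trans ha),
    hinj _ _ ((hf _).symm.trans hb)⟩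
  rw [← hf, Subgroup.coe_mul, map_mul, Matrix.mul_assoc, hf y, ← Matrix.mul_assoc, hf x,
    Matrix.mul_assoc, Matrix.SpecialLinearGroup.coe_mul]

/-- An eigenvector of `AB` gives the natural module of the pair. -/
theorem exists_natural [Finite G] (R : G →* Matrix n n k) (a b : G)
    (ha : (R a - 1) * (R a - 1) = 0) (hb : (R b - 1) * (R b - 1) = 0) {c : k} (hc : c ≠ 0)
    {v : n → k} (hv : v ≠ 0) (hev : ((R a - 1) * (R b - 1)) *ᵥ v = c • v) :
    ∃ P : Matrix n (Fin 2) k, Function.Injective P.mulVec ∧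
      ∃ ψ : ↥(Subgroup.closure {a, b}) →* Matrix.SpecialLinearGroup (Fin 2) k,
        (∀ x : ↥(Subgroup.closure {a, b}), R (x : G) * P = P * (ψ x).1) ∧
          ψ ⟨a, Subgroup.subset_closure (Or.inl rfl)⟩ = up 1 ∧
          ψ ⟨b, Subgroup.subset_closure (Or.inr rfl)⟩ = lo c := by
  set A := R a - 1 with hA
  set B := R b - 1 with hB
  set w := B *ᵥ v with hw
  have hAw : A *ᵥ w = c • v := by rw [hw, Matrix.mulVec_mulVec, hev]
  have hAv : A *ᵥ v = 0 := by
    have h : c • (A *ᵥ v) = 0 := by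
      rw [← Matrix.mulVec_smul, ← hev, Matrix.mulVec_mulVec, ← Matrix.mul_assoc, ha, zero_mul,
        Matrix.zero_mulVec]
    exact (smul_eq_zero.1 h).resolve_left hc
  have hBw : B *ᵥ w = 0 := by rw [hw, Matrix.mulVec_mulVec, hb, Matrix.zero_mulVec]
  let P : Matrix n (Fin 2) k := Matrix.of fun i j => if j = 0 then (c • v) i else w i
  have hPv : ∀ x : Fin 2 → k, P *ᵥ x = x 0 • (c • v) + x 1 • w := fun x => by
    ext i
    simp [P, Matrix.mulVec, dotProduct, Fin.sum_univ_two, mul_comm]
  have hP : Function.Injective P.mulVec := by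
    intro x y h
    rw [hPv, hPv] at h
    have h2 := congrArg (A *ᵥ ·) h
    simp only [Matrix.mulVec_add, Matrix.mulVec_smul, hAv, hAw, smul_zero, zero_add] at h2
    have e1 : x 1 = y 1 := smul_left_injective k (smul_ne_zero hc hv) h2
    rw [e1, add_left_inj] at h
    have e0 : x 0 = y 0 := smul_left_injective k (smul_ne_zero hc hv) h
    funext i
    fin_cases i <;> assumption
  refine ⟨P, hP, exists_hom_sl2 R hP ?_ ?_⟩
  · refine Matrix.ext_of_mulVec_single fun i => ?_
    rw [← Matrix.mulVec_mulVec, ← Matrix.mulVec_mulVec, hPv, hPv,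
      show R a = A + 1 by rw [hA]; abel, Matrix.add_mulVec, Matrix.one_mulVec, up_coe]
    fin_cases i <;>
      simp [Matrix.mulVec_add, Matrix.mulVec_smul, hAv, hAw, Matrix.mulVec, dotProduct,
        Fin.sum_univ_two]
  · refine Matrix.ext_of_mulVec_single fun i => ?_
    rw [← Matrix.mulVec_mulVec, ← Matrix.mulVec_mulVec, hPv, hPv,
      show R b = B + 1 by rw [hB]; abel, Matrix.add_mulVec, Matrix.one_mulVec, lo_coe]
    fin_cases i <;>
      simp [Matrix.mulVec_add, Matrix.mulVec_smul, ← hw, hBw, Matrix.mulVec, dotProduct,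
        Fin.sum_univ_two, add_comm]

/-- Two quadratic elements generate a group acting as a `p`-group unless the first and a conjugate
of it induce `SL₂(p)` on a two dimensional subspace. -/
theorem pair_dichotomy {p : ℕ} [Fact p.Prime] (hp : p ≠ 2) [Finite G] (R : G →* Matrix n n (ZMod p))
    (a b : G) (ha : (R a - 1) * (R a - 1) = 0) (hb : (R b - 1) * (R b - 1) = 0) :
    (∀ g ∈ Subgroup.closure {a, b}, ∃ e : ℕ, R g ^ p ^ e = 1) ∨
      ∃ g ∈ Subgroup.closure {a, b}, ∃ P : Matrix n (Fin 2) (ZMod p),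
        Function.Injective P.mulVec ∧
          ∃ ψ : ↥(Subgroup.closure {a, g * a * g⁻¹}) →* Matrix.SpecialLinearGroup (Fin 2) (ZMod p),
            Function.Surjective ψ ∧
              ∀ x : ↥(Subgroup.closure {a, g * a * g⁻¹}), R (x : G) * P = P * (ψ x).1 := by
  by_cases hnil : ∃ m : ℕ, ((R a - 1) * (R b - 1)) ^ m = 0
  · exact Or.inl fun g hg => exists_pow_eq_one R a b ha hb hnil.choose_spec hg
  push Not at hnil
  refine Or.inr ?_
  let K := AlgebraicClosure (ZMod p)
  let f := algebraMap (ZMod p) K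
  let RK : G →* Matrix n n K := f.mapMatrix.toMonoidHom.comp R
  have hRK : ∀ x, RK x - 1 = f.mapMatrix (R x - 1) := fun x => by
    rw [map_sub, map_one]; rfl
  have hsq : ∀ x, (R x - 1) * (R x - 1) = 0 → (RK x - 1) * (RK x - 1) = 0 := fun x h => by
    rw [hRK, ← map_mul, h, map_zero]
  obtain ⟨c, hc, v, hv, hev⟩ := exists_eigen_of_not_nilpotent (K := K) _ hnil
  obtain ⟨P, hP, ψ, hψ, hψa, hψb⟩ :=
    exists_natural RK a b (hsq a ha) (hsq b hb) hc hv (by rw [hRK, hRK, ← map_mul]; exact hev)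
  haveI : Finite ψ.range := Finite.of_surjective ψ.rangeRestrict ψ.rangeRestrict_surjective
  obtain ⟨s, ⟨⟨g, hg⟩, rfl⟩, i, hi, hsi⟩ := exists_good_conj hp ψ.range ⟨_, hψa⟩
    ⟨_, ⟨_, hψb⟩, by simpa using hc⟩
  set b' := g * a * g⁻¹ with hb'
  have hb'sq : (R b' - 1) * (R b' - 1) = 0 := by
    have e : R b' - 1 = R g * (R a - 1) * R g⁻¹ := by
      rw [hb', map_mul, map_mul, mul_sub, sub_mul, mul_one, ← map_mul R g g⁻¹, mul_inv_cancel,
        map_one]
    rw [e, show R g * (R a - 1) * R g⁻¹ * (R g * (R a - 1) * R g⁻¹)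
      = R g * ((R a - 1) * (R g⁻¹ * R g) * (R a - 1)) * R g⁻¹ by noncomm_ring,
      ← map_mul R g⁻¹ g, inv_mul_cancel, map_one, mul_one, ha, mul_zero, zero_mul]
  have hb'mem : b' ∈ Subgroup.closure {a, b} :=
    mul_mem (mul_mem hg (Subgroup.subset_closure (Or.inl rfl))) (inv_mem hg)
  have hψb' : ψ ⟨b', hb'mem⟩ = ψ ⟨g, hg⟩ * up 1 * (ψ ⟨g, hg⟩)⁻¹ := by
    rw [← hψa, ← map_mul, ← map_inv, ← map_mul]; rfl
  set mu : ZMod p := -(i : ZMod p) with hmu
  have hmu0 : mu ≠ 0 := fun h => hi (by
    simpa [map_natCast] using congrArg f (neg_eq_zero.1 h))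
  have hfmu : f mu = -(i : K) := by simp [hmu]
  have hdet : (Matrix.scalar n mu - (R a - 1) * (R b' - 1)).det = 0 := by
    refine f.injective ?_
    rw [f.map_det, map_zero, map_sub, map_mul, ← hRK, ← hRK]
    refine Matrix.exists_mulVec_eq_zero_iff.1 ⟨P *ᵥ Pi.single 0 1, fun h => ?_, ?_⟩
    · have := congrFun (hP (h.trans (Matrix.mulVec_zero P).symm)) 0
      simp at this
    · have hsc : f.mapMatrix (Matrix.scalar n mu) = Matrix.scalar n (f mu) := by
        simp [Matrix.scalar_apply, Matrix.diagonal_map]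
      have e1 : (RK a - 1) * (RK b' - 1) * P
          = P * (((up (1 : K)).1 - 1) * ((ψ ⟨b', hb'mem⟩).1 - 1)) := by
        have h1 : (RK a - 1) * P = P * ((up (1 : K)).1 - 1) := by
          rw [Matrix.sub_mul, Matrix.mul_sub, Matrix.one_mul, Matrix.mul_one, ← hψa, ← hψ]
        have h2 : (RK b' - 1) * P = P * ((ψ ⟨b', hb'mem⟩).1 - 1) := by
          rw [Matrix.sub_mul, Matrix.mul_sub, Matrix.one_mul, Matrix.mul_one, ← hψ]
        rw [Matrix.mul_assoc, h2, ← Matrix.mul_assoc, h1, Matrix.mul_assoc]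
      rw [Matrix.sub_mulVec, hsc, Matrix.mulVec_mulVec, Matrix.mulVec_mulVec, e1, sub_eq_zero,
        ← Matrix.mulVec_mulVec, ← Matrix.mulVec_mulVec]
      have e2 : (((up (1 : K)).1 - 1) * ((ψ ⟨b', hb'mem⟩).1 - 1)) *ᵥ Pi.single 0 1
          = (f mu) • Pi.single 0 1 := by
        obtain ⟨c00, c01, c10, c11⟩ := conj_up (ψ ⟨g, hg⟩) (1 : K)
        rw [← hψb'] at c00 c01 c10 c11
        rw [hfmu, ← hsi]
        ext j
        fin_cases j <;>
          simp [Matrix.mul_apply, Fin.sum_univ_two, c00, c01, c10, c11, Matrix.one_apply]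
      rw [e2, Matrix.mulVec_smul]
      ext j
      simp [Matrix.scalar_apply, Matrix.mulVec_diagonal]
  obtain ⟨w, hw, hwe⟩ := Matrix.exists_mulVec_eq_zero_iff.2 hdet
  rw [Matrix.sub_mulVec, sub_eq_zero] at hwe
  obtain ⟨P', hP', φ, hφ, hφa, hφb⟩ := exists_natural R a b' ha hb'sq hmu0 hw (by
    rw [← hwe]
    ext j
    simp [Matrix.scalar_apply, Matrix.mulVec_diagonal])
  refine ⟨g, hg, P', hP', φ, ?_, hφ⟩
  rw [← MonoidHom.range_eq_top, ← top_le_iff, ← closure_up_lo hmu0, Subgroup.closure_le]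
  rintro x (rfl | hx)
  · exact ⟨_, hφa⟩
  · rw [Set.mem_singleton_iff.1 hx]; exact ⟨_, hφb⟩

end CfsgLib.Qd
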