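import Cfsg.Agent.Lib.Qd.QdGroup
import Cfsg.Agent.Lib.Fusion.Sylow
import Cfsg.Agent.Lib.Fusion.OffenderFree

/-!
# Sections `Qd(p)` seen on a section of order `p²` with two automorphisms

`G` involves `Qd(p)` exactly when some `p`-section `U/Q` of order `p²` has two automorphisms induced
from `N(U) ∩ N(Q)` acting as the two elementary transvections.
-/

set_option autoImplicit false
set_option linter.style.haveILetI false

open Matrix

namespace CfsgLib.Qd

open CfsgLib.Fusion (conjBy conjBy_mono conj_mem_conjBy mem_conjBy conjBy_normalizer conjBy_eq_iff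
  conjBy_eq_of_le conjBy_le_iff)

universe u v

variable {p : ℕ}

/-- `θ` identifies `U/Q` with the natural module, `a` and `b` acting as elementary transvections. -/
structure IsCoord {G : Type u} [Group G] (Q U : Subgroup G) (a b : G → G)
    (θ : G → Fin 2 → ZMod p) : Prop where
  add : ∀ x ∈ U, ∀ y ∈ U, θ (x * y) = θ x + θ y
  ker : ∀ x ∈ U, θ x = 0 ↔ x ∈ Q
  surj : ∀ w : Fin 2 → ZMod p, ∃ x ∈ U, θ x = w
  map_a : ∀ x ∈ U, θ (a x) = (up (1 : ZMod p)).1 *ᵥ θ x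
  map_b : ∀ x ∈ U, θ (b x) = (lo (1 : ZMod p)).1 *ᵥ θ x

/-- `a` and `b` act on `U/Q` as two elementary transvections. -/
def Cond (p : ℕ) {G : Type u} [Group G] (Q U : Subgroup G) (a b : G → G) : Prop :=
  ∃ θ : G → Fin 2 → ZMod p, IsCoord Q U a b θ

section transport

variable {G : Type u} {H : Type v} [Group G] [Group H] {Q U : Subgroup G} {Q' U' : Subgroup H}
  {a b : G → G} {a' b' : H → H} (θ : G → H)

theorem cond_iff (hU' : ∀ y, y ∈ U' ↔ ∃ x ∈ U, θ x = y)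
    (hQ : ∀ x ∈ U, x ∈ Q ↔ θ x ∈ Q')
    (hmul : ∀ x ∈ U, ∀ y ∈ U, θ (x * y) = θ x * θ y)
    (ha : ∀ x ∈ U, a x ∈ U) (hb : ∀ x ∈ U, b x ∈ U)
    (ha' : ∀ x ∈ U, a' (θ x) = θ (a x)) (hb' : ∀ x ∈ U, b' (θ x) = θ (b x)) :
    Cond p Q U a b ↔ Cond p Q' U' a' b' := by
  have mem : ∀ x ∈ U, θ x ∈ U' := fun x hx => (hU' _).2 ⟨x, hx, rfl⟩
  constructor
  · rintro ⟨φ, h⟩
    classical
    let ψ : H → Fin 2 → ZMod p := fun y => if hy : y ∈ U' then φ ((hU' y).1 hy).choose else 0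
    have hψ : ∀ x ∈ U, ψ (θ x) = φ x := by
      intro x hx
      obtain ⟨hc, hce⟩ := ((hU' (θ x)).1 (mem x hx)).choose_spec
      simp only [ψ, dif_pos (mem x hx)]
      set z := ((hU' (θ x)).1 (mem x hx)).choose
      have h1 : θ 1 = 1 := by
        have h := hmul 1 (one_mem U) 1 (one_mem U)
        rw [one_mul, left_eq_mul] at h
        exact h
      have h2 : z * x⁻¹ ∈ Q := by
        rw [hQ _ (mul_mem hc (inv_mem hx)), hmul z hc _ (inv_mem hx), hce, ← hmul x hx _ (inv_mem hx),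
          mul_inv_cancel, h1]
        exact one_mem _
      have h3 := h.add _ (mul_mem hc (inv_mem hx)) x hx
      rw [inv_mul_cancel_right, (h.ker _ (mul_mem hc (inv_mem hx))).2 h2, zero_add] at h3
      exact h3
    refine ⟨ψ, fun y hy z hz => ?_, fun y hy => ?_, fun w => ?_, fun y hy => ?_, fun y hy => ?_⟩
    · obtain ⟨x, hx, rfl⟩ := (hU' y).1 hy
      obtain ⟨x', hx', rfl⟩ := (hU' z).1 hz
      rw [← hmul x hx x' hx', hψ _ (mul_mem hx hx'), hψ x hx, hψ x' hx', h.add x hx x' hx']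
    · obtain ⟨x, hx, rfl⟩ := (hU' y).1 hy
      rw [hψ x hx, h.ker x hx, hQ x hx]
    · obtain ⟨x, hx, rfl⟩ := h.surj w
      exact ⟨θ x, mem x hx, hψ x hx⟩
    · obtain ⟨x, hx, rfl⟩ := (hU' y).1 hy
      rw [ha' x hx, hψ _ (ha x hx), hψ x hx, h.map_a x hx]
    · obtain ⟨x, hx, rfl⟩ := (hU' y).1 hy
      rw [hb' x hx, hψ _ (hb x hx), hψ x hx, h.map_b x hx]
  · rintro ⟨ψ, h⟩
    refine ⟨fun x => ψ (θ x), fun x hx y hy => ?_, fun x hx => ?_, fun w => ?_, fun x hx => ?_,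
      fun x hx => ?_⟩
    · rw [hmul x hx y hy, h.add _ (mem x hx) _ (mem y hy)]
    · rw [h.ker _ (mem x hx), hQ x hx]
    · obtain ⟨y, hy, rfl⟩ := h.surj w
      obtain ⟨x, hx, rfl⟩ := (hU' y).1 hy
      exact ⟨x, hx, rfl⟩
    · rw [← ha' x hx, h.map_a _ (mem x hx)]
    · rw [← hb' x hx, h.map_b _ (mem x hx)]

end transport

variable {G : Type u} [Group G]

theorem IsCoord.map_one {Q U : Subgroup G} {a b : G → G} {θ : G → Fin 2 → ZMod p}
    (h : IsCoord Q U a b θ) : θ 1 = 0 := (h.ker 1 (one_mem U)).2 (one_mem Q)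

theorem IsCoord.map_inv {Q U : Subgroup G} {a b : G → G} {θ : G → Fin 2 → ZMod p}
    (h : IsCoord Q U a b θ) {x : G} (hx : x ∈ U) : θ x⁻¹ = -θ x := by
  refine eq_neg_of_add_eq_zero_left ?_
  rw [← h.add _ (inv_mem hx) x hx, inv_mul_cancel, h.map_one]

theorem Cond.le_normalizer {Q U : Subgroup G} {a b : G → G} (h : Cond p Q U a b) (hQU : Q ≤ U) :
    U ≤ Subgroup.normalizer (Q : Set G) := by
  obtain ⟨θ, h⟩ := h
  intro u hu
  refine Subgroup.mem_normalizer_iff.2 fun x => ⟨fun hx => ?_, fun hx => ?_⟩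
  · rw [← h.ker _ (mul_mem (mul_mem hu (hQU hx)) (inv_mem hu)),
      h.add _ (mul_mem hu (hQU hx)) _ (inv_mem hu), h.add u hu x (hQU hx),
      (h.ker x (hQU hx)).2 hx, h.map_inv hu]
    abel
  · have hxU : x ∈ U := by
      have := mul_mem (mul_mem (inv_mem hu) (hQU hx)) hu
      simpa [mul_assoc] using this
    rw [← h.ker _ (mul_mem (mul_mem hu hxU) (inv_mem hu)), h.add _ (mul_mem hu hxU) _ (inv_mem hu),
      h.add u hu x hxU, h.map_inv hu] at hx
    rw [← h.ker x hxU, ← hx]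
    abel

variable [Finite G] [Fact p.Prime]

/-- Such a section gives a section `Qd(p)`. -/
theorem involves_of_cond (Q U : Subgroup G) (g h : G) (hQU : Q ≤ U)
    (hgQ : g ∈ Subgroup.normalizer (Q : Set G)) (hgU : g ∈ Subgroup.normalizer (U : Set G))
    (hhQ : h ∈ Subgroup.normalizer (Q : Set G)) (hhU : h ∈ Subgroup.normalizer (U : Set G))
    (hc : Cond p Q U (fun x => g * x * g⁻¹) (fun x => h * x * h⁻¹)) :
    Cfsg.Involves ↥(Cfsg.qd p) G := by
  have hUN := hc.le_normalizer hQU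
  obtain ⟨θ, hc⟩ := hc
  set H := Subgroup.normalizer (Q : Set G) with hH
  refine CfsgLib.Fusion.involves_of_injective H.subtype H.subtype_injective ?_
  haveI hQn : (Q.subgroupOf H).Normal := Subgroup.normal_in_normalizer
  set π := QuotientGroup.mk' (Q.subgroupOf H) with hπ
  refine CfsgLib.Fusion.involves_of_surjective π (QuotientGroup.mk'_surjective _) ?_
  have hone : ∀ x : H, π x = 1 ↔ (x : G) ∈ Q := fun x => QuotientGroup.eq_one_iff x
  choose s hsU hsθ using hc.surj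
  have heq : ∀ (x y : H), (x : G) ∈ U → (y : G) ∈ U → θ x = θ y → π x = π y := by
    intro x y hx hy hxy
    rw [← mul_inv_eq_one, ← map_inv, ← map_mul, hone]
    show (x : G) * (y : G)⁻¹ ∈ Q
    rw [← hc.ker _ (mul_mem hx (inv_mem hy)), hc.add _ hx _ (inv_mem hy), hc.map_inv hy, hxy,
      add_neg_cancel]
  let ι : Multiplicative (Fin 2 → ZMod p) →* H ⧸ Q.subgroupOf H :=
    MonoidHom.mk' (fun w => π ⟨s (Multiplicative.toAdd w), hUN (hsU _)⟩) fun w w' => by
      rw [← map_mul]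
      refine heq _ _ (hsU _) (mul_mem (hsU _) (hsU _)) ?_
      rw [Subgroup.coe_mul, hc.add _ (hsU _) _ (hsU _), hsθ, hsθ, hsθ, toAdd_mul]
  have hι : ∀ (x : H), (x : G) ∈ U → π x = ι (Multiplicative.ofAdd (θ x)) := fun x hx =>
    heq _ _ hx (hsU _) (by rw [hsθ, toAdd_ofAdd])
  let Φ : H ⧸ Q.subgroupOf H → Matrix.SpecialLinearGroup (Fin 2) (ZMod p) → Prop := fun k A =>
    ∀ w, k * ι w * k⁻¹ = ι (Multiplicative.ofAdd (A.1 *ᵥ Multiplicative.toAdd w))
  have hbase : ∀ (x : G) (hxQ : x ∈ H) (A : Matrix.SpecialLinearGroup (Fin 2) (ZMod p)),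
      x ∈ Subgroup.normalizer (U : Set G) → (∀ y ∈ U, θ (x * y * x⁻¹) = A.1 *ᵥ θ y) →
      Φ (π ⟨x, hxQ⟩) A := by
    intro x hxQ A hxU hA w
    have hm : x * s (Multiplicative.toAdd w) * x⁻¹ ∈ U :=
      (Subgroup.mem_normalizer_iff.1 hxU _).1 (hsU _)
    show π ⟨x, hxQ⟩ * π ⟨_, _⟩ * (π ⟨x, hxQ⟩)⁻¹ = _
    rw [← map_inv, ← map_mul, ← map_mul, hι _ hm]
    exact congrArg (fun v => ι (Multiplicative.ofAdd v))
      ((hA _ (hsU _)).trans (by rw [hsθ]))
  set gq := π ⟨g, hgQ⟩ with hgq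
  set hq := π ⟨h, hhQ⟩ with hhq
  have hιinj : Function.Injective ι := by
    rw [injective_iff_map_eq_one]
    intro w hw
    have h1 : s (Multiplicative.toAdd w) ∈ Q := (hone _).1 hw
    rw [← hc.ker _ (hsU _), hsθ] at h1
    exact Multiplicative.toAdd.injective h1
  have huniq : ∀ k A B, Φ k A → Φ k B → A = B := fun k A B hA hB =>
    Subtype.ext (Matrix.ext_of_mulVec_single fun i => by
      have := (hA (Multiplicative.ofAdd (Pi.single i 1))).symm.trans (hB _)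
      exact Multiplicative.ofAdd.injective (hιinj this))
  have hmul : ∀ k k' A B, Φ k A → Φ k' B → Φ (k * k') (A * B) := by
    intro k k' A B hA hB w
    rw [show k * k' * ι w * (k * k')⁻¹ = k * (k' * ι w * k'⁻¹) * k⁻¹ by group, hB w, hA,
      toAdd_ofAdd, Matrix.mulVec_mulVec, Matrix.SpecialLinearGroup.coe_mul]
  have hex : ∀ k : ↥(Subgroup.closure {gq, hq}), ∃ A, Φ (k : H ⧸ Q.subgroupOf H) A := by
    rintro ⟨k, hk⟩
    have hk' : k ∈ Submonoid.closure ({gq, hq} : Set (H ⧸ Q.subgroupOf H)) := by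
      rw [← Subgroup.closure_toSubmonoid_of_finite]; exact hk
    show ∃ A, Φ k A
    clear hk
    induction hk' using Submonoid.closure_induction with
    | mem x hx =>
      rcases hx with rfl | hx
      · exact ⟨up 1, hbase g hgQ (up 1) hgU hc.map_a⟩
      · rw [Set.mem_singleton_iff.1 hx]; exact ⟨lo 1, hbase h hhQ (lo 1) hhU hc.map_b⟩
    | one => exact ⟨1, fun w => by simp⟩
    | mul x y _ _ hx hy =>
      obtain ⟨A, hA⟩ := hx
      obtain ⟨B, hB⟩ := hy
      exact ⟨_, hmul x y A B hA hB⟩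
  choose f hf using hex
  let ψ : ↥(Subgroup.closure {gq, hq}) →* Matrix.SpecialLinearGroup (Fin 2) (ZMod p) :=
    MonoidHom.mk' f fun x y => huniq _ _ _ (hf (x * y)) (hmul _ _ _ _ (hf x) (hf y))
  refine NaturalPair.involves_qd (V := (⊤ : Subgroup _)) (Y := Subgroup.closure {gq, hq})
    ⟨_, le_rfl, ψ, ?_, ι, hιinj, fun w => Subgroup.mem_top _, fun x w => hf x w⟩
  rw [← MonoidHom.range_eq_top, ← top_le_iff, ← closure_up_lo (one_ne_zero : (1 : ZMod p) ≠ 0),
    Subgroup.closure_le]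
  rintro x (rfl | hx)
  · exact ⟨⟨gq, Subgroup.subset_closure (Or.inl rfl)⟩,
      huniq _ _ _ (hf _) (hbase g hgQ (up 1) hgU hc.map_a)⟩
  · rw [Set.mem_singleton_iff.1 hx]
    exact ⟨⟨hq, Subgroup.subset_closure (Or.inr rfl)⟩,
      huniq _ _ _ (hf _) (hbase h hhQ (lo 1) hhU hc.map_b)⟩

/-- A group involving `Qd(p)` has such a section inside any given Sylow `p`-subgroup. -/
theorem exists_cond_of_involves (T : Sylow p G) (h : Cfsg.Involves ↥(Cfsg.qd p) G) :
    ∃ (Q U : Subgroup G) (g k : G), U ≤ (T : Subgroup G) ∧ Q ≤ U ∧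
      g ∈ Subgroup.normalizer (Q : Set G) ∧ g ∈ Subgroup.normalizer (U : Set G) ∧
      k ∈ Subgroup.normalizer (Q : Set G) ∧ k ∈ Subgroup.normalizer (U : Set G) ∧
      Cond p Q U (fun x => g * x * g⁻¹) (fun x => k * x * k⁻¹) := by
  classical
  obtain ⟨K, R, hn, ⟨e⟩⟩ := h
  let ψ : K →* Matrix.SpecialLinearGroup (Fin 3) (ZMod p) :=
    (Cfsg.qd p).subtype.comp (e.toMonoidHom.comp (QuotientGroup.mk' (R.subgroupOf K)))
  have hψs : ∀ A w, ∃ x, ψ x = affine A w := fun A w => by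
    obtain ⟨x, hx⟩ := QuotientGroup.mk'_surjective (R.subgroupOf K)
      (e.symm ⟨_, (mem_qd_iff _).2 ⟨A, w, rfl⟩⟩)
    exact ⟨x, by simp only [ψ, MonoidHom.comp_apply, hx]; simp⟩
  have hker : ∀ x : K, ψ x = 1 ↔ (x : G) ∈ R := fun x => by
    rw [← Subgroup.mem_subgroupOf, ← QuotientGroup.eq_one_iff]
    show (Cfsg.qd p).subtype _ = 1 ↔ _
    rw [map_eq_one_iff _ (Cfsg.qd p).subtype_injective]
    exact e.map_eq_one_iff
  have hψex : ∀ x : K, ∃ A w, ψ x = affine A w := fun x =>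
    (mem_qd_iff _).1 (e (QuotientGroup.mk' _ x)).2
  choose lin tr hψ using hψex
  let l : K →* Matrix.SpecialLinearGroup (Fin 2) (ZMod p) := MonoidHom.mk' lin fun x y =>
    (affine_inj (by rw [← hψ, map_mul, hψ, hψ, affine_mul])).1
  have hls : Function.Surjective l := fun A => by
    obtain ⟨x, hx⟩ := hψs A 0
    exact ⟨x, (affine_inj ((hψ x).symm.trans hx)).1⟩
  set W := l.ker with hW
  let P : Sylow p W := default
  let P' : Subgroup K := (P : Subgroup W).map W.subtype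
  have hP'W : P' ≤ W := Subgroup.map_subtype_le _
  have htr : ∀ x ∈ W, ψ x = affine 1 (tr x) := fun x hx => by rw [hψ x, show lin x = 1 from hx]
  let trW : W →* Multiplicative (Fin 2 → ZMod p) :=
    MonoidHom.mk' (fun x => Multiplicative.ofAdd (tr x)) fun x y => by
      rw [← ofAdd_add]
      refine congrArg Multiplicative.ofAdd (affine_inj (A := 1) (B := 1) ?_).2
      rw [← htr _ (x * y).2, Subgroup.coe_mul, map_mul, htr _ x.2, htr _ y.2, affine_mul, mul_one,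
        Matrix.SpecialLinearGroup.coe_one, Matrix.one_mulVec]
  have htrW : Function.Surjective trW := fun w => by
    obtain ⟨x, hx⟩ := hψs 1 (Multiplicative.toAdd w)
    have hxl := affine_inj ((hψ x).symm.trans hx)
    exact ⟨⟨x, hxl.1⟩, by simp [trW, hxl.2]⟩
  have htop : (P.mapSurjective htrW : Subgroup (Multiplicative (Fin 2 → ZMod p))) = ⊤ :=
    ((P.mapSurjective htrW).is_maximal'
      ((IsPGroup.of_card (p := p) (n := 2) (by simp)).to_subgroup ⊤) le_top).symm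
  have hPsurj : ∀ w, ∃ x ∈ P', tr x = w := fun w => by
    obtain ⟨x, hx, hxw⟩ := htop.ge (Subgroup.mem_top (Multiplicative.ofAdd w))
    exact ⟨x, ⟨x, hx, rfl⟩, Multiplicative.ofAdd.injective hxw⟩
  set N := Subgroup.normalizer (P' : Set K) with hN
  have hsup : N ⊔ W = ⊤ := Sylow.normalizer_sup_eq_top P
  have hfull : ∀ A, ∃ n ∈ N, l n = A := by
    intro A
    obtain ⟨x, rfl⟩ := hls A
    obtain ⟨n, hn', w, hw, rfl⟩ :=
      Subgroup.mem_sup_of_normal_right.1 (hsup.ge (Subgroup.mem_top x))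
    exact ⟨n, hn', by rw [map_mul, show l w = 1 from hw, mul_one]⟩
  obtain ⟨a, haN, haψ⟩ := hfull (up 1)
  obtain ⟨b, hbN, hbψ⟩ := hfull (lo 1)
  set U := P'.map K.subtype with hU
  set Q := R ⊓ U with hQ
  have hUK : U ≤ K := Subgroup.map_subtype_le _
  have hNU : ∀ n ∈ N, (n : G) ∈ Subgroup.normalizer (U : Set G) := fun n hn' =>
    Subgroup.le_normalizer_map K.subtype (Subgroup.mem_map_of_mem K.subtype hn')
  have hKQ : ∀ n : K, (n : G) ∈ Subgroup.normalizer (U : Set G) →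
      (n : G) ∈ Subgroup.normalizer (Q : Set G) := by
    intro n hn'
    refine conjBy_eq_iff.1 (conjBy_eq_of_le (conjBy_le_iff.2 fun x hx => ⟨?_, ?_⟩))
    · exact hn.conj_mem ⟨x, hUK hx.2⟩ hx.1 n
    · exact (Subgroup.mem_normalizer_iff.1 hn' x).1 hx.2
  have hUP : IsPGroup p U := (P.2.map W.subtype).map K.subtype
  let θ : G → Fin 2 → ZMod p := fun x => if hx : x ∈ K then tr ⟨x, hx⟩ else 0
  have hθ : ∀ x : K, θ x = tr x := fun x => dif_pos x.2
  have hmemP : ∀ (x : G) (hx : x ∈ U), (⟨x, hUK hx⟩ : K) ∈ P' := by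
    intro x hx
    obtain ⟨y, hy, hyx⟩ := hx
    rwa [show (⟨x, _⟩ : K) = y from Subtype.ext hyx.symm]
  have hconj : ∀ (n : K) (x : K), x ∈ W → tr (n * x * n⁻¹) = (lin n).1 *ᵥ tr x := by
    intro n x hx
    have h1 : ψ (n * x * n⁻¹) * ψ n = affine 1 ((lin n).1 *ᵥ tr x) * ψ n := by
      rw [← map_mul, inv_mul_cancel_right, map_mul, hψ n, htr x hx, affine_mul, affine_mul, mul_one,
        one_mul, Matrix.SpecialLinearGroup.coe_one, Matrix.one_mulVec, add_comm]
    have h2 := mul_right_cancel h1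
    rw [htr _ (Subgroup.Normal.conj_mem inferInstance _ hx n)] at h2
    exact (affine_inj h2).2
  have hc : IsCoord Q U (fun x => (a : G) * x * (a : G)⁻¹) (fun x => (b : G) * x * (b : G)⁻¹) θ := by
    refine ⟨fun x hx y hy => ?_, fun x hx => ?_, fun w => ?_, fun x hx => ?_, fun x hx => ?_⟩
    · have hx' := hP'W (hmemP x hx)
      have hy' := hP'W (hmemP y hy)
      rw [hθ ⟨x, hUK hx⟩, hθ ⟨y, hUK hy⟩]
      refine (hθ (⟨x, hUK hx⟩ * ⟨y, hUK hy⟩)).trans ?_
      have h := trW.map_mul ⟨_, hx'⟩ ⟨_, hy'⟩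
      exact congrArg Multiplicative.toAdd h
    · rw [hθ ⟨x, hUK hx⟩]
      constructor
      · intro h0
        refine ⟨(hker ⟨x, hUK hx⟩).1 ?_, hx⟩
        rw [htr _ (hP'W (hmemP x hx)), h0, affine_one]
      · rintro ⟨hxR, -⟩
        have h1 := (hker ⟨x, hUK hx⟩).2 hxR
        rw [htr _ (hP'W (hmemP x hx)), ← affine_one] at h1
        exact (affine_inj h1).2
    · obtain ⟨x, hx, rfl⟩ := hPsurj w
      exact ⟨x, ⟨x, hx, rfl⟩, hθ x⟩
    · rw [hθ ⟨x, hUK hx⟩, ← haψ, show l a = lin a from rfl, ← hconj a _ (hP'W (hmemP x hx)), ← hθ]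
      rfl
    · rw [hθ ⟨x, hUK hx⟩, ← hbψ, show l b = lin b from rfl, ← hconj b _ (hP'W (hmemP x hx)), ← hθ]
      rfl
  -- conjugate into `T`
  obtain ⟨c, hcT⟩ : ∃ c : G, conjBy c U ≤ (T : Subgroup G) := by
    obtain ⟨T₀, hT₀⟩ := hUP.exists_le_sylow
    obtain ⟨c, hc'⟩ := MulAction.exists_smul_eq G T₀ T
    exact ⟨c, by rw [← hc', Sylow.coe_subgroup_smul]; exact Subgroup.map_mono hT₀⟩
  have hnorm : ∀ {n : G} {X : Subgroup G}, n ∈ Subgroup.normalizer (X : Set G) →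
      c * n * c⁻¹ ∈ Subgroup.normalizer (conjBy c X : Set G) := fun {n X} hn' => by
    rw [← conjBy_normalizer]
    exact conj_mem_conjBy hn'
  refine ⟨conjBy c Q, conjBy c U, c * a * c⁻¹, c * b * c⁻¹, hcT, conjBy_mono inf_le_right,
    hnorm (hKQ a (hNU a haN)), hnorm (hNU a haN), hnorm (hKQ b (hNU b hbN)), hnorm (hNU b hbN), ?_⟩
  refine (cond_iff (fun x => c * x * c⁻¹) (fun y => ?_) (fun x _ => ?_) (fun x _ y _ => ?_)
    (fun x hx => (Subgroup.mem_normalizer_iff.1 (hNU a haN) x).1 hx)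
    (fun x hx => (Subgroup.mem_normalizer_iff.1 (hNU b hbN) x).1 hx)
    (fun x _ => by group) (fun x _ => by group)).1 ⟨θ, hc⟩
  · constructor
    · intro hy
      exact ⟨c⁻¹ * y * c, mem_conjBy.1 hy, by group⟩
    · rintro ⟨x, hx, rfl⟩
      exact conj_mem_conjBy hx
  · rw [mem_conjBy, show c⁻¹ * (c * x * c⁻¹) * c = x by group]
  · group

end CfsgLib.Qd
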