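import Cfsg.Agent.Lib.Qd.Elementary
import Mathlib.FieldTheory.IsAlgClosed.Basic
import Mathlib.GroupTheory.GroupAction.Basic

/-!
# The action of `SL₂` on the projective line and its fixed points
-/

set_option autoImplicit false

open Matrix

namespace CfsgLib.Qd

variable {k : Type*} [Field k]

local notation "SL₂[" k "]" => Matrix.SpecialLinearGroup (Fin 2) k

/-- The projective line, `none` being the point at infinity. -/
def Pt (k : Type*) : Type _ := Option k

/-- The point at infinity. -/
def inf : Pt k := none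

/-- A finite point. -/
def fin (z : k) : Pt k := some z

theorem Pt.cases' (x : Pt k) : x = inf ∨ ∃ z, x = fin z := by
  cases x with
  | none => exact Or.inl rfl
  | some z => exact Or.inr ⟨z, rfl⟩

theorem fin_ne_inf (z : k) : fin z ≠ inf := fun h => Option.some_ne_none z h

theorem fin_injective : Function.Injective (fin : k → Pt k) := fun _ _ h => Option.some_injective _ h

/-- A representing vector. -/
def vec : Pt k → k × k := fun x => match x with
  | none => (1, 0)
  | some z => (z, 1)

@[simp] theorem vec_inf : vec (inf : Pt k) = (1, 0) := rfl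

@[simp] theorem vec_fin (z : k) : vec (fin z) = (z, 1) := rfl

open Classical in
/-- The point of a vector. -/
noncomputable def toPt (v : k × k) : Pt k := if v.2 = 0 then inf else fin (v.1 / v.2)

/-- The linear action. -/
def lin (g : SL₂[k]) (v : k × k) : k × k :=
  (g.1 0 0 * v.1 + g.1 0 1 * v.2, g.1 1 0 * v.1 + g.1 1 1 * v.2)

theorem lin_mul (g h : SL₂[k]) (v : k × k) : lin (g * h) v = lin g (lin h v) := by
  simp only [lin, mul00, mul01, mul10, mul11]
  ext <;> simp <;> ring

theorem lin_smul (g : SL₂[k]) (c : k) (v : k × k) :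
    lin g (c * v.1, c * v.2) = (c * (lin g v).1, c * (lin g v).2) := by
  simp only [lin]
  ext <;> simp <;> ring

theorem lin_ne_zero (g : SL₂[k]) {v : k × k} (hv : v ≠ 0) : lin g v ≠ 0 := by
  intro h
  refine hv ?_
  have h1 : g.1 0 0 * v.1 + g.1 0 1 * v.2 = 0 := congrArg Prod.fst h
  have h2 : g.1 1 0 * v.1 + g.1 1 1 * v.2 = 0 := congrArg Prod.snd h
  have hd := det2 g
  have e1 : v.1 = 0 := by linear_combination g.1 1 1 * h1 - g.1 0 1 * h2 - v.1 * hd
  have e2 : v.2 = 0 := by linear_combination g.1 0 0 * h2 - g.1 1 0 * h1 - v.2 * hd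
  exact Prod.ext e1 e2

theorem vec_ne_zero (x : Pt k) : vec x ≠ 0 := by
  rcases Pt.cases' x with rfl | ⟨z, rfl⟩ <;> simp

theorem toPt_vec (x : Pt k) : toPt (vec x) = x := by
  rcases Pt.cases' x with rfl | ⟨z, rfl⟩ <;> simp [toPt]

theorem toPt_smul {c : k} (hc : c ≠ 0) (v : k × k) : toPt (c * v.1, c * v.2) = toPt v := by
  by_cases h : v.2 = 0
  · simp [toPt, h]
  · simp [toPt, h, hc, mul_div_mul_left]

theorem exists_vec_toPt {v : k × k} (hv : v ≠ 0) :
    ∃ c : k, c ≠ 0 ∧ vec (toPt v) = (c * v.1, c * v.2) := by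
  by_cases h : v.2 = 0
  · have h1 : v.1 ≠ 0 := fun e => hv (Prod.ext e h)
    exact ⟨v.1⁻¹, inv_ne_zero h1, by simp [toPt, h, h1]⟩
  · refine ⟨v.2⁻¹, inv_ne_zero h, ?_⟩
    simp [toPt, h, div_eq_inv_mul]

noncomputable instance : MulAction SL₂[k] (Pt k) where
  smul g x := toPt (lin g (vec x))
  one_smul x := by
    show toPt (lin (1 : SL₂[k]) (vec x)) = x
    have e : lin (1 : SL₂[k]) (vec x) = vec x := by simp [lin]
    rw [e, toPt_vec]
  mul_smul g h x := by
    show toPt (lin (g * h) (vec x)) = toPt (lin g (vec (toPt (lin h (vec x)))))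
    obtain ⟨c, hc, e⟩ := exists_vec_toPt (lin_ne_zero h (vec_ne_zero x))
    rw [e, lin_smul, toPt_smul hc, lin_mul]

theorem smul_def (g : SL₂[k]) (x : Pt k) : g • x = toPt (lin g (vec x)) := rfl

theorem smul_inf_of_eq {g : SL₂[k]} (h : g.1 1 0 = 0) : g • (inf : Pt k) = inf := by
  simp [smul_def, lin, toPt, h]

theorem smul_inf_of_ne {g : SL₂[k]} (h : g.1 1 0 ≠ 0) :
    g • (inf : Pt k) = fin (g.1 0 0 / g.1 1 0) := by
  simp [smul_def, lin, toPt, h]

theorem smul_inf_iff (g : SL₂[k]) : g • (inf : Pt k) = inf ↔ g.1 1 0 = 0 := by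
  refine ⟨fun h => ?_, smul_inf_of_eq⟩
  by_contra hne
  rw [smul_inf_of_ne hne] at h
  exact fin_ne_inf _ h

theorem up_smul_fin (a z : k) : up a • fin z = fin (z + a) := by
  simp [smul_def, lin, toPt]

theorem fix_fin_iff (g : SL₂[k]) (z : k) :
    g • fin z = fin z ↔ g.1 1 0 * z ^ 2 + (g.1 1 1 - g.1 0 0) * z - g.1 0 1 = 0 := by
  have hd := det2 g
  have e0 : g • fin z = toPt (g.1 0 0 * z + g.1 0 1, g.1 1 0 * z + g.1 1 1) := by
    simp [smul_def, lin]
  rw [e0, toPt]
  by_cases h : g.1 1 0 * z + g.1 1 1 = 0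
  · rw [if_pos h]
    refine iff_of_false (fun e => fin_ne_inf z e.symm) fun e => ?_
    refine zero_ne_one (α := k) ?_
    linear_combination hd - g.1 0 0 * h + g.1 1 0 * z * h - g.1 1 0 * e
  · rw [if_neg h, fin_injective.eq_iff, div_eq_iff h]
    constructor <;> intro e <;> linear_combination -e

variable [IsAlgClosed k] (h2 : (2 : k) ≠ 0)
include h2

/-- An element that is not scalar fixes one point when its trace is `±2` and two otherwise. -/
theorem card_fixed (g : SL₂[k]) (hg : ¬ (g.1 0 1 = 0 ∧ g.1 1 0 = 0 ∧ g.1 0 0 = g.1 1 1)) :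
    ∃ s : Finset (Pt k), (∀ x, x ∈ s ↔ g • x = x) ∧
      (((g.1 0 0 + g.1 1 1) ^ 2 = 4 ∧ s.card = 1) ∨
        ((g.1 0 0 + g.1 1 1) ^ 2 ≠ 4 ∧ s.card = 2)) := by
  classical
  set a := g.1 0 0
  set b := g.1 0 1
  set c := g.1 1 0
  set d := g.1 1 1
  have hd : a * d - b * c = 1 := det2 g
  by_cases hc : c = 0
  · by_cases had : a = d
    · refine ⟨{inf}, fun x => ?_, Or.inl ⟨?_, Finset.card_singleton _⟩⟩
      · rcases Pt.cases' x with rfl | ⟨z, rfl⟩
        · simp [smul_inf_of_eq (g := g) hc]
        · rw [Finset.mem_singleton, fix_fin_iff]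
          refine iff_of_false (fin_ne_inf z) fun e => hg ⟨?_, hc, had⟩
          linear_combination -e + z ^ 2 * hc - z * had
      · linear_combination 4 * hd + (4 * b) * hc + (a - d) * had
    · have had' : d - a ≠ 0 := sub_ne_zero.2 (Ne.symm had)
      refine ⟨{inf, fin (b / (d - a))}, fun x => ?_, Or.inr ⟨fun e => had' ?_,
        Finset.card_pair (fin_ne_inf _).symm⟩⟩
      · rcases Pt.cases' x with rfl | ⟨z, rfl⟩
        · simp [smul_inf_of_eq (g := g) hc]
        · rw [Finset.mem_insert, Finset.mem_singleton, fix_fin_iff, fin_injective.eq_iff,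
            eq_div_iff had']
          constructor
          · rintro (h | h)
            · exact absurd h (fin_ne_inf z)
            · linear_combination h + z ^ 2 * hc
          · intro h
            exact Or.inr (by linear_combination h - z ^ 2 * hc)
      · refine eq_zero_of_pow_eq_zero (n := 2) ?_
        linear_combination e - 4 * hd - (4 * b) * hc
  · obtain ⟨r, hr⟩ := IsAlgClosed.exists_eq_mul_self ((a + d) ^ 2 - 4)
    have hdisc : discrim c (d - a) (-b) = r * r := by
      rw [discrim, ← hr]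
      linear_combination -4 * hd
    haveI : NeZero (2 : k) := ⟨h2⟩
    refine ⟨{fin ((-(d - a) + r) / (2 * c)), fin ((-(d - a) - r) / (2 * c))}, fun x => ?_, ?_⟩
    · rcases Pt.cases' x with rfl | ⟨z, rfl⟩
      · rw [Finset.mem_insert, Finset.mem_singleton, smul_inf_iff]
        exact iff_of_false (not_or.2 ⟨(fin_ne_inf _).symm, (fin_ne_inf _).symm⟩) hc
      · rw [Finset.mem_insert, Finset.mem_singleton, fix_fin_iff, fin_injective.eq_iff,
          fin_injective.eq_iff, ← quadratic_eq_zero_iff hc hdisc z]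
        constructor <;> intro e <;> linear_combination e
    · by_cases hr0 : r = 0
      · refine Or.inl ⟨by linear_combination hr + r * hr0, ?_⟩
        rw [hr0]; simp
      · refine Or.inr ⟨fun e => hr0 (mul_self_eq_zero.1 (by linear_combination e - hr)),
          Finset.card_pair fun e => hr0 ?_⟩
        have e' := fin_injective e
        rw [div_eq_div_iff (mul_ne_zero h2 hc) (mul_ne_zero h2 hc)] at e'
        have : (4 * c) * r = 0 := by linear_combination e'
        rcases mul_eq_zero.1 this with h | h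
        · exact absurd h (mul_ne_zero (by
            rw [show (4 : k) = 2 * 2 by norm_num]; exact mul_ne_zero h2 h2) hc)
        · exact h

end CfsgLib.Qd
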