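import Mathlib
import Cfsg.Agent.Lib.Qd.Cond
import Cfsg.Agent.Lib.SU.Ctx
import Cfsg.Agent.Lib.Classical.HermOrder
import Cfsg.Agent.Lib.Fusion.ThompsonComplement

/-!
`Qd(p)` is not a section of `PSU₃(pⁿ)`: a normaliser of a non-trivial `p`-subgroup stabilises a totally
isotropic line, so its commutators have order dividing `p`.
-/

set_option autoImplicit false

namespace CfsgLib.Qd

open Matrix CfsgLib.SU

variable {F : Type*} [Field F] [Fintype F] {q : ℕ}

local notation "V3" => Fin 3 → F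

/-- The matrix of an element of `SU₃`. -/
def suMat : ↥(Cfsg.SU 3 F q) →* Matrix (Fin 3) (Fin 3) F :=
  (Cfsg.slToMat 3 F).comp (Cfsg.SU 3 F q).subtype

theorem suMat_form (C : UCtx F q) (g : ↥(Cfsg.SU 3 F q)) (u v : V3) :
    C.form (suMat g *ᵥ u) (suMat g *ᵥ v) = C.form u v := by
  rw [← C.hermForm_eq, ← C.hermForm_eq]; exact g.2 u v

theorem suMat_injective : Function.Injective (suMat (F := F) (q := q)) := fun a b h => Subtype.ext (Subtype.ext h)

theorem mulVec_inv_cancel (g : ↥(Cfsg.SU 3 F q)) (v : V3) : suMat g⁻¹ *ᵥ (suMat g *ᵥ v) = v := by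
  rw [Matrix.mulVec_mulVec, ← map_mul, inv_mul_cancel, map_one, Matrix.one_mulVec]

theorem mulVec_cancel_inv (g : ↥(Cfsg.SU 3 F q)) (v : V3) : suMat g *ᵥ (suMat g⁻¹ *ᵥ v) = v := by
  rw [Matrix.mulVec_mulVec, ← map_mul, mul_inv_cancel, map_one, Matrix.one_mulVec]

/-- A frame on an isotropic vector. -/
theorem exists_frame (C : UCtx F q) {e : V3} (he : e ≠ 0) (hee : C.form e e = 0) :
    ∃ x y : V3, C.form x e = 0 ∧ C.form x x ≠ 0 ∧ C.form y e = 1 ∧
      ∀ v : V3, ∃ a b c : F, v = a • e + b • x + c • y := by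
  obtain ⟨y, hy⟩ := C.exists_form_eq_one he
  obtain ⟨x, hx, hxe, hxy⟩ := C.exists_orth_two (by omega) e y
  have hey : C.form e y = 1 := by rw [← C.bar_form, hy, map_one]
  have hli : LinearIndependent F ![e, x, y] := by
    rw [Fintype.linearIndependent_iff]
    intro g hg
    rw [Fin.sum_univ_three] at hg
    simp only [Matrix.cons_val_zero, Matrix.cons_val_one, Matrix.cons_val_two, Matrix.tail_cons,
      Matrix.head_cons] at hg
    have h2 : g 2 = 0 := by
      have h := congrArg (fun v => C.form v e) hg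
      simp only [C.form_add_left, C.form_smul_left, hee, hxe, hy, C.form_zero_left] at h
      linear_combination h
    have h0 : g 0 = 0 := by
      have h := congrArg (fun v => C.form v y) hg
      simp only [C.form_add_left, C.form_smul_left, hey, hxy, h2, C.form_zero_left] at h
      linear_combination h
    have h1 : g 1 = 0 := by
      rw [h0, h2, zero_smul, zero_smul, zero_add, add_zero] at hg
      exact (smul_eq_zero.1 hg).resolve_right hx
    intro i
    fin_cases i <;> assumption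
  let b := basisOfLinearIndependentOfCardEqFinrank hli (by simp)
  have hdec : ∀ v : V3, ∃ a c d : F, v = a • e + c • x + d • y := fun v => by
    refine ⟨b.repr v 0, b.repr v 1, b.repr v 2, ?_⟩
    conv_lhs => rw [← b.sum_repr v]
    rw [Fin.sum_univ_three, coe_basisOfLinearIndependentOfCardEqFinrank]
    rfl
  refine ⟨x, y, hxe, fun hxx => hx (C.eq_zero_of_form fun v => ?_), hy, hdec⟩
  obtain ⟨a, c, d, rfl⟩ := hdec v
  rw [C.form_add_right, C.form_add_right, C.form_smul_right, C.form_smul_right, C.form_smul_right, hxe, hxx, hxy]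
  ring

/-- A normaliser of a nontrivial `p`-subgroup stabilises an isotropic line. -/
theorem exists_stable_line (C : UCtx F q) {p : ℕ} [Fact p.Prime] [CharP F p]
    (U : Subgroup ↥(Cfsg.SU 3 F q)) (hU : IsPGroup p U) (hU1 : U ≠ ⊥) :
    ∃ e : V3, e ≠ 0 ∧ C.form e e = 0 ∧
      ∀ g ∈ Subgroup.normalizer (U : Set ↥(Cfsg.SU 3 F q)), ∃ c : F, suMat g *ᵥ e = c • e := by
  classical
  let W : Submodule F V3 :=
    { carrier := {v | ∀ u ∈ U, suMat u *ᵥ v = v}
      add_mem' := fun {a b} ha hb u hu => by rw [Matrix.mulVec_add, ha u hu, hb u hu]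
      zero_mem' := fun u _ => Matrix.mulVec_zero _
      smul_mem' := fun c a ha u hu => by rw [Matrix.mulVec_smul, ha u hu] }
  let P : AddSubgroup V3 :=
    { carrier := {v | ∀ w ∈ W, C.form v w = 0}
      add_mem' := fun {a b} ha hb w hw => by rw [C.form_add_left, ha w hw, hb w hw, add_zero]
      zero_mem' := fun w _ => C.form_zero_left w
      neg_mem' := fun {a} ha w hw => by rw [C.form_neg_left, ha w hw, neg_zero] }
  have hWtop : W ≠ ⊤ := fun h => hU1 ((Subgroup.eq_bot_iff_forall _).2 fun u hu => suMat_injective (by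
    rw [map_one]
    refine Matrix.ext_iff_mulVec.2 fun v => ?_
    rw [Matrix.one_mulVec]
    exact (h ▸ Submodule.mem_top : v ∈ W) u hu))
  obtain ⟨v₀, hv₀, hv₀0⟩ : ∃ v ∈ P, v ≠ 0 := by
    let b := Module.finBasis F W
    have hlt : Module.finrank F W < 3 := by
      have := Submodule.finrank_lt hWtop
      rwa [Module.finrank_fin_fun] at this
    let L : V3 →ₗ[F] (Fin (Module.finrank F W) → F) :=
      { toFun := fun v i => C.form v (b i : V3)
        map_add' := fun u v => funext fun i => C.form_add_left _ _ _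
        map_smul' := fun c v => funext fun i => C.form_smul_left _ _ _ }
    obtain ⟨v, hv, hv0⟩ := Submodule.exists_mem_ne_zero_of_ne_bot (LinearMap.ker_ne_bot_of_finrank_lt (f := L)
      (by rw [Module.finrank_fin_fun, Module.finrank_fin_fun]; exact hlt))
    refine ⟨v, fun w hw => C.form_swap_zero ?_, hv0⟩
    have hw' : w = ∑ i, b.repr ⟨w, hw⟩ i • (b i : V3) := by
      have h := congrArg W.subtype (b.sum_repr ⟨w, hw⟩)
      rw [map_sum] at h
      simp only [Submodule.subtype_apply, Submodule.coe_smul] at h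
      exact h.symm
    rw [hw', C.form_sum_left]
    refine Finset.sum_eq_zero fun i _ => ?_
    rw [C.form_smul_left, C.form_swap_zero (congrFun (LinearMap.mem_ker.1 hv) i : C.form v (b i : V3) = 0), mul_zero]
  -- a fixed point of `U` in the orthogonal
  let act : U → P → P := fun u v => ⟨suMat (u : ↥(Cfsg.SU 3 F q)) *ᵥ (v : V3), fun w hw => by
    rw [← hw u u.2, suMat_form]; exact v.2 w hw⟩
  letI : MulAction U P :=
    { smul := act
      one_smul := fun v => Subtype.ext (show suMat ((1 : U) : ↥(Cfsg.SU 3 F q)) *ᵥ (v : V3) = v by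
        rw [OneMemClass.coe_one, map_one, Matrix.one_mulVec])
      mul_smul := fun u u' v => show act (u * u') v = act u (act u' v) from
        Subtype.ext (by simp [act, Matrix.mulVec_mulVec]) }
  have hfix0 : (0 : P) ∈ MulAction.fixedPoints U P := fun u => show act u 0 = 0 from
    Subtype.ext (by simp [act])
  have hdvd : p ∣ Nat.card P := by
    haveI : Nontrivial P := ⟨⟨v₀, hv₀⟩, 0, fun h => hv₀0 (congrArg Subtype.val h)⟩
    have h : addOrderOf (⟨v₀, hv₀⟩ : P) = p := addOrderOf_eq_prime (Subtype.ext (by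
      show p • v₀ = 0
      rw [← Nat.cast_smul_eq_nsmul F, CharP.cast_eq_zero, zero_smul]))
      (fun h => hv₀0 (congrArg Subtype.val h))
    rw [← h]; exact addOrderOf_dvd_natCard _
  obtain ⟨e, he, he0⟩ := hU.exists_fixed_point_of_prime_dvd_card_of_fixed_point P hdvd hfix0
  have heW : (e : V3) ∈ W := fun u hu => congrArg Subtype.val (he ⟨u, hu⟩)
  have hee : C.form (e : V3) (e : V3) = 0 := e.2 _ heW
  have hne : (e : V3) ≠ 0 := fun h => he0 (Subtype.ext h.symm)
  refine ⟨e, hne, hee, fun g hg => ?_⟩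
  have hgW : suMat g *ᵥ (e : V3) ∈ W := fun u hu => by
    have h := heW _ ((Subgroup.mem_normalizer_iff'.1 hg (g⁻¹ * u)).2 (by rwa [mul_inv_cancel_left]))
    rw [map_mul, map_mul, ← Matrix.mulVec_mulVec, ← Matrix.mulVec_mulVec] at h
    have := congrArg (suMat g *ᵥ ·) h
    simp only [mulVec_cancel_inv] at this
    exact this
  have h1 : C.form (suMat g *ᵥ (e : V3)) e = 0 := C.form_swap_zero (e.2 _ hgW)
  obtain ⟨x, y, hxe, hxx, hye, hdec⟩ := exists_frame C hne hee
  obtain ⟨a, b, c, hw⟩ := hdec (suMat g *ᵥ (e : V3))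
  have hc : c = 0 := by
    have h := h1
    rw [hw, C.form_add_left, C.form_add_left, C.form_smul_left, C.form_smul_left, C.form_smul_left,
      hee, hxe, hye] at h
    linear_combination h
  have hb : b = 0 := by
    have h : C.form (suMat g *ᵥ (e : V3)) (suMat g *ᵥ (e : V3)) = 0 := by rw [suMat_form]; exact hee
    rw [hw, hc, zero_smul, add_zero] at h
    simp only [C.form_add_left, C.form_add_right, C.form_smul_left, C.form_smul_right, hee, hxe,
      C.form_swap_zero hxe, mul_zero, zero_add, add_zero] at h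
    rcases mul_eq_zero.1 h with h | h
    · exact h
    · rcases mul_eq_zero.1 h with h | h
      · exact C.bar.map_eq_zero_iff.1 h
      · exact absurd h hxx
  exact ⟨a, by rw [hw, hc, hb, zero_smul, zero_smul, add_zero, add_zero]⟩

/-- Commutators in the stabiliser of an isotropic line have exponent `p`. -/
theorem commutator_pow_p (C : UCtx F q) {p : ℕ} [Fact p.Prime] [CharP F p] (hp : p ≠ 2)
    {e : V3} (he : e ≠ 0) (hee : C.form e e = 0) (g k : ↥(Cfsg.SU 3 F q))
    (hg : ∃ c : F, suMat g *ᵥ e = c • e) (hk : ∃ c : F, suMat k *ᵥ e = c • e) :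
    (g * k * g⁻¹ * k⁻¹) ^ p = 1 := by
  classical
  obtain ⟨x, y, hxe, hxx, hye, hdec⟩ := exists_frame C he hee
  let Tri : ↥(Cfsg.SU 3 F q) → Fˣ → Fˣ → Prop := fun z s t =>
    suMat z *ᵥ e = (s : F) • e ∧ ∃ α : F, suMat z *ᵥ x = α • e + (t : F) • x
  have mulTri : ∀ {z z' s t s' t'}, Tri z s t → Tri z' s' t' → Tri (z * z') (s * s') (t * t') := by
    rintro z z' s t s' t' ⟨h1, α, h2⟩ ⟨h3, β, h4⟩
    refine ⟨?_, β * s + t' * α, ?_⟩
    · rw [map_mul, ← Matrix.mulVec_mulVec, h3, Matrix.mulVec_smul, h1, smul_smul, Units.val_mul, mul_comm]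
    · rw [map_mul, ← Matrix.mulVec_mulVec, h4, Matrix.mulVec_add, Matrix.mulVec_smul, Matrix.mulVec_smul, h1, h2,
        Units.val_mul]
      module
  have invTri : ∀ {z s t}, Tri z s t → Tri z⁻¹ s⁻¹ t⁻¹ := by
    rintro z s t ⟨h1, α, h2⟩
    have e1 : suMat z⁻¹ *ᵥ e = ((s⁻¹ : Fˣ) : F) • e := by
      have h := congrArg (suMat z⁻¹ *ᵥ ·) h1
      simp only [mulVec_inv_cancel, Matrix.mulVec_smul] at h
      conv_rhs => rw [h]
      rw [smul_smul, Units.inv_mul, one_smul]
    refine ⟨e1, -(((t⁻¹ : Fˣ) : F) * α * ((s⁻¹ : Fˣ) : F)), ?_⟩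
    have h := congrArg (suMat z⁻¹ *ᵥ ·) h2
    simp only [mulVec_inv_cancel, Matrix.mulVec_add, Matrix.mulVec_smul, e1, smul_smul] at h
    have h' := congrArg (((t⁻¹ : Fˣ) : F) • ·) h
    simp only [smul_add, smul_smul, Units.inv_mul, one_smul] at h'
    rw [h']
    module
  have exTri : ∀ z : ↥(Cfsg.SU 3 F q), (∃ c : F, suMat z *ᵥ e = c • e) → ∃ s t, Tri z s t := by
    rintro z ⟨c, hc⟩
    have hc0 : c ≠ 0 := by
      rintro rfl
      have h := congrArg (suMat z⁻¹ *ᵥ ·) hc
      simp only [mulVec_inv_cancel, zero_smul, Matrix.mulVec_zero] at h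
      exact he h
    obtain ⟨α, t, γ, hx'⟩ := hdec (suMat z *ᵥ x)
    have hγ : γ = 0 := by
      have h := suMat_form C z x e
      rw [hc, hx', hxe, C.form_smul_right, C.form_add_left, C.form_add_left, C.form_smul_left, C.form_smul_left,
        C.form_smul_left, hee, hxe, hye] at h
      rcases mul_eq_zero.1 h with h | h
      · exact absurd (C.bar.map_eq_zero_iff.1 h) hc0
      · linear_combination h
    rw [hγ, zero_smul, add_zero] at hx'
    have ht : t ≠ 0 := by
      rintro rfl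
      have h := congrArg (suMat z⁻¹ *ᵥ ·) (hx'.trans (by rw [zero_smul, add_zero] : _ = α • e))
      have he' : suMat z⁻¹ *ᵥ e = c⁻¹ • e := by
        have h3 := congrArg (suMat z⁻¹ *ᵥ ·) hc
        simp only [mulVec_inv_cancel, Matrix.mulVec_smul] at h3
        conv_rhs => rw [h3]
        rw [smul_smul, inv_mul_cancel₀ hc0, one_smul]
      simp only [mulVec_inv_cancel, Matrix.mulVec_smul, he', smul_smul] at h
      apply hxx
      rw [h, C.form_smul_left, C.form_smul_right, hee, mul_zero, mul_zero]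
    exact ⟨Units.mk0 c hc0, Units.mk0 t ht, hc, α, hx'⟩
  obtain ⟨s, t, hgT⟩ := exTri g hg
  obtain ⟨s', t', hkT⟩ := exTri k hk
  have hz := mulTri (mulTri (mulTri hgT hkT) (invTri hgT)) (invTri hkT)
  rw [mul_comm s s', mul_inv_cancel_right, mul_inv_cancel, mul_comm t t', mul_inv_cancel_right, mul_inv_cancel] at hz
  obtain ⟨z1, α, z2⟩ := hz
  set z := g * k * g⁻¹ * k⁻¹
  rw [Units.val_one, one_smul] at z1 z2
  obtain ⟨β, γ, δ, z3⟩ := hdec (suMat z *ᵥ y)
  have hδ : δ = 1 := by
    have h := suMat_form C z y e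
    rw [z1, z3, C.form_add_left, C.form_add_left, C.form_smul_left, C.form_smul_left, C.form_smul_left, hee,
      hxe, hye] at h
    linear_combination h
  rw [hδ, one_smul] at z3
  have hN : (suMat z - 1) ^ 3 = 0 := by
    refine Matrix.ext_iff_mulVec.2 fun v => ?_
    obtain ⟨a, b, c, rfl⟩ := hdec v
    simp only [pow_succ, pow_zero, one_mul, ← Matrix.mulVec_mulVec, Matrix.mulVec_add, Matrix.mulVec_smul,
      Matrix.sub_mulVec, Matrix.one_mulVec, Matrix.mulVec_sub, z1, z2, z3, Matrix.zero_mulVec]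
    module
  refine suMat_injective ?_
  rw [map_pow, map_one]
  have h3 : 3 ≤ p := by have := (Fact.out (p := p.Prime)).two_le; omega
  haveI : CharP (Matrix (Fin 3) (Fin 3) F) p :=
    charP_of_injective_ringHom (f := (Matrix.scalar (Fin 3) : F →+* Matrix (Fin 3) (Fin 3) F))
      (fun a b h => by simpa using congrFun (congrFun h 0) 0) p
  have h4 : (suMat z - 1) ^ p = 0 := pow_eq_zero_of_le h3 hN
  rw [sub_pow_char_of_commute _ (Commute.one_right _), one_pow, sub_eq_zero] at h4
  exact h4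

/-- `Qd(p)` is not involved in `SU₃`. -/
theorem qd_not_involved_su_three (C : UCtx F q) {p : ℕ} [Fact p.Prime] [CharP F p] (hp : p ≠ 2) :
    ¬ Cfsg.Involves ↥(Cfsg.qd p) ↥(Cfsg.SU 3 F q) := by
  classical
  intro h
  haveI : Finite ↥(Cfsg.SU 3 F q) := Finite.of_injective _ (suMat_injective (F := F) (q := q))
  obtain ⟨Q, U, g, k, hUT, hQU, hgQ, hgU, hkQ, hkU, θ, hθ⟩ :=
    exists_cond_of_involves (Classical.arbitrary (Sylow p ↥(Cfsg.SU 3 F q))) h
  have hUp : IsPGroup p U := (Sylow.isPGroup' _).to_le hUT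
  have hU1 : U ≠ ⊥ := by
    intro hb
    obtain ⟨x, hx, hxw⟩ := hθ.surj ![1, 0]
    rw [hb, Subgroup.mem_bot] at hx
    rw [hx, hθ.map_one] at hxw
    simpa using congrFun hxw 0
  obtain ⟨e, he, hee, hstab⟩ := exists_stable_line C U hUp hU1
  have hz := commutator_pow_p C hp he hee g k (hstab g hgU) (hstab k hkU)
  let Act : ↥(Cfsg.SU 3 F q) → Matrix.SpecialLinearGroup (Fin 2) (ZMod p) → Prop :=
    fun z M => z ∈ Subgroup.normalizer (U : Set ↥(Cfsg.SU 3 F q)) ∧ ∀ x ∈ U, θ (z * x * z⁻¹) = M.1 *ᵥ θ x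
  have hmul : ∀ {z z' M M'}, Act z M → Act z' M' → Act (z * z') (M * M') := by
    rintro z z' M M' ⟨hz, hM⟩ ⟨hz', hM'⟩
    refine ⟨mul_mem hz hz', fun x hx => ?_⟩
    rw [show z * z' * x * (z * z')⁻¹ = z * (z' * x * z'⁻¹) * z⁻¹ by group,
      hM _ ((Subgroup.mem_normalizer_iff.1 hz' x).1 hx), hM' x hx, Matrix.mulVec_mulVec,
      Matrix.SpecialLinearGroup.coe_mul]
  have hinv : ∀ {z M}, Act z M → Act z⁻¹ M⁻¹ := by
    rintro z M ⟨hz, hM⟩
    refine ⟨inv_mem hz, fun x hx => ?_⟩
    have hx' : z⁻¹ * x * z⁻¹⁻¹ ∈ U := (Subgroup.mem_normalizer_iff.1 (inv_mem hz) x).1 hx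
    have h := hM _ hx'
    rw [show z * (z⁻¹ * x * z⁻¹⁻¹) * z⁻¹ = x by group] at h
    rw [h, Matrix.mulVec_mulVec, ← Matrix.SpecialLinearGroup.coe_mul, inv_mul_cancel,
      Matrix.SpecialLinearGroup.coe_one, Matrix.one_mulVec]
  have ha : Act g (up 1) := ⟨hgU, hθ.map_a⟩
  have hb : Act k (lo 1) := ⟨hkU, hθ.map_b⟩
  set M : Matrix.SpecialLinearGroup (Fin 2) (ZMod p) := up 1 * lo 1 * (up 1)⁻¹ * (lo 1)⁻¹ with hM
  have hc := hmul (hmul (hmul ha hb) (hinv ha)) (hinv hb)
  have hpw : ∀ n : ℕ, Act ((g * k * g⁻¹ * k⁻¹) ^ n) (M ^ n) := by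
    intro n
    induction n with
    | zero => exact ⟨one_mem _, fun x _ => by simp⟩
    | succ n ih => rw [pow_succ, pow_succ]; exact hmul ih hc
  have hMp : M ^ p = 1 := by
    refine Subtype.ext (Matrix.ext_iff_mulVec.2 fun v => ?_)
    obtain ⟨x, hx, rfl⟩ := hθ.surj v
    have h := (hpw p).2 x hx
    rw [hz, one_mul, inv_one, mul_one] at h
    rw [← h, Matrix.SpecialLinearGroup.coe_one, Matrix.one_mulVec]
  have h4 : (M.1 - 1) ^ p = 0 := by
    haveI : CharP (Matrix (Fin 2) (Fin 2) (ZMod p)) p :=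
      charP_of_injective_ringHom (f := (Matrix.scalar (Fin 2) : ZMod p →+* Matrix (Fin 2) (Fin 2) (ZMod p)))
        (fun a b h => by simpa using congrFun (congrFun h 0) 0) p
    rw [sub_pow_char_of_commute _ (Commute.one_right _), one_pow, ← Matrix.SpecialLinearGroup.coe_pow, hMp,
      Matrix.SpecialLinearGroup.coe_one, sub_self]
  have htr : IsNilpotent (M.1 - 1).trace := Matrix.isNilpotent_trace_of_isNilpotent ⟨p, h4⟩
  rw [isNilpotent_iff_eq_zero] at htr
  simp [hM, Matrix.trace_fin_two, mul01, mul10, mul11, up_inv, lo_inv] at htr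
  exact one_ne_zero (α := ZMod p) (by linear_combination htr)

end CfsgLib.Qd
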