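import Cfsg.Agent.Lib.Qd.Linear
import Mathlib.FieldTheory.Finite.Basic

/-!
# Two quadratic linear maps with a split product
-/

set_option autoImplicit false
set_option linter.style.haveILetI false
set_option linter.unusedSectionVars false

open Matrix

namespace CfsgLib.Qd

universe u

variable {p : ℕ} [hp : Fact p.Prime]

theorem two_quad_exists_eigen_sl2 {L : Type*} [Field L] [IsAlgClosed L] [CharP L p]
    (c : L) {e k : ℕ} (h : (up (1 : L) * lo c) ^ (p ^ e * k) = 1) :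
    ∃ μ : L, μ ≠ 0 ∧ μ ^ k = 1 ∧ c = μ + μ⁻¹ - 2 := by
  obtain ⟨μ, hμ⟩ := IsAlgClosed.exists_root
    (Polynomial.C 1 * Polynomial.X ^ 2 + Polynomial.C (-(c + 2)) * Polynomial.X + Polynomial.C 1)
    (by rw [Polynomial.degree_quadratic one_ne_zero]; norm_num)
  simp at hμ
  have hμ0 : μ ≠ 0 := fun e0 => by simp [e0] at hμ
  set M : Matrix (Fin 2) (Fin 2) L := (up (1 : L) * lo c).1 with hM
  have hMe : M = !![1 + c, 1; c, 1] := by
    rw [hM, Matrix.SpecialLinearGroup.coe_mul, up_coe, lo_coe]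
    ext i j
    fin_cases i <;> fin_cases j <;> simp [Matrix.mul_apply, Fin.sum_univ_two]
  have hdet : (M - Matrix.scalar (Fin 2) μ).det = 0 := by
    rw [hMe, Matrix.det_fin_two]
    simp [Matrix.scalar_apply]
    linear_combination hμ
  obtain ⟨v, hv, hMv⟩ := Matrix.exists_mulVec_eq_zero_iff.2 hdet
  rw [Matrix.sub_mulVec, sub_eq_zero] at hMv
  have hMv' : M *ᵥ v = μ • v := by
    rw [hMv]
    ext i
    simp [Matrix.scalar_apply, Matrix.mulVec_diagonal]
  have hpow : ∀ j : ℕ, (M ^ j) *ᵥ v = μ ^ j • v := by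
    intro j
    induction j with
    | zero => simp
    | succ j ih => rw [pow_succ, ← Matrix.mulVec_mulVec, hMv', Matrix.mulVec_smul, ih, smul_smul, ← pow_succ']
  have hM1 : M ^ (p ^ e * k) = 1 := by
    rw [hM, ← Matrix.SpecialLinearGroup.coe_pow, h]; rfl
  have h1 := hpow (p ^ e * k)
  rw [hM1, Matrix.one_mulVec] at h1
  have h2 : μ ^ (p ^ e * k) = 1 := by
    by_contra hne
    have h3 : (μ ^ (p ^ e * k) - 1) • v = 0 := by rw [sub_smul, one_smul, ← h1, sub_self]
    exact hv ((smul_eq_zero.1 h3).resolve_left (sub_ne_zero.2 hne))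
  refine ⟨μ, hμ0, ?_, ?_⟩
  · rw [mul_comm, pow_mul] at h2
    have h3 : (μ ^ k - 1) ^ p ^ e = 0 := by rw [sub_pow_char_pow, h2, one_pow, sub_self]
    exact sub_eq_zero.1 ((pow_eq_zero_iff (pow_ne_zero _ hp.out.ne_zero)).1 h3)
  · field_simp
    linear_combination -hμ

theorem mem_range_of_pow_card_eq {K L : Type*} [Field K] [Fintype K] [Field L] [Algebra K L] (x : L)
    (hx : x ^ (Fintype.card K - 1) = 1) : ∃ y : K, algebraMap K L y = x := by
  classical
  have hq : 1 < Fintype.card K := Fintype.one_lt_card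
  set P : Polynomial K := Polynomial.X ^ Fintype.card K - Polynomial.X with hP
  have hP0 : P ≠ 0 := FiniteField.X_pow_card_sub_X_ne_zero K hq
  have hsp : P.Splits := by
    rw [Polynomial.splits_iff_card_roots, FiniteField.roots_X_pow_card_sub_X,
      FiniteField.X_pow_card_sub_X_natDegree_eq K hq]
    rfl
  have hroots := Polynomial.Splits.roots_map hsp (algebraMap K L)
  have hmem : x ∈ (P.map (algebraMap K L)).roots := by
    refine Polynomial.mem_roots'.2 ⟨(Polynomial.map_ne_zero hP0), ?_⟩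
    have : x ^ Fintype.card K = x := by
      conv_lhs => rw [← Nat.sub_add_cancel hq.le, pow_succ, hx, one_mul]
    simp [hP, this]
  rw [hroots, Multiset.mem_map] at hmem
  obtain ⟨y, -, hy⟩ := hmem
  exact ⟨y, hy⟩

theorem two_quadratic_hom {K : Type u} [Field K] [Fintype K] [CharP K p] {n : Type*} [Fintype n] [DecidableEq n]
    {G : Type*} [Group G] [Finite G] (R : G →* Matrix n n K) (hR : Function.Injective R) (a b : G)
    (hgen : Subgroup.closure {a, b} = ⊤)
    (ha : (R a - 1) * (R a - 1) = 0) (hb : (R b - 1) * (R b - 1) = 0) (hnp : ¬ IsPGroup p G)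
    {e k : ℕ} (hord : orderOf (a * b) = p ^ e * k) (hk : k ∣ Fintype.card K - 1) :
    ∃ φ : G →* Matrix.SpecialLinearGroup (Fin 2) K, ¬ IsPGroup p φ.range := by
  have hnil : ∀ m : ℕ, ((R a - 1) * (R b - 1)) ^ m ≠ 0 := by
    intro m hm
    refine hnp fun g => ?_
    obtain ⟨j, hj⟩ := exists_pow_eq_one (p := p) R a b ha hb hm (g := g) (hgen ▸ Subgroup.mem_top g)
    exact ⟨j, hR (by rw [map_pow, hj, map_one])⟩
  let L := AlgebraicClosure K
  let f := algebraMap K L
  haveI : CharP L p := charP_of_injective_algebraMap f.injective p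
  let RL : G →* Matrix n n L := f.mapMatrix.toMonoidHom.comp R
  have hRL : ∀ x, RL x - 1 = f.mapMatrix (R x - 1) := fun x => by rw [map_sub, map_one]; rfl
  have hsq : ∀ x, (R x - 1) * (R x - 1) = 0 → (RL x - 1) * (RL x - 1) = 0 := fun x h => by
    rw [hRL, ← map_mul, h, map_zero]
  obtain ⟨c, hc, v, hv, hev⟩ := exists_eigen_of_not_nilpotent (K := L) _ hnil
  obtain ⟨P, hP, ψ, hψ, hψa, hψb⟩ :=
    exists_natural RL a b (hsq a ha) (hsq b hb) hc hv (by rw [hRL, hRL, ← map_mul]; exact hev)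
  have hN : (up (1 : L) * lo c) ^ (p ^ e * k) = 1 := by
    rw [← hψa, ← hψb, ← map_mul, ← map_pow, show ((⟨a, Subgroup.subset_closure (Or.inl rfl)⟩ :
      ↥(Subgroup.closure {a, b})) * ⟨b, Subgroup.subset_closure (Or.inr rfl)⟩) ^ (p ^ e * k) = 1 from
        Subtype.ext (by rw [← hord]; exact pow_orderOf_eq_one (a * b)), map_one]
  obtain ⟨μ, hμ0, hμk, hcμ⟩ := two_quad_exists_eigen_sl2 (p := p) c hN
  obtain ⟨j, hj⟩ := hk
  obtain ⟨y, hy⟩ := mem_range_of_pow_card_eq (K := K) μ (by rw [hj, pow_mul, hμk, one_pow])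
  set c₀ : K := y + y⁻¹ - 2 with hc₀
  have hfc : f c₀ = c := by rw [hc₀, hcμ, ← hy]; simp [f, map_sub, map_add, map_inv₀, map_ofNat]
  have hc0 : c₀ ≠ 0 := fun e0 => hc (by rw [← hfc, e0, map_zero])
  have hdet : (Matrix.scalar n c₀ - (R a - 1) * (R b - 1)).det = 0 := by
    refine f.injective ?_
    rw [f.map_det, map_zero, map_sub, map_mul]
    refine Matrix.exists_mulVec_eq_zero_iff.1 ⟨v, hv, ?_⟩
    have hsc : f.mapMatrix (Matrix.scalar n c₀) = Matrix.scalar n c := by
      simp [Matrix.scalar_apply, Matrix.diagonal_map, hfc]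
    rw [hsc, Matrix.sub_mulVec, sub_eq_zero, ← map_mul]
    refine Eq.trans ?_ hev.symm
    ext i
    simp [Matrix.scalar_apply, Matrix.mulVec_diagonal]
  obtain ⟨w, hw, hwe⟩ := Matrix.exists_mulVec_eq_zero_iff.2 hdet
  rw [Matrix.sub_mulVec, sub_eq_zero] at hwe
  obtain ⟨P', -, φ, -, hφa, hφb⟩ := exists_natural R a b ha hb hc0 hw (by
    rw [← hwe]
    ext i
    simp [Matrix.scalar_apply, Matrix.mulVec_diagonal])
  let ι : G →* ↥(Subgroup.closure {a, b}) := MonoidHom.mk' (fun g => ⟨g, hgen ▸ Subgroup.mem_top g⟩) fun _ _ => rfl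
  refine ⟨φ.comp ι, fun hpg => ?_⟩
  have hmem : up (1 : K) * lo c₀ ∈ (φ.comp ι).range := by
    refine ⟨a * b, ?_⟩
    rw [← hφa, ← hφb, ← map_mul]
    rfl
  obtain ⟨i, hi⟩ := hpg ⟨_, hmem⟩
  have h1 : (up (1 : K) * lo c₀) ^ p ^ i = 1 := congrArg Subtype.val hi
  have h2 : (up (1 : L) * lo c) ^ (p ^ i * 1) = 1 := by
    rw [mul_one]
    refine Subtype.ext ?_
    have h3 := congrArg (fun M : Matrix.SpecialLinearGroup (Fin 2) K => f.mapMatrix (M : Matrix (Fin 2) (Fin 2) K)) h1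
    simp only [Matrix.SpecialLinearGroup.coe_pow, Matrix.SpecialLinearGroup.coe_mul, map_pow, map_mul,
      Matrix.SpecialLinearGroup.coe_one, map_one] at h3 ⊢
    have eu : f.mapMatrix !![1, (1 : K); 0, 1] = !![1, 1; 0, 1] := by
      ext r t; fin_cases r <;> fin_cases t <;> simp
    have el : f.mapMatrix !![1, 0; c₀, 1] = !![1, 0; c, 1] := by
      ext r t; fin_cases r <;> fin_cases t <;> simp [hfc]
    simp only [up_coe, lo_coe] at h3 ⊢
    rwa [eu, el] at h3
  obtain ⟨ν, -, hν, hcν⟩ := two_quad_exists_eigen_sl2 (p := p) c h2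
  rw [pow_one] at hν
  subst hν
  exact hc (by rw [hcν]; norm_num)

end CfsgLib.Qd
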